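import Cfsg.Agent.LV.Cl.Em
import Cfsg.Agent.Tits.Roots
import Cfsg.Agent.Tits.Generic
import Mathlib.Analysis.Complex.Basic
import Mathlib.Tactic.Ring
import Mathlib.Tactic.Linarith
import Mathlib.Tactic.LinearCombination
import Cfsg.Agent.FastGrp
import Cfsg.Agent.Prune
set_option linter.all false

section
prune_inst 0x7fbcfdf8efa9afffffff7e3fffdbfdfc8180cfffa4dff973ffe16bbfcb1f13250bc5f7876de050fede57e0b410a87843fb7eefffe86fdc7ffffdfff41ffbee4ff5f7350851949c340fbc0ffe83f0778a6f3ffffffffffffffffffff7fffffffffffff3feffff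

-- part: LV/Cl/Par
section
set_option linter.all false
open scoped Cfsg.Agent.FastGrp

/-!
# LV, classical groups: beta lists (helper75)

* `mem_pars` : `l ∈ pars k ↔ length 10, increasing, sum k + 45`; `nodup_pars`, `mem_bips`, `nodup_bips`, `swap_mem_bips`;
* `strictMono_tp`, `sum_tp`, `pars_complete`, `tp_inj`, `vac_tp`;
* `hk_mem`, `hk2_mem` : the hooks land in the lists of the smaller size; `FM_hk` : Murnaghan-Nakayama for the lists.
-/

set_option autoImplicit false
set_option linter.unusedSectionVars false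
set_option linter.dupNamespace false

namespace Cfsg.Agent.LV.Cl

open Equiv Finset Cfsg.Agent.H614

theorem nodup_eraseDups {α : Type*} [BEq α] [LawfulBEq α] : ∀ (k : ℕ) (l : List α), l.length ≤ k → l.eraseDups.Nodup
  | _, [], _ => List.nodup_nil
  | 0, _ :: _, h => absurd h (Nat.not_succ_le_zero _)
  | k + 1, a :: l, h => by
    rw [List.eraseDups_cons]
    exact List.nodup_cons.2 ⟨fun h1 => by simpa using (List.mem_filter.1 (List.mem_eraseDups.1 h1)).2,
      nodup_eraseDups k _ ((List.length_filter_le _ _).trans (Nat.le_of_succ_le_succ h))⟩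

theorem nodup_pars : ∀ k, (pars k).Nodup
  | 0 => List.nodup_singleton _
  | _ + 1 => nodup_eraseDups _ _ le_rfl

theorem ofFn_tp {l : List ℕ} (h : l.length = 10) : List.ofFn (tp l) = l :=
  List.ext_getElem (by rw [List.length_ofFn, h]) fun i h1 h2 => by
    rw [List.getElem_ofFn, tp, List.getD_eq_getElem _ _ h2]

theorem tp_ofFn (β : Fin 10 → ℕ) : tp (List.ofFn β) = β := funext fun i => by
  rw [tp, List.getD_eq_getElem _ _ (by rw [List.length_ofFn]; exact i.2), List.getElem_ofFn]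

theorem strictMono_of {l : List ℕ} (h : l.length = 10) (h1 : l.Pairwise (· < ·)) : StrictMono (tp l) :=
  fun _ _ hij => List.pairwise_ofFn.1 (ofFn_tp h ▸ h1 : (List.ofFn (tp l)).Pairwise (· < ·)) hij

theorem sum_of {l : List ℕ} (h : l.length = 10) : ∑ i, tp l i = l.sum := by rw [← List.sum_ofFn, ofFn_tp h]

theorem le_sum_of {l : List ℕ} (h : l.length = 10) (h1 : l.Pairwise (· < ·)) : 45 ≤ l.sum :=
  sum_of h ▸ sum_le_of_injective (strictMono_of h h1).injective

theorem sum_map_rep {x z : ℕ} : ∀ {l : List ℕ}, l.Nodup → x ∈ l → (l.map fun y => if y = x then z else y).sum + x = l.sum + z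
  | [], _, h => absurd h List.not_mem_nil
  | a :: l, h, hx => by
    rw [List.map_cons, List.sum_cons, List.sum_cons]
    split_ifs with e
    · have h1 : (l.map fun y => if y = x then z else y) = l.map id :=
        List.map_congr_left fun y hy => if_neg fun e' : y = x => (List.nodup_cons.1 h).1 (e ▸ e' ▸ hy)
      rw [h1, List.map_id]
      omega
    · have := sum_map_rep (z := z) (List.nodup_cons.1 h).2 ((List.mem_cons.1 hx).resolve_left (Ne.symm e))
      omega

theorem exists_gap {l : List ℕ} (h : l.length = 10) (h1 : l.Pairwise (· < ·)) (h2 : l.sum ≠ 45) :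
    ∃ x, x + 1 ∈ l ∧ x ∉ l := by
  by_contra! h3
  have h4 : ∀ d y, y + d ∈ l → y ∈ l := fun d => by
    induction d with
    | zero => exact fun _ h => h
    | succ d ih => exact fun y hy => ih y (h3 _ hy)
  have h5 : l.Nodup := h1.imp ne_of_lt
  have h6 : #l.toFinset = 10 := (List.toFinset_card_of_nodup h5).trans h
  have h7 : l.toFinset = range 10 := eq_of_subset_of_card_le (fun x hx => mem_range.2 (by
    have h8 : range (x + 1) ⊆ l.toFinset := fun y hy => List.mem_toFinset.2 (h4 (x - y) y (by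
      rw [Nat.add_sub_cancel' (Nat.le_of_lt_succ (mem_range.1 hy))]; exact List.mem_toFinset.1 hx))
    have h9 := card_le_card h8
    rw [card_range, h6] at h9
    exact h9)) (by rw [h6, card_range])
  have h8 := List.sum_toFinset id h5
  rw [h7, List.map_id] at h8
  exact h2 (h8.symm.trans (by decide))

theorem mem_ad {l l' : List ℕ} : l ∈ ad l' ↔ ∃ x ∈ l', x + 1 ∉ l' ∧ (l'.map fun y => if y = x then x + 1 else y) = l := by
  simp [ad, and_assoc]

theorem mem_pars : ∀ {k : ℕ} {l : List ℕ}, l ∈ pars k ↔ l.length = 10 ∧ l.Pairwise (· < ·) ∧ l.sum = k + 45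
  | 0, l => by
    rw [pars, List.mem_singleton]
    refine ⟨by rintro rfl; decide, fun ⟨h, h1, h2⟩ => ?_⟩
    have h3 : ∀ i : Fin 10, (i : ℕ) = tp l i := fun i =>
      (sum_eq_sum_iff_of_le fun i _ => strictMono_le (strictMono_of h h1) i).1
        ((by decide : ∑ i : Fin 10, (i : ℕ) = 0 + 45).trans ((sum_of h).trans h2).symm) i (mem_univ i)
    rw [← ofFn_tp h, ← funext h3]
    rfl
  | k + 1, l => by
    rw [pars, List.mem_eraseDups, List.mem_flatMap]
    constructor
    · rintro ⟨l', h, h1⟩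
      obtain ⟨h2, h3, h4⟩ := mem_pars.1 h
      obtain ⟨x, hx, h5, rfl⟩ := mem_ad.1 h1
      refine ⟨(List.length_map _).trans h2, List.pairwise_map.2 (h3.imp_of_mem fun {a b} _ hb hab => ?_), ?_⟩
      · have : b ≠ x + 1 := fun e => h5 (e ▸ hb)
        split_ifs <;> omega
      · have := sum_map_rep (z := x + 1) (h3.imp ne_of_lt) hx
        omega
    · rintro ⟨h, h1, h2⟩
      obtain ⟨x, hx, h3⟩ := exists_gap h h1 (by omega)
      refine ⟨l.map fun y => if y = x + 1 then x else y, mem_pars.2 ⟨(List.length_map _).trans h,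
        List.pairwise_map.2 (h1.imp_of_mem fun {a b} ha _ hab => ?_), ?_⟩, mem_ad.2 ⟨x, List.mem_map.2 ⟨_, hx, if_pos rfl⟩,
        fun h4 => ?_, ?_⟩⟩
      · have : a ≠ x := fun e => h3 (e ▸ ha)
        split_ifs <;> omega
      · have := sum_map_rep (z := x) (h1.imp ne_of_lt) hx
        omega
      · obtain ⟨y, -, hy⟩ := List.mem_map.1 h4
        split_ifs at hy <;> omega
      · rw [List.map_map]
        refine (List.map_congr_left (g := id) fun y hy => ?_).trans (List.map_id _)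
        have : y ≠ x := fun e => h3 (e ▸ hy)
        simp only [Function.comp, id]
        split_ifs <;> omega

variable {k : ℕ} {l : List ℕ}

theorem strictMono_tp (h : l ∈ pars k) : StrictMono (tp l) := strictMono_of (mem_pars.1 h).1 (mem_pars.1 h).2.1

theorem sum_tp (h : l ∈ pars k) : ∑ i, tp l i = k + ∑ i : Fin 10, (i : ℕ) :=
  (sum_of (mem_pars.1 h).1).trans (mem_pars.1 h).2.2

theorem pars_complete {β : Fin 10 → ℕ} (h : StrictMono β) (h1 : ∑ i, β i = k + 45) : ∃ l ∈ pars k, tp l = β :=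
  ⟨List.ofFn β, mem_pars.2 ⟨List.length_ofFn, List.pairwise_ofFn.2 fun _ _ hij => h hij, List.sum_ofFn.trans h1⟩, tp_ofFn β⟩

theorem tp_inj {k' : ℕ} {l' : List ℕ} (h : l ∈ pars k) (h' : l' ∈ pars k') (e : tp l = tp l') : l = l' := by
  rw [← ofFn_tp (mem_pars.1 h).1, e, ofFn_tp (mem_pars.1 h').1]

theorem pars_size {k' : ℕ} (h : l ∈ pars k) (h' : l ∈ pars k') : k = k' :=
  Nat.add_right_cancel ((mem_pars.1 h).2.2.symm.trans (mem_pars.1 h').2.2)

theorem vc_mem : vc ∈ pars 0 := List.mem_singleton.2 rfl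

theorem vac_tp (h : l ∈ pars k) : vac (tp l) = if l = vc then 1 else 0 := by
  split_ifs with e
  · have h1 : tp vc = fun i : Fin 10 => (i : ℕ) := by decide
    rw [e, vac_eq_pair, ← h1]
    exact pair_self_of_strictMono (strictMono_tp vc_mem)
  · refine vac_eq_zero_of_sum fun h1 => e ?_
    have h2 : k = 0 := by have := sum_tp h; omega
    exact List.mem_singleton.1 (h2 ▸ h : l ∈ pars 0)

theorem mem_bips {i : Bip} : i ∈ bips k ↔ ∃ a b, a + b = k ∧ i.1 ∈ pars a ∧ i.2 ∈ pars b := by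
  simp only [bips, List.mem_flatMap, List.mem_map, List.mem_range]
  constructor
  · rintro ⟨a, h1, β, h2, γ, h3, rfl⟩
    exact ⟨a, k - a, by omega, h2, h3⟩
  · rintro ⟨a, b, rfl, h2, h3⟩
    exact ⟨a, by omega, i.1, h2, i.2, by rwa [Nat.add_sub_cancel_left], rfl⟩

theorem swap_mem_bips {i : Bip} (h : i ∈ bips k) : (i.2, i.1) ∈ bips k :=
  let ⟨a, b, h1, h2, h3⟩ := mem_bips.1 h
  mem_bips.2 ⟨b, a, (add_comm b a).trans h1, h3, h2⟩

theorem nodup_bips (k : ℕ) : (bips k).Nodup := by
  refine List.nodup_flatMap.2 ⟨fun a _ => List.nodup_flatMap.2 ⟨fun β _ => (nodup_pars _).map fun _ _ e => (Prod.ext_iff.1 e).2,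
    (nodup_pars a).imp fun {β γ} hne x h1 h2 => ?_⟩, List.nodup_range.imp fun {a b} hne x h1 h2 => ?_⟩
  · obtain ⟨_, -, rfl⟩ := List.mem_map.1 h1
    obtain ⟨_, -, e⟩ := List.mem_map.1 h2
    exact hne (Prod.ext_iff.1 e).1.symm
  · obtain ⟨β, h3, h4⟩ := List.mem_flatMap.1 h1
    obtain ⟨γ, h5, h6⟩ := List.mem_flatMap.1 h2
    obtain ⟨_, -, rfl⟩ := List.mem_map.1 h4
    obtain ⟨_, -, e⟩ := List.mem_map.1 h6
    exact hne (pars_size h3 ((show γ = β from (Prod.ext_iff.1 e).1) ▸ h5))

/-! ### rim hooks -/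

theorem ins_perm (y : ℕ) : ∀ l : List ℕ, (ins y l).Perm (y :: l)
  | [] => List.Perm.refl _
  | z :: l => by
    rw [ins]
    split_ifs
    · exact List.Perm.refl _
    · exact ((ins_perm y l).cons z).trans (List.Perm.swap _ _ _)

theorem pairwise_ins {y : ℕ} : ∀ {l : List ℕ}, l.Pairwise (· < ·) → y ∉ l → (ins y l).Pairwise (· < ·)
  | [], _, _ => List.pairwise_singleton _ _
  | z :: l, h, hy => by
    rw [ins]
    have h1 : y ≠ z := fun e => hy (e ▸ List.mem_cons_self)
    obtain ⟨h2, h3⟩ := List.pairwise_cons.1 h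
    split_ifs with h4
    · refine List.pairwise_cons.2 ⟨fun a ha => ?_, h⟩
      rcases List.mem_cons.1 ha with rfl | ha
      · omega
      · have := h2 a ha
        omega
    · refine List.pairwise_cons.2 ⟨fun a ha => ?_, pairwise_ins h3 fun h5 => hy (List.mem_cons_of_mem _ h5)⟩
      rcases List.mem_cons.1 ((ins_perm y l).subset ha) with rfl | ha
      · omega
      · exact h2 a ha

theorem mem_hk {r : ℕ} {x : ℤ × List ℕ} : x ∈ hk r l ↔ ∃ y ∈ l, r ≤ y ∧ y - r ∉ l ∧
    (if (l.countP fun z => decide (y - r < z) && decide (z < y)) % 2 = 0 then 1 else -1, ins (y - r) (l.erase y)) = x := by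
  simp [hk, and_assoc]

theorem hk_mem {r : ℕ} {x : ℤ × List ℕ} (h : l ∈ pars k) (hx : x ∈ hk r l) : r ≤ k ∧ x.2 ∈ pars (k - r) := by
  obtain ⟨h1, h2, h3⟩ := mem_pars.1 h
  obtain ⟨y, hy, h4, h5, rfl⟩ := mem_hk.1 hx
  have h6 : (ins (y - r) (l.erase y)).length = 10 := by
    rw [(ins_perm _ _).length_eq, List.length_cons, List.length_erase_of_mem hy, h1]
  have h7 := pairwise_ins (h2.sublist (List.erase_sublist (a := y))) fun h8 => h5 (List.mem_of_mem_erase h8)
  have h8 := le_sum_of h6 h7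
  have h9 := (ins_perm (y - r) (l.erase y)).sum_eq
  have h10 := (List.perm_cons_erase hy).sum_eq
  rw [List.sum_cons] at h9 h10
  exact ⟨by omega, mem_pars.2 ⟨h6, h7, by dsimp only; omega⟩⟩

theorem hk2_mem {r : ℕ} {e : ℤˣ} {i : Bip} {x : ℤ × Bip} (h : i ∈ bips k) (hx : x ∈ hk2 r e i) :
    r ≤ k ∧ x.2 ∈ bips (k - r) := by
  obtain ⟨a, b, rfl, h2, h3⟩ := mem_bips.1 h
  rcases List.mem_append.1 hx with h4 | h4 <;> obtain ⟨y, hy, rfl⟩ := List.mem_map.1 h4
  · obtain ⟨h5, h6⟩ := hk_mem h2 hy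
    exact ⟨by omega, mem_bips.2 ⟨a - r, b, by omega, h6, h3⟩⟩
  · obtain ⟨h5, h6⟩ := hk_mem h3 hy
    exact ⟨by omega, mem_bips.2 ⟨a, b - r, by omega, h2, h6⟩⟩

section alt

variable {Φ : (Fin 10 → ℕ) → ℤ}

theorem alt_adj (hΦ : Alt Φ) (p b : List ℕ) (x y : ℕ) (h : p.length + b.length = 8) :
    Φ (tp (p ++ x :: y :: b)) = -Φ (tp (p ++ y :: x :: b)) := by
  rw [← hΦ.swap _ (i := ⟨p.length, by omega⟩) (j := ⟨p.length + 1, by omega⟩) (by simp)]
  refine congrArg Φ (funext fun k => ?_)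
  rw [Function.comp_apply]
  by_cases h1 : k = ⟨p.length, by omega⟩
  · rw [h1, swap_apply_left]
    simp [tp]
  by_cases h2 : k = ⟨p.length + 1, by omega⟩
  · rw [h2, swap_apply_right]
    simp [tp]
  rw [swap_apply_of_ne_of_ne h1 h2]
  rw [Fin.ext_iff] at h1 h2
  simp only [tp, List.getD_eq_getElem?_getD, List.getElem?_append]
  split_ifs with h3
  · rfl
  · obtain ⟨d, hd⟩ : ∃ d, (k : ℕ) - p.length = d + 2 := ⟨k - p.length - 2, by dsimp only at h1 h2; omega⟩
    rw [hd]
    rfl

theorem alt_move (hΦ : Alt Φ) (b : List ℕ) (y : ℕ) : ∀ a p : List ℕ, p.length + a.length + b.length = 9 →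
    Φ (tp (p ++ (a ++ y :: b))) = (-1) ^ a.length * Φ (tp (p ++ y :: (a ++ b)))
  | [], p, _ => (one_mul _).symm
  | z :: a, p, h => by
    rw [List.length_cons] at h
    have h1 := alt_move hΦ b y a (p ++ [z]) (by rw [List.length_append, List.length_singleton]; omega)
    simp only [List.append_assoc, List.cons_append, List.nil_append] at h1 ⊢
    rw [h1, alt_adj hΦ p (a ++ b) z y (by rw [List.length_append]; omega), List.length_cons, pow_succ]
    ring

theorem alt_ins (hΦ : Alt Φ) (b : List ℕ) (y : ℕ) (hb : ∀ z ∈ b, y ≤ z) : ∀ a p : List ℕ, a.Pairwise (· < ·) → y ∉ a →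
    p.length + a.length + b.length = 9 →
    Φ (tp (p ++ (a ++ y :: b))) = (-1) ^ (a.countP fun z => decide (y < z)) * Φ (tp (p ++ ins y (a ++ b)))
  | [], p, _, _, _ => by
    cases b with
    | nil => exact (one_mul _).symm
    | cons z b => rw [List.nil_append, List.nil_append, ins, if_pos (hb z List.mem_cons_self)]; exact (one_mul _).symm
  | z :: a, p, h, hy, h1 => by
    have h2 : y ≠ z := fun e => hy (e ▸ List.mem_cons_self)
    obtain ⟨h3, h4⟩ := List.pairwise_cons.1 h
    rw [List.cons_append (a := z) (as := a) (bs := b), ins]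
    split_ifs with h5
    · rw [alt_move hΦ b y _ p h1, List.countP_eq_length.2]
      · rfl
      intro x hx
      rcases List.mem_cons.1 hx with rfl | hx
      · exact decide_eq_true (by omega)
      · have := h3 x hx
        exact decide_eq_true (by omega)
    · rw [List.length_cons] at h1
      have h6 := alt_ins hΦ b y hb a (p ++ [z]) h4 (fun h7 => hy (List.mem_cons_of_mem _ h7))
        (by rw [List.length_append, List.length_singleton]; omega)
      simp only [List.append_assoc, List.cons_append, List.nil_append] at h6 ⊢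
      rw [h6, List.countP_cons_of_neg (by simp; omega)]

theorem sum_map_filter {α : Type*} (p : α → Bool) (f : α → ℤ) :
    ∀ l : List α, ((l.filter p).map f).sum = (l.map fun x => if p x then f x else 0).sum
  | [] => rfl
  | a :: l => by
    rw [List.filter_cons, List.map_cons, List.sum_cons, ← sum_map_filter p f l]
    split_ifs
    · rfl
    · exact (zero_add _).symm

theorem alt_hk (hΦ : Alt Φ) {r : ℕ} (hr : 0 < r) (h : l ∈ pars k) :
    ∑ j, (if r ≤ tp l j then Φ (dn (tp l) j r) else 0) = ((hk r l).map fun x => x.1 * Φ (tp x.2)).sum := by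
  obtain ⟨h1, h2, -⟩ := mem_pars.1 h
  rw [hk, List.map_map, sum_map_filter]
  have h0 : ∀ G : ℕ → ℤ, (l.map G).sum = ∑ j, G (tp l j) := fun G => by
    conv_lhs => rw [← ofFn_tp h1]
    rw [List.map_ofFn, List.sum_ofFn]
    rfl
  rw [h0]
  refine sum_congr rfl fun j _ => ?_
  have hj : (j : ℕ) < l.length := j.2.trans_eq h1.symm
  have hx : tp l j = l[(j : ℕ)] := List.getD_eq_getElem _ _ hj
  simp only [Function.comp_apply, Bool.and_eq_true, decide_eq_true_eq, Bool.not_eq_true', List.elem_eq_mem,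
    decide_eq_false_iff_not]
  by_cases h3 : r ≤ tp l j
  swap
  · rw [if_neg h3, if_neg fun h4 => h3 h4.1]
  rw [if_pos h3]
  by_cases h4 : tp l j - r ∈ l
  · rw [if_neg fun h5 => h5.2 h4]
    obtain ⟨i, hi⟩ := (List.mem_ofFn' (tp l) (tp l j - r)).1 (by rw [ofFn_tp h1]; exact h4)
    have h5 : i ≠ j := fun e => by rw [e] at hi; omega
    exact hΦ.eq_zero two_torsion_int h5 (by rw [dn_ne _ _ h5, dn_self, hi])
  rw [if_pos ⟨h3, h4⟩]
  obtain ⟨a, b, ha, hl⟩ : ∃ a b : List ℕ, a.length = j ∧ l = a ++ tp l j :: b :=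
    ⟨l.take j, l.drop (j + 1), List.length_take_of_le hj.le, by rw [hx, ← List.drop_eq_getElem_cons, List.take_append_drop]⟩
  have h5 : dn (tp l) j r = tp ([] ++ (a ++ (tp l j - r) :: b)) := funext fun i => by
    by_cases e : i = j
    · rw [e, dn_self]
      generalize tp l j - r = y
      simp [tp, ← ha]
    · rw [dn_ne _ _ e]
      generalize tp l j - r = y
      generalize tp l j = x at hl
      rw [Fin.ext_iff] at e
      simp only [hl, tp, List.getD_eq_getElem?_getD, List.getElem?_append, List.nil_append]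
      split_ifs with h6
      · rfl
      · obtain ⟨d, hd⟩ : ∃ d, (i : ℕ) - a.length = d + 1 := ⟨i - a.length - 1, by omega⟩
        rw [hd]
        rfl
  rw [h5]
  clear h5 hx h0 h
  generalize tp l j = x at hl h3 h4
  subst hl
  obtain ⟨h5, h6, h7⟩ := List.pairwise_append.1 h2
  have h8 : ∀ z ∈ a, z < x := fun z hz => h7 z hz x List.mem_cons_self
  have h9 := (List.pairwise_cons.1 h6).1
  rw [List.length_append, List.length_cons] at h1
  rw [alt_ins hΦ b _ (fun z hz => by have := h9 z hz; omega) a [] h5 (fun h => h4 (List.mem_append_left _ h))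
    (by rw [List.length_nil]; omega), List.erase_append_right _ fun h => lt_irrefl _ (h8 x h), List.erase_cons_head,
    List.countP_append, List.countP_cons_of_neg (by simp),
    (List.countP_eq_zero (l := b)).2 fun z hz => by have := h9 z hz; simp; omega, add_zero,
    List.countP_congr (l := a) (p := fun y => decide (x - r < y) && decide (y < x)) (q := fun y => decide (x - r < y))
      fun z hz => by simp [h8 z hz], neg_one_pow_eq_ite]
  simp only [Nat.even_iff, List.nil_append]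

end alt

end Cfsg.Agent.LV.Cl

private theorem dce_fdaad1adfa88 : _root_.True := by
  try have : _root_.True := by simp only [_root_.Cfsg.Agent.LV.Cl.Dual.eq_1]
  try have : _root_.True := by simp only [_root_.Cfsg.Agent.LV.Cl.HasTy.eq_1]
  try have : _root_.True := by simp only [_root_.Cfsg.Agent.LV.Cl.pars.eq_1]
  try have : _root_.True := by simp only [_root_.Cfsg.Agent.LV.Cl.ins.eq_1]
  try have : _root_.True := by simp only [_root_.Cfsg.Agent.LV.Cl.ins.eq_def]
  try have : _root_.True := by simp only [_root_.Cfsg.Agent.LV.Cl.pars.eq_def]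
  try have : _root_.True := by simp only [_root_.Cfsg.Agent.LV.Cl.pars.eq_2]
  try have : _root_.True := by simp only [_root_.Cfsg.Agent.LV.Cl.ins.eq_2]
  try have : _root_.True := by simp only [_root_.Cfsg.Agent.LV.Cl.Dual2.eq_1]
  try have : _root_.True := by simp only [_root_.Cfsg.Agent.LV.Cl.val.eq_2]
  try have : _root_.True := by simp only [_root_.Cfsg.Agent.LV.Cl.val.eq_def]
  try have : _root_.True := by simp only [_root_.Cfsg.Agent.LV.Cl.val.eq_1]
  try have : _root_.True := by simp only [_root_.Cfsg.Agent.LV.Cl.hk.eq_1]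
  try have : _root_.True := by simp only [_root_.Cfsg.Agent.LV.Cl.bips.eq_1]
  try have : _root_.True := by simp only [_root_.Cfsg.Agent.LV.Cl.Dual.eq_2]
  try have : _root_.True := by simp only [_root_.Cfsg.Agent.LV.Cl.HasTy.eq_2]
  try have : _root_.True := by simp only [_root_.Cfsg.Agent.LV.Cl.HasTy.eq_def]
  try have : _root_.True := by simp only [_root_.Cfsg.Agent.LV.Cl.Dual.eq_def]
  try have : _root_.True := by simp only [_root_.Cfsg.Agent.LV.Cl.Dual2.eq_2]
  try have : _root_.True := by simp only [_root_.Cfsg.Agent.LV.Cl.tp.eq_1]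
  try have : _root_.True := by simp only [_root_.Cfsg.Agent.LV.Cl.Dual2.eq_def]
  try have : _root_.True := by simp only [_root_.Cfsg.Agent.LV.Cl.ad.eq_1]
  exact _root_.True.intro
end

-- part: LV/Cl/Conj
section
prune_inst 0x80000000000000c010000
set_option linter.all false
open scoped Cfsg.Agent.FastGrp

/-!
# LV, classical groups: cycles and conjugacy of signed permutations (helper68)

`boxConj : BoxConj`.
-/

set_option autoImplicit false
set_option linter.unusedSectionVars false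
set_option linter.dupNamespace false

namespace Cfsg.Agent.LV.Cl.Cj

open Equiv Finset Function

variable {n : ℕ} {π π' : Perm (Fin n)} {x y : Fin n} {g g' : SG n} {T T' : Finset (Fin n)} {L : List (ℕ × ℤˣ)}

example := @HasTy.eq_def

theorem hasTy_nil : HasTy g T [] ↔ T = ∅ := by simp only [HasTy]

theorem hasTy_cons {c : ℕ × ℤˣ} : HasTy g T (c :: L) ↔
    ∃ x ∈ T, cyc g.π x ⊆ T ∧ #(cyc g.π x) = c.1 ∧ ∏ j ∈ cyc g.π x, g.s j = c.2 ∧ HasTy g (T \ cyc g.π x) L := by
  simp only [HasTy]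

theorem inv_self (π : Perm (Fin n)) (x : Fin n) : π⁻¹ (π x) = x := π.symm_apply_apply x

theorem self_inv (π : Perm (Fin n)) (x : Fin n) : π (π⁻¹ x) = x := π.apply_symm_apply x

theorem mem_cyc : y ∈ cyc π x ↔ π.SameCycle x y := by simp [cyc]

theorem mem_cyc' : y ∈ cyc π x ↔ ∃ i : ℕ, (π ^ i) x = y :=
  mem_cyc.trans ⟨fun h => h.exists_pow_eq'.imp fun _ e => e.2, fun ⟨i, h⟩ => ⟨i, by rw [zpow_natCast, h]⟩⟩

theorem self_mem (π : Perm (Fin n)) (x : Fin n) : x ∈ cyc π x := mem_cyc.2 (Perm.SameCycle.refl _ _)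

theorem pow_mem_cyc (π : Perm (Fin n)) (x : Fin n) (i : ℕ) : (π ^ i) x ∈ cyc π x := mem_cyc'.2 ⟨i, rfl⟩

theorem cyc_eq (h : y ∈ cyc π x) : cyc π y = cyc π x := by
  ext z
  rw [mem_cyc] at h ⊢
  rw [mem_cyc]
  exact ⟨h.trans, h.symm.trans⟩

theorem stab_cyc (π : Perm (Fin n)) (x : Fin n) : Stab (cyc π x) π := fun y => by
  rw [mem_cyc, mem_cyc, Perm.sameCycle_apply_right]

theorem stab_sdiff (h : Stab T π) (h' : Stab T' π) : Stab (T \ T') π := fun y => by
  rw [mem_sdiff, mem_sdiff, h y, h' y]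

theorem stab_pow (h : Stab T π) (i : ℕ) : Stab T (π ^ i) := by
  induction i with
  | zero => exact fun _ => Iff.rfl
  | succ i ih => exact fun y => by rw [pow_succ, Perm.mul_apply, ih, h]

theorem stab_inv (h : Stab T π) : Stab T π⁻¹ := fun y => by rw [← h, self_inv]

theorem stab_on (h : g ∈ On T) : Stab T g.π := fun y => by
  refine ⟨fun e => by_contra fun e' => e' ((h y e').1 ▸ e), fun e => by_contra fun e' => e' ?_⟩
  rwa [g.π.injective (h _ e').1]

theorem cyc_subset (h : Stab T π) (hx : x ∈ T) : cyc π x ⊆ T := fun y hy => by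
  obtain ⟨i, rfl⟩ := mem_cyc'.1 hy
  exact (stab_pow h i x).2 hx

theorem cyc_congr (h : ∀ y ∈ cyc π x, π' y = π y) : cyc π' x = cyc π x := by
  have h1 : ∀ i : ℕ, (π' ^ i) x = (π ^ i) x := fun i => by
    induction i with
    | zero => rfl
    | succ i ih => rw [pow_succ', pow_succ', Perm.mul_apply, Perm.mul_apply, ih, h _ (pow_mem_cyc π x i)]
  ext y
  simp only [mem_cyc', h1]

theorem map_stab (h : Stab T π) : T.map π.toEmbedding = T := by
  ext y
  rw [mem_map_equiv]
  exact stab_inv h y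

theorem prod_stab (h : Stab T π) {A : Type*} [CommMonoid A] (f : Fin n → A) : ∏ j ∈ T, f (π j) = ∏ j ∈ T, f j := by
  conv_rhs => rw [← map_stab h, prod_map]
  rfl

/-! ### the cycle as a list of powers -/

theorem per_pos (π : Perm (Fin n)) (x : Fin n) : 0 < minimalPeriod π x :=
  IsPeriodicPt.minimalPeriod_pos (orderOf_pos π) (by rw [IsPeriodicPt, IsFixedPt, ← Perm.coe_pow, pow_orderOf_eq_one]; rfl)

theorem cyc_image (π : Perm (Fin n)) (x : Fin n) : cyc π x = (range (minimalPeriod π x)).image fun i => (π ^ i) x := by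
  ext y
  rw [mem_cyc', mem_image]
  refine ⟨fun ⟨i, h⟩ => ⟨i % minimalPeriod π x, mem_range.2 (Nat.mod_lt _ (per_pos π x)), ?_⟩, fun ⟨i, _, h⟩ => ⟨i, h⟩⟩
  rw [← h, Perm.coe_pow, Perm.coe_pow, iterate_mod_minimalPeriod_eq]

theorem injOn_pow (π : Perm (Fin n)) (x : Fin n) : Set.InjOn (fun i => (π ^ i) x) (range (minimalPeriod π x)) :=
  fun i hi j hj h => iterate_injOn_Iio_minimalPeriod (f := π) (x := x) (mem_range.1 hi) (mem_range.1 hj)
    (by simpa only [Perm.coe_pow] using h)

theorem card_cyc (π : Perm (Fin n)) (x : Fin n) : #(cyc π x) = minimalPeriod π x := by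
  rw [cyc_image, card_image_of_injOn (injOn_pow π x), card_range]

theorem prod_cyc (π : Perm (Fin n)) (x : Fin n) {A : Type*} [CommMonoid A] (f : Fin n → A) :
    ∏ j ∈ cyc π x, f j = ∏ i ∈ range #(cyc π x), f ((π ^ i) x) := by
  rw [card_cyc, cyc_image, prod_image (injOn_pow π x)]

theorem pow_card (π : Perm (Fin n)) (x : Fin n) : (π ^ #(cyc π x)) x = x := by
  rw [card_cyc, Perm.coe_pow, iterate_minimalPeriod]

theorem pow_eq_iff {i j : ℕ} : (π ^ i) x = (π ^ j) x ↔ i ≡ j [MOD #(cyc π x)] := by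
  rw [card_cyc, Perm.coe_pow, Perm.coe_pow, ← iterate_mod_minimalPeriod_eq (n := i), ← iterate_mod_minimalPeriod_eq (n := j),
    iterate_eq_iterate_iff_of_lt_minimalPeriod (Nat.mod_lt _ (per_pos π x)) (Nat.mod_lt _ (per_pos π x))]
  rfl

theorem pow_π (g : SG n) (i : ℕ) : (g ^ i).π = g.π ^ i := by
  induction i with
  | zero => rfl
  | succ i ih => rw [pow_succ, pow_succ, mul_π, ih]

theorem pow_s (g : SG n) (i : ℕ) (x : Fin n) : (g ^ i).s x = ∏ t ∈ range i, g.s ((g.π ^ t) x) := by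
  induction i with
  | zero => rfl
  | succ i ih => rw [pow_succ', mul_s, ih, pow_π, prod_range_succ, mul_comm]

theorem pow_s_add (g : SG n) (i : ℕ) (x : Fin n) :
    (g ^ (i + #(cyc g.π x))).s x = (g ^ i).s x * ∏ j ∈ cyc g.π x, g.s j := by
  rw [pow_add, mul_s, pow_π, pow_card, pow_s g #_, ← prod_cyc]

/-! ### the weight -/

theorem wt_split (h : cyc g.π x ⊆ T) : wt g T =
    Multiset.replicate #(cyc g.π x) (#(cyc g.π x), ∏ j ∈ cyc g.π x, g.s j) + wt g (T \ cyc g.π x) := by
  rw [wt, wt, sdiff_val]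
  conv_lhs => rw [← add_tsub_cancel_of_le (val_le_iff.2 h), Multiset.map_add]
  congr 1
  rw [Multiset.eq_replicate]
  refine ⟨Multiset.card_map _ _, fun b hb => ?_⟩
  obtain ⟨y, hy, rfl⟩ := Multiset.mem_map.1 hb
  rw [cyc_eq hy]

theorem of_hasTy (h : HasTy g T L) : wt g T = (L.map fun c => Multiset.replicate c.1 c).sum ∧
    ∏ j ∈ T, g.s j = (L.map fun c => c.2).prod ∧ #T = (L.map fun c => c.1).sum := by
  induction L generalizing T with
  | nil =>
    rw [hasTy_nil.1 h]
    exact ⟨rfl, rfl, rfl⟩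
  | cons c L ih =>
    obtain ⟨x, -, h1, h2, h3, h4⟩ := hasTy_cons.1 h
    obtain ⟨e1, e2, e3⟩ := ih h4
    simp only [List.map_cons, List.sum_cons, List.prod_cons]
    refine ⟨by rw [wt_split h1, h2, h3, e1], by rw [← prod_sdiff h1, e2, h3, mul_comm], ?_⟩
    rw [← card_sdiff_add_card_eq_card h1, e3, h2, add_comm]

theorem stab_of_hasTy (h : HasTy g T L) : Stab T g.π := by
  induction L generalizing T with
  | nil =>
    rw [hasTy_nil.1 h]
    exact fun _ => by simp
  | cons c L ih =>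
    obtain ⟨x, -, h1, -, -, h4⟩ := hasTy_cons.1 h
    intro y
    rw [← sdiff_union_of_subset h1, mem_union, mem_union, ih h4 y, stab_cyc]

theorem hasTy_congr (h : HasTy g T L) (e : ∀ j ∈ T, g'.π j = g.π j ∧ g'.s j = g.s j) : HasTy g' T L := by
  induction L generalizing T with
  | nil => exact hasTy_nil.2 (hasTy_nil.1 h)
  | cons c L ih =>
    obtain ⟨x, hx, h1, h2, h3, h4⟩ := hasTy_cons.1 h
    have h5 : cyc g'.π x = cyc g.π x := cyc_congr fun y hy => (e y (h1 hy)).1
    refine hasTy_cons.2 ⟨x, hx, ?_⟩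
    rw [h5]
    exact ⟨h1, h2, (prod_congr rfl fun y hy => (e y (h1 hy)).2).trans h3, ih h4 fun j hj => e j (mem_sdiff.1 hj).1⟩

theorem exists_hasTy (h : Stab T g.π) : ∃ L, HasTy g T L := by
  induction T using Finset.strongInduction with
  | H T ih =>
    rcases T.eq_empty_or_nonempty with e | ⟨x, hx⟩
    · exact ⟨[], hasTy_nil.2 e⟩
    · obtain ⟨L, hL⟩ := ih _ (sdiff_ssubset (cyc_subset h hx) ⟨x, self_mem _ _⟩) (stab_sdiff h (stab_cyc _ _))
      exact ⟨(_, _) :: L, hasTy_cons.2 ⟨x, hx, cyc_subset h hx, rfl, rfl, hL⟩⟩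

/-! ### conjugation -/

theorem conj_π (h g : SG n) (j : Fin n) : (h * g * h⁻¹).π (h.π j) = h.π (g.π j) := by simp

theorem conj_s (h g : SG n) (j : Fin n) : (h * g * h⁻¹).s (h.π j) = h.s (g.π j) * g.s j * h.s j := by simp

theorem cyc_conj (h g : SG n) (x : Fin n) : cyc (h * g * h⁻¹).π (h.π x) = (cyc g.π x).map h.π.toEmbedding := by
  ext y
  rw [mem_map_equiv, mem_cyc, mem_cyc, mul_π, mul_π, inv_π, Perm.sameCycle_conj, inv_self]
  rfl

theorem prod_conj (h : SG n) (hT : Stab T g.π) : ∏ j ∈ T.map h.π.toEmbedding, (h * g * h⁻¹).s j = ∏ j ∈ T, g.s j := by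
  rw [prod_map]
  refine (prod_congr rfl fun j _ => conj_s h g j).trans ?_
  rw [prod_mul_distrib, prod_mul_distrib, prod_stab hT, mul_right_comm,
    Int.units_mul_self, one_mul]

theorem wt_conj (h g : SG n) (T : Finset (Fin n)) : wt (h * g * h⁻¹) (T.map h.π.toEmbedding) = wt g T := by
  rw [wt, wt, map_val, Multiset.map_map]
  refine Multiset.map_congr rfl fun x _ => ?_
  show (#(cyc (h * g * h⁻¹).π (h.π x)), ∏ j ∈ cyc (h * g * h⁻¹).π (h.π x), (h * g * h⁻¹).s j) = _
  rw [cyc_conj, card_map, prod_conj h (stab_cyc _ _)]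

theorem hasTy_conj (h : SG n) (e : HasTy g T L) : HasTy (h * g * h⁻¹) (T.map h.π.toEmbedding) L := by
  induction L generalizing T with
  | nil => exact hasTy_nil.2 (by rw [hasTy_nil.1 e, map_empty])
  | cons c L ih =>
    obtain ⟨x, hx, h1, h2, h3, h4⟩ := hasTy_cons.1 e
    refine hasTy_cons.2 ⟨h.π x, mem_map_of_mem _ hx, ?_⟩
    rw [cyc_conj, card_map, prod_conj h (stab_cyc _ _), ← Finset.map_sdiff]
    exact ⟨map_subset_map.2 h1, h2, h3, ih h4⟩

/-- two cycles with the same length and the same sign -/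
theorem exists_cyc {x x' : Fin n} (h1 : #(cyc g.π x) = #(cyc g'.π x'))
    (h2 : ∏ j ∈ cyc g.π x, g.s j = ∏ j ∈ cyc g'.π x', g'.s j) :
    ∃ (φ : Fin n → Fin n) (σ : Fin n → ℤˣ), Set.InjOn φ (cyc g.π x) ∧ ∀ j ∈ cyc g.π x, φ j ∈ cyc g'.π x' ∧
      φ (g.π j) = g'.π (φ j) ∧ σ (g.π j) * g.s j * σ j = g'.s (φ j) := by
  have h3 : ∀ y, ∃ i : ℕ, y ∈ cyc g.π x → (g.π ^ i) x = y := fun y => by
    by_cases hy : y ∈ cyc g.π x
    · exact (mem_cyc'.1 hy).imp fun _ e _ => e
    · exact ⟨0, fun e => absurd e hy⟩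
  choose lg hlg using h3
  have h4 : Periodic (fun i => (g ^ i).s x * (g' ^ i).s x') #(cyc g.π x) := fun i => by
    beta_reduce
    rw [pow_s_add, h1, pow_s_add, h2, mul_mul_mul_comm, Int.units_mul_self, mul_one]
  have h5 : ∀ j ∈ cyc g.π x, lg (g.π j) ≡ lg j + 1 [MOD #(cyc g.π x)] := fun j hj => by
    rw [← pow_eq_iff, hlg _ ((stab_cyc _ _ j).2 hj), pow_succ', Perm.mul_apply, hlg j hj]
  refine ⟨fun y => (g'.π ^ lg y) x', fun y => (g ^ lg y).s x * (g' ^ lg y).s x', fun a ha b hb e => ?_,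
    fun j hj => ⟨pow_mem_cyc _ _ _, ?_, ?_⟩⟩
  · rw [← hlg a ha, ← hlg b hb, pow_eq_iff, h1, ← pow_eq_iff]
    exact e
  · rw [← Perm.mul_apply, ← pow_succ', pow_eq_iff, ← h1]
    exact h5 j hj
  · have h6 := h4.map_mod_nat (lg (g.π j))
    rw [h5 j hj, h4.map_mod_nat] at h6
    beta_reduce at h6 ⊢
    rw [← h6, pow_succ', pow_succ', mul_s, mul_s, pow_π, pow_π, hlg j hj]
    generalize g.s j = a
    generalize (g ^ lg j).s x = b
    generalize (g' ^ lg j).s x' = c
    generalize g'.s _ = d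
    revert a b c d
    decide

theorem exists_fun (h : Stab T g.π) (h' : Stab T' g'.π) (e : wt g T = wt g' T') :
    ∃ (φ : Fin n → Fin n) (σ : Fin n → ℤˣ), Set.InjOn φ T ∧ ∀ j ∈ T, φ j ∈ T' ∧
      φ (g.π j) = g'.π (φ j) ∧ σ (g.π j) * g.s j * σ j = g'.s (φ j) := by
  induction T using Finset.strongInduction generalizing T' with
  | H T ih =>
    rcases T.eq_empty_or_nonempty with rfl | ⟨x, hx⟩
    · exact ⟨id, 1, by simp, by simp⟩
    · have h1 : (#(cyc g.π x), ∏ j ∈ cyc g.π x, g.s j) ∈ wt g' T' := e ▸ Multiset.mem_map_of_mem _ hx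
      obtain ⟨x', hx', h2⟩ := Multiset.mem_map.1 h1
      have h3 := cyc_subset h hx
      have h4 := cyc_subset h' hx'
      rw [wt_split h3, wt_split h4, h2, show #(cyc g'.π x') = #(cyc g.π x) from (Prod.ext_iff.1 h2).1, add_right_inj] at e
      obtain ⟨φ, σ, a1, a2⟩ := exists_cyc (Prod.ext_iff.1 h2).1.symm (Prod.ext_iff.1 h2).2.symm
      obtain ⟨φ', σ', b1, b2⟩ := ih _ (sdiff_ssubset h3 ⟨x, self_mem _ _⟩) (stab_sdiff h (stab_cyc _ _))
        (stab_sdiff h' (stab_cyc _ _)) e
      refine ⟨fun y => if y ∈ cyc g.π x then φ y else φ' y, fun y => if y ∈ cyc g.π x then σ y else σ' y,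
        fun a ha b hb e => ?_, fun j hj => ?_⟩
      · beta_reduce at e
        split_ifs at e with c1 c2 c2
        · exact a1 c1 c2 e
        · exact absurd (e ▸ (a2 a c1).1) (mem_sdiff.1 (b2 b (mem_sdiff.2 ⟨hb, c2⟩)).1).2
        · exact absurd (e ▸ (a2 b c2).1) (mem_sdiff.1 (b2 a (mem_sdiff.2 ⟨ha, c1⟩)).1).2
        · exact b1 (mem_sdiff.2 ⟨ha, c1⟩) (mem_sdiff.2 ⟨hb, c2⟩) e
      · simp only [stab_cyc g.π x j]
        split_ifs with c
        · exact ⟨h4 (a2 j c).1, (a2 j c).2⟩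
        · exact ⟨(mem_sdiff.1 (b2 j (mem_sdiff.2 ⟨hj, c⟩)).1).1, (b2 j (mem_sdiff.2 ⟨hj, c⟩)).2⟩

/-- an element supported on `T` from an injective map and signs -/
theorem exists_on {φ : Fin n → Fin n} (h1 : Set.InjOn φ T) (h2 : ∀ j ∈ T, φ j ∈ T) (σ : Fin n → ℤˣ) :
    ∃ h ∈ On T, ∀ j ∈ T, h.π j = φ j ∧ h.s j = σ j := by
  have h3 : Injective fun j => if j ∈ T then φ j else j := fun a b e => by
    beta_reduce at e
    split_ifs at e with c1 c2 c2
    · exact h1 c1 c2 e
    · exact absurd (e ▸ h2 a c1) c2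
    · exact absurd (e ▸ h2 b c2) c1
    · exact e
  exact ⟨⟨Equiv.ofBijective _ (Finite.injective_iff_bijective.1 h3), fun j => if j ∈ T then σ j else 1⟩,
    fun j hj => ⟨if_neg hj, if_neg hj⟩, fun j hj => ⟨if_pos hj, if_pos hj⟩⟩

/-- the restriction to a stable set -/
theorem exists_res (h : Stab T g.π) : ∃ r ∈ On T, ∀ j ∈ T, r.π j = g.π j ∧ r.s j = g.s j :=
  exists_on g.π.injective.injOn (fun j hj => (h j).2 hj) g.s

theorem exists_conj (h : Stab T g.π) (h' : Stab T g'.π) (e : wt g T = wt g' T) :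
    ∃ h ∈ On T, ∀ j ∈ T, (h * g * h⁻¹).π j = g'.π j ∧ (h * g * h⁻¹).s j = g'.s j := by
  obtain ⟨φ, σ, h1, h2⟩ := exists_fun h h' e
  obtain ⟨u, hu, h3⟩ := exists_on h1 (fun j hj => (h2 j hj).1) σ
  refine ⟨u, hu, fun j hj => ?_⟩
  obtain ⟨y, rfl⟩ := u.π.surjective j
  have hy := (stab_on hu y).1 hj
  have hy' := (h y).2 hy
  rw [conj_π, conj_s, (h3 _ hy').1, (h3 _ hy').2, (h3 _ hy).1, (h3 _ hy).2]
  exact (h2 y hy).2

/-! ### elements of a given type -/

theorem exists_ty (h0 : ∀ c ∈ L, 0 < c.1) (h : #T = (L.map fun c => c.1).sum) : ∃ u ∈ On T, HasTy u T L := by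
  induction L generalizing T with
  | nil => exact ⟨1, one_mem _, hasTy_nil.2 (card_eq_zero.1 h)⟩
  | cons c L ih =>
    rw [List.map_cons, List.sum_cons] at h
    obtain ⟨A, hA, h1⟩ := exists_subset_card_eq (show c.1 ≤ #T by omega)
    obtain ⟨u, hu, h2⟩ := ih (T := T \ A) (fun d hd => h0 d (List.mem_cons_of_mem _ hd))
      (by have := card_sdiff_add_card_eq_card hA; omega)
    obtain ⟨x, hx⟩ : A.Nonempty := card_pos.1 (h1 ▸ h0 c List.mem_cons_self)
    obtain ⟨f, hf, h3⟩ := A.exists_cycleOn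
    have h4 : ∀ j, j ∉ A → f j = j := fun j hj => Perm.notMem_support.1 fun e => hj (h3 e)
    let a : SG n := ⟨f, fun j => if j = x then c.2 else 1⟩
    have ha : a ∈ On A := fun j hj => ⟨h4 j hj, if_neg fun e : j = x => hj (e ▸ hx)⟩
    have h5 : cyc f x = A := by
      ext y
      exact ⟨fun e => cyc_subset (stab_on ha) hx e, fun e => mem_cyc.2 (hf.2 hx e)⟩
    have h6 : ∀ j ∈ A, u.π j = j ∧ u.s j = 1 := fun j hj => hu j fun e => (mem_sdiff.1 e).2 hj
    have h7 : cyc (a * u).π x = A := (cyc_congr fun y hy => by rw [mul_π, Perm.mul_apply, (h6 y (h5 ▸ hy)).1]).trans h5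
    refine ⟨a * u, mul_mem (fun j hj => ha j fun e => hj (hA e)) fun j hj => hu j fun e => hj (mem_sdiff.1 e).1,
      hasTy_cons.2 ⟨x, hA hx, ?_⟩⟩
    rw [h7]
    refine ⟨hA, h1, ?_, hasTy_congr h2 fun j hj => ?_⟩
    · rw [prod_congr rfl fun j hj => show (a * u).s j = if j = x then c.2 else 1 by rw [mul_s, (h6 j hj).1, (h6 j hj).2, mul_one],
        prod_ite_eq', if_pos hx]
    · have h8 := ha _ (mem_sdiff.1 ((stab_on hu j).2 hj)).2
      rw [mul_π, mul_s, Perm.mul_apply, h8.1, h8.2, one_mul]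
      exact ⟨rfl, rfl⟩

theorem exists_mul (hT : Stab T g.π) (h0 : ∀ c ∈ L, 0 < c.1) (h : #T = (L.map fun c => c.1).sum) :
    ∃ u ∈ On T, HasTy (u * g) T L := by
  obtain ⟨u, hu, h1⟩ := exists_ty h0 h
  obtain ⟨r, hr, h2⟩ := exists_res hT
  refine ⟨u * r⁻¹, mul_mem hu (inv_mem hr), hasTy_congr h1 fun j hj => ?_⟩
  simp only [mul_π, mul_s, inv_π, inv_s, Perm.mul_apply, ← (h2 j hj).1, ← (h2 j hj).2, inv_self, mul_assoc,
    Int.units_mul_self, mul_one, and_self]

end Cfsg.Agent.LV.Cl.Cj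

namespace Cfsg.Agent.LV.Cl

open Cj

/-- **Conjugacy of signed permutations.** -/
theorem boxConj : BoxConj := fun T g hT =>
  ⟨fun _ h => of_hasTy h, fun _ h e => exists_conj hT h e,
    fun h hh => ⟨by simpa only [map_stab hh] using wt_conj h g T, fun _ e => by simpa only [map_stab hh] using hasTy_conj h e⟩,
    fun _ h0 h => exists_mul hT h0 h⟩

end Cfsg.Agent.LV.Cl

private theorem dce_650a194a653a : _root_.True := by
  try have : _root_.True := by simp only [_root_.Cfsg.Agent.LV.Cl.wt.eq_1]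
  try have : _root_.True := by simp only [_root_.Cfsg.Agent.LV.Cl.cyc.eq_1]
  exact _root_.True.intro
end

-- part: LV/W/Node
section
prune_inst 0x40000300401000000000000000000130210000000000880000040030a0200080000028000080000100000080000000000000000000000000000000000000000000000100490080000200000000000000000000000000000000000000000000000000000000
set_option linter.all false
open scoped Cfsg.Agent.FastGrp

-- part: LV/W/Vec
section
/-!
# LV/W, kernel engine for twisted cosets `W_J w`: words and codes (helper25)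

An element `u` of `W_J` is coded by the heights of the roots `u⁻¹ α_i`, packed into one number; a word is a number in
base 16 with a leading digit `1`; `run` computes the code of `word * u` from the code of `u`.
-/

set_option autoImplicit false
set_option linter.unusedSectionVars false

namespace Cfsg.Agent.LV.W

open CoxeterSystem Cfsg.Agent.Tits.Exchange Cfsg.Agent.Tits.Core Cfsg.Agent.Tits.Roots
  Cfsg.Agent.ChevalleyStructure.CoxeterGeom Cfsg.Agent.LV.T Finset

/-! ### kernel part -/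

/-- list access -/
def nth {α : Type} (d : α) (l : List α) : ℕ → α :=
  List.rec (fun _ => d) (fun a _ ih n => Nat.rec a (fun m _ => ih m) n) l

theorem nth_nil {α : Type} (d : α) (n : ℕ) : nth d [] n = d := rfl
theorem nth_zero {α : Type} (d a : α) (l : List α) : nth d (a :: l) 0 = a := rfl
theorem nth_succ {α : Type} (d a : α) (l : List α) (n : ℕ) : nth d (a :: l) (n + 1) = nth d l n := rfl

theorem nth_eq {α : Type} (d : α) (l : List α) (n : ℕ) : nth d l n = l.getD n d := by
  induction l generalizing n with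
  | nil => rfl
  | cons a l ih =>
    cases n with
    | zero => rfl
    | succ n => rw [nth_succ, ih]; rfl

/-- bounded quantifier -/
def allLt (n : ℕ) (p : ℕ → Bool) : Bool := Nat.rec true (fun m ih => and (p m) ih) n

theorem allLt_iff {n : ℕ} {p : ℕ → Bool} : allLt n p = true ↔ ∀ i < n, p i = true := by
  induction n with
  | zero => exact ⟨fun _ i hi => absurd hi (Nat.not_lt_zero i), fun _ => rfl⟩
  | succ n ih =>
    show (p n && allLt n p) = true ↔ _
    rw [Bool.and_eq_true, ih]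
    refine ⟨fun h i hi => ?_, fun h => ⟨h n (Nat.lt_succ_self n), fun i hi => h i (Nat.lt_succ_of_lt hi)⟩⟩
    rcases Nat.lt_succ_iff_lt_or_eq.1 hi with h1 | rfl
    exacts [h.2 i h1, h.1]

/-- bounded sum -/
def sumLt (n : ℕ) (f : ℕ → ℤ) : ℤ := Nat.rec 0 (fun m ih => ih + f m) n

theorem sumLt_eq (n : ℕ) (f : ℕ → ℤ) : sumLt n f = ∑ i ∈ range n, f i := by
  induction n with
  | zero => rfl
  | succ n ih => rw [sum_range_succ, ← ih]; rfl

/-- entry of a matrix -/
def ga (AL : List (List ℤ)) (i j : ℕ) : ℤ := nth 0 (nth [] AL i) j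

/-- one letter -/
def step (tab i N : ℕ) : ℕ :=
  (fun e => Nat.mod (Nat.add N (Nat.mul (Nat.add (Nat.mod (Nat.shiftRight N (Nat.mod e 256)) 256)
    340282366920938463463374607431768211392) (Nat.shiftRight e 8))) 340282366920938463463374607431768211456)
    (Nat.shiftRight tab (Nat.mul i 136))

/-- a word -/
def runF (tab f : ℕ) : ℕ → ℕ → ℕ :=
  Nat.rec (fun _ N => N)
    (fun _ ih n N => cond (Nat.ble n 1) N (ih (Nat.shiftRight n 4) (step tab (Nat.mod n 16) N))) f

/-- a word with at most 256 letters -/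
def run (tab n N : ℕ) : ℕ := runF tab 256 n N

/-- a list of letters -/
def runL (tab : ℕ) (l : List ℕ) (N : ℕ) : ℕ := List.rec N (fun a _ ih => step tab a ih) l

/-- the digit which decides whether `i` is a descent -/
def dg (N i : ℕ) : ℕ := Nat.mod (Nat.shiftRight N (Nat.mul 8 i)) 256

/-- correctness of a table -/
def tabOK (m r : ℕ) (AL : List (List ℤ)) (sg : ℕ → ℕ) (tab : ℕ) : Bool :=
  allLt 16 fun i =>
    if i < m then
      decide (sg i < r) && decide (Nat.shiftRight tab (i * 136) % 256 = 8 * sg i) &&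
        decide ((((Nat.shiftRight (Nat.shiftRight tab (i * 136)) 8 : ℕ) : ℤ) +
          sumLt r fun a => ga AL (sg i) a * 256 ^ a) % 340282366920938463463374607431768211456 = 0)
    else decide (Nat.shiftRight (Nat.shiftRight tab (i * 136)) 8 % 340282366920938463463374607431768211456 = 0)

/-- the reflection on coefficient vectors -/
def rfl' (r : ℕ) (AL : List (List ℤ)) (j : ℕ) (β : List ℤ) : List ℤ :=
  β.set j (nth 0 β j - sumLt r fun i => nth 0 β i * ga AL j i)

/-- the list of the positive roots is closed -/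
def rootOK (r : ℕ) (AL : List (List ℤ)) (RL : List (List ℤ)) : Bool :=
  RL.all (fun β => decide (β.length = r) && decide ((sumLt r fun i => nth 0 β i).natAbs < 64) &&
    allLt r fun j => (fun γ => decide (γ ∈ RL) || decide (γ = β.map fun x => -x)) (rfl' r AL j β)) &&
  allLt r fun i => decide ((List.replicate r 0).set i 1 ∈ RL)

/-- the abstract data of a twisted type -/
structure Ty where
  r : ℕ
  AL : List (List ℤ)
  sg : List ℕ
  tab : ℕ
  tbs : ℕ
  n0 : ℕ
  RL : List (List ℤ)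

/-- the twist of the letters -/
def Ty.σ (t : Ty) (i : ℕ) : ℕ := nth 0 t.sg i

def Ty.ok (t : Ty) : Bool :=
  decide (t.r ≤ 16) && tabOK t.r t.r t.AL id t.tab && tabOK t.r t.r t.AL t.σ t.tbs && rootOK t.r t.AL t.RL &&
    decide ((t.n0 : ℤ) = sumLt t.r fun a => 65 * 256 ^ a)

/-! ### digits -/

theorem dig_lt {B r : ℕ} {d : ℕ → ℕ} (hd : ∀ a < r, d a < B) : ∑ a ∈ range r, d a * B ^ a < B ^ r := by
  induction r with
  | zero => simp
  | succ r ih =>
    have h1 := ih fun a ha => hd a (Nat.lt_succ_of_lt ha)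
    have h2 := hd r (Nat.lt_succ_self r)
    rw [sum_range_succ, pow_succ]
    nlinarith [Nat.mul_le_mul_right (B ^ r) (Nat.succ_le_of_lt h2)]

theorem dig_eq {B r : ℕ} {d : ℕ → ℕ} (hd : ∀ a < r, d a < B) {j : ℕ} (hj : j < r) :
    (∑ a ∈ range r, d a * B ^ a) / B ^ j % B = d j := by
  induction r with
  | zero => exact absurd hj (Nat.not_lt_zero j)
  | succ r ih =>
    have hB : 0 < B := lt_of_le_of_lt (Nat.zero_le _) (hd r (Nat.lt_succ_self r))
    have h0 := fun a ha => hd a (Nat.lt_succ_of_lt ha)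
    rw [sum_range_succ]
    rcases Nat.lt_succ_iff_lt_or_eq.1 hj with h1 | rfl
    · obtain ⟨c, rfl⟩ := Nat.exists_eq_add_of_lt h1
      have : d (j + c + 1) * B ^ (j + c + 1) = B ^ j * (B * (d (j + c + 1) * B ^ c)) := by ring
      rw [this, Nat.add_mul_div_left _ _ (pow_pos hB j), Nat.add_mul_mod_self_left, ih h0 h1]
    · rw [Nat.add_mul_div_right _ _ (pow_pos hB j), Nat.div_eq_of_lt (dig_lt h0), zero_add,
        Nat.mod_eq_of_lt (hd j hj)]

/-- the code of a vector -/
def pk (r : ℕ) (v : ℕ → ℤ) : ℕ := ∑ a ∈ range r, (v a + 64).toNat * 256 ^ a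

theorem pk_cast {r : ℕ} {v : ℕ → ℤ} (hv : ∀ a < r, |v a| < 64) :
    (pk r v : ℤ) = ∑ a ∈ range r, (v a + 64) * 256 ^ a := by
  rw [pk]; push_cast
  refine sum_congr rfl fun a ha => ?_
  have := abs_lt.1 (hv a (mem_range.1 ha))
  rw [Int.toNat_of_nonneg (by omega)]

theorem pk_dig {r : ℕ} {v : ℕ → ℤ} (hv : ∀ a < r, |v a| < 64) {j : ℕ} (hj : j < r) :
    ((dg (pk r v) j : ℕ) : ℤ) = v j + 64 := by
  have h1 : dg (pk r v) j = (v j + 64).toNat := by
    show (pk r v >>> (8 * j)) % 256 = _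
    rw [Nat.shiftRight_eq_div_pow, pow_mul]
    refine dig_eq (d := fun a => (v a + 64).toNat) (fun a ha => ?_) hj
    have := abs_lt.1 (hv a ha)
    omega
  have := abs_lt.1 (hv j hj)
  rw [h1, Int.toNat_of_nonneg (by omega)]

theorem pk_lt {r : ℕ} (hr : r ≤ 16) {v : ℕ → ℤ} (hv : ∀ a < r, |v a| < 64) :
    pk r v < 340282366920938463463374607431768211456 := by
  refine lt_of_lt_of_le (dig_lt (B := 256) (d := fun a => (v a + 64).toNat) fun a ha => ?_) ?_
  · have := abs_lt.1 (hv a ha)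
    omega
  · exact le_trans (Nat.pow_le_pow_right (by norm_num) hr) (by norm_num)

theorem step_eq (tab i N : ℕ) : step tab i N =
    (N + ((N >>> ((tab >>> (i * 136)) % 256)) % 256 + 340282366920938463463374607431768211392) *
      ((tab >>> (i * 136)) >>> 8)) % 340282366920938463463374607431768211456 := rfl

theorem step_pk {m r : ℕ} (hr : r ≤ 16) {AL : List (List ℤ)} {sg : ℕ → ℕ} {tab : ℕ} (ht : tabOK m r AL sg tab = true)
    {i : ℕ} (hi : i < m) (h16 : i < 16) {v v' : ℕ → ℤ} (hv : ∀ a < r, |v a| < 64) (hv' : ∀ a < r, |v' a| < 64)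
    (e : ∀ a < r, v' a = v a - ga AL (sg i) a * v (sg i)) : step tab i (pk r v) = pk r v' := by
  have h1 := allLt_iff.1 ht i h16
  simp only [if_pos hi, Bool.and_eq_true, decide_eq_true_eq, sumLt_eq] at h1
  obtain ⟨⟨h1, h2⟩, h3⟩ := h1
  have h2' : (tab >>> (i * 136)) % 256 = 8 * sg i := h2
  have h4 := pk_dig hv h1
  have h5 : (pk r v >>> (8 * sg i)) % 256 = dg (pk r v) (sg i) := rfl
  rw [step_eq, h2', h5, ← Nat.mod_eq_of_lt (pk_lt hr hv')]
  refine Int.natCast_modEq_iff.1 ?_
  obtain ⟨c, hc⟩ := Int.dvd_of_emod_eq_zero h3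
  have h6 : ((Nat.shiftRight (Nat.shiftRight tab (i * 136)) 8 : ℕ) : ℤ) = ((tab >>> (i * 136)) >>> 8 : ℕ) := rfl
  rw [h6] at hc
  have h7 : (pk r v' : ℤ) = pk r v - v (sg i) * ∑ a ∈ range r, ga AL (sg i) a * 256 ^ a := by
    rw [pk_cast hv, pk_cast hv', mul_sum, ← sum_sub_distrib]
    exact sum_congr rfl fun a ha => by rw [e a (mem_range.1 ha)]; ring
  generalize (tab >>> (i * 136)) >>> 8 = R at hc ⊢
  rw [h7, Int.modEq_iff_dvd]
  push_cast
  rw [h4]
  generalize (∑ a ∈ range r, ga AL (sg i) a * 256 ^ a) = S at hc ⊢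
  have h8 : (R : ℤ) = 340282366920938463463374607431768211456 * c - S := by
    rw [← hc]; ring
  rw [h8]
  exact ⟨S - v (sg i) * c - 340282366920938463463374607431768211456 * c, by ring⟩

theorem step_out {m r : ℕ} {AL : List (List ℤ)} {sg : ℕ → ℕ} {tab : ℕ} (ht : tabOK m r AL sg tab = true)
    {i : ℕ} (hi : ¬ i < m) (h16 : i < 16) {N : ℕ} (hN : N < 340282366920938463463374607431768211456) :
    step tab i N = N := by
  have h1 := allLt_iff.1 ht i h16
  simp only [if_neg hi, decide_eq_true_eq] at h1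
  obtain ⟨c, hc⟩ := Nat.dvd_of_mod_eq_zero h1
  have h2 : (tab >>> (i * 136)) >>> 8 = 340282366920938463463374607431768211456 * c := hc
  rw [step_eq, h2, mul_left_comm, Nat.add_mul_mod_self_left, Nat.mod_eq_of_lt hN]

theorem tabOK_lt {m r : ℕ} (hr : m ≤ 16) {AL : List (List ℤ)} {sg : ℕ → ℕ} {tab : ℕ}
    (ht : tabOK m r AL sg tab = true) {i : ℕ} (hi : i < m) : sg i < r := by
  have h1 := allLt_iff.1 ht i (by omega)
  simp only [if_pos hi, Bool.and_eq_true, decide_eq_true_eq] at h1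
  exact h1.1.1

/-! ### the ambient Coxeter system -/

variable {I W : Type} [Fintype I] [DecidableEq I] [Group W] [Fintype W] {M : CoxeterMatrix I}
  (cs : CoxeterSystem M W) {A : I → I → ℤ} (h : IsCartan M A) (ψ : MulAut W)

/-- the abstract type fits the coset `W_J w` -/
structure Fit (cs : CoxeterSystem M W) (_h : IsCartan M A) (ψ : MulAut W) (t : Ty) (em : ℕ → I) (J : Set I) (w : W) : Prop where
  car : ∀ i < t.r, ∀ j < t.r, A (em i) (em j) = ga t.AL i j
  mem : ∀ i, i ∈ J ↔ ∃ a < t.r, em a = i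
  aut : Aut cs ψ
  min : Min cs J w
  tw : ∀ i < t.r, w * ψ (cs.simple (em i)) = cs.simple (em (t.σ i)) * w

/-- invariance under twisted conjugation by `W_J` -/
def Inv (J : Set I) (y : W → ℂ) : Prop := ∀ g ∈ WJ cs J, ∀ u, y (g * u) = y (u * ψ g)

/-- heights -/
def vv (em : ℕ → I) (u : W) (i : ℕ) : ℤ := ht (rep cs h u⁻¹ (sr (em i)))

/-- the letter -/
def sl (em : ℕ → I) (r : ℕ) (sg : ℕ → ℕ) (d : ℕ) : W := if d < r then cs.simple (em (sg d)) else 1

/-- the word -/
def wdF (em : ℕ → I) (r : ℕ) (sg : ℕ → ℕ) (f : ℕ) : ℕ → W :=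
  Nat.rec (fun _ => 1) (fun _ ih n => if n ≤ 1 then 1 else ih (n / 16) * sl cs em r sg (n % 16)) f

/-- the element given by a word -/
def wd (em : ℕ → I) (r n : ℕ) : W := wdF cs em r id 256 n

theorem vv_one (em : ℕ → I) (i : ℕ) : vv cs h em 1 i = 1 := by
  simp [vv, ht, sr]

theorem vv_simple (em : ℕ → I) (u : W) (j : I) (i : ℕ) :
    vv cs h em (cs.simple j * u) i = vv cs h em u i - A j (em i) * ht (rep cs h u⁻¹ (sr j)) := by
  rw [vv, mul_inv_rev, cs.inv_simple, rep_mul_apply, rep_simple_eq, map_sub, map_zsmul, sr, pairing_single]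
  simp only [ht, vv, sr, Pi.sub_apply, Pi.smul_apply, smul_eq_mul, sum_sub_distrib, ← mul_sum, mul_one]

theorem vv_pos (em : ℕ → I) (u : W) (i : ℕ) :
    0 < vv cs h em u i ↔ cs.length u < cs.length (cs.simple (em i) * u) := by
  have e : cs.length (cs.simple (em i) * u) = cs.length (u⁻¹ * cs.simple (em i)) := by
    rw [← cs.length_inv, mul_inv_rev, cs.inv_simple]
  rw [e, ← cs.length_inv u, lt_iff' cs h]
  have hne := rep_single_ne_zero cs h u⁻¹ (em i)
  constructor
  · intro h1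
    rcases nonneg_or_nonpos cs h u⁻¹ (em i) with h2 | h2
    · exact h2
    · exact absurd h1 (not_lt.2 (sum_nonpos fun k _ => h2 k))
  · intro h1
    obtain ⟨k, hk⟩ := Function.ne_iff.1 hne
    exact sum_pos' (fun k _ => h1 k) ⟨k, mem_univ k, lt_of_le_of_ne (h1 k) (Ne.symm hk)⟩

variable {cs h ψ} {t : Ty} {em : ℕ → I} {J : Set I} {w : W}

theorem Fit.em_mem (F : Fit cs h ψ t em J w) {i : ℕ} (hi : i < t.r) : em i ∈ J := (F.mem _).2 ⟨i, hi, rfl⟩

theorem Fit.vv_step (F : Fit cs h ψ t em J w) (u : W) {j : ℕ} (hj : j < t.r) {i : ℕ} (hi : i < t.r) :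
    vv cs h em (cs.simple (em j) * u) i = vv cs h em u i - ga t.AL j i * vv cs h em u j := by
  rw [vv_simple, F.car j hj i hi]; rfl

theorem WJ_ind {P : W → Prop} (h1 : P 1) (hs : ∀ i ∈ J, ∀ u ∈ WJ cs J, P u → P (cs.simple i * u)) {u : W}
    (hu : u ∈ WJ cs J) : P u := by
  obtain ⟨ω, hω, rfl⟩ := exists_word_of_mem_WJ cs hu
  clear hu
  induction ω with
  | nil => simpa using h1
  | cons a ω ih =>
    rw [cs.wordProd_cons]
    have h2 : ∀ i ∈ ω, i ∈ J := fun i hi => hω i (List.mem_cons_of_mem _ hi)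
    exact hs a (hω a List.mem_cons_self) _ (wordProd_mem_WJ cs h2) (ih h2)

theorem Fit.eq_one (F : Fit cs h ψ t em J w) {u : W} (hu : u ∈ WJ cs J) (hp : ∀ i < t.r, 0 < vv cs h em u i) :
    u = 1 := by
  obtain ⟨ω, hω, hr, rfl⟩ := exists_reduced_of_mem_WJ cs hu
  cases ω with
  | nil => exact cs.wordProd_nil
  | cons a ω =>
    obtain ⟨i, hi, rfl⟩ := (F.mem a).1 (hω a List.mem_cons_self)
    have h1 := (vv_pos cs h em _ i).1 (hp i hi)
    rw [hr, cs.wordProd_cons, cs.simple_mul_simple_cancel_left] at h1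
    have h2 := cs.length_wordProd_le ω
    simp only [List.length_cons] at h1
    omega

theorem Fit.vv_inj (F : Fit cs h ψ t em J w) {u u' : W} (hu : u ∈ WJ cs J) (hu' : u' ∈ WJ cs J)
    (e : ∀ i < t.r, vv cs h em u i = vv cs h em u' i) : u = u' := by
  induction hn : cs.length u using Nat.strong_induction_on generalizing u u' with
  | _ n ih =>
    by_cases hp : ∀ i < t.r, 0 < vv cs h em u i
    · rw [F.eq_one hu hp, F.eq_one hu' fun i hi => e i hi ▸ hp i hi]
    · push Not at hp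
      obtain ⟨j, hj, h1⟩ := hp
      have h2 : cs.length (cs.simple (em j) * u) < n := by
        have h3 := mt (vv_pos cs h em u j).2 (not_lt.2 h1)
        have h4 := cs.length_simple_mul_ne u (em j)
        omega
      have hs := simple_mem_WJ cs (F.em_mem hj)
      refine mul_left_cancel (ih _ h2 (mul_mem hs hu) (mul_mem hs hu') (fun i hi => ?_) rfl)
      rw [F.vv_step u hj hi, F.vv_step u' hj hi, e i hi, e j hj]

theorem Fit.bound (F : Fit cs h ψ t em J w) (hR : rootOK t.r t.AL t.RL = true) {u : W} (hu : u ∈ WJ cs J) :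
    ∀ i < t.r, |vv cs h em u i| < 64 := by
  simp only [rootOK, Bool.and_eq_true, List.all_eq_true, decide_eq_true_eq, allLt_iff, Bool.or_eq_true,
    sumLt_eq] at hR
  have key : ∀ β ∈ t.RL, |∑ i ∈ range t.r, nth 0 β i * vv cs h em u i| < 64 := by
    refine WJ_ind (P := fun u => ∀ β ∈ t.RL, |∑ i ∈ range t.r, nth 0 β i * vv cs h em u i| < 64) ?_ ?_ hu
    · intro β hβ
      have := (hR.1 β hβ).1.2
      simp only [vv_one, mul_one]
      rw [Int.abs_eq_natAbs]; exact_mod_cast this
    · intro a ha u _ ih β hβ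
      obtain ⟨j, hj, rfl⟩ := (F.mem a).1 ha
      have hl := (hR.1 β hβ).1.1
      have e : ∑ i ∈ range t.r, nth 0 β i * vv cs h em (cs.simple (em j) * u) i =
          ∑ i ∈ range t.r, nth 0 (rfl' t.r t.AL j β) i * vv cs h em u i := by
        have e1 : ∀ i ∈ range t.r, nth 0 (rfl' t.r t.AL j β) i * vv cs h em u i = nth 0 β i * vv cs h em u i -
            if i = j then (∑ i ∈ range t.r, nth 0 β i * ga t.AL j i) * vv cs h em u j else 0 := by
          intro i hi
          rw [rfl', sumLt_eq, nth_eq, List.getD_eq_getElem?_getD, List.getElem?_set]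
          by_cases hij : j = i
          · subst hij
            rw [if_pos rfl, if_pos (hl ▸ hj), if_pos rfl, Option.getD_some]; ring
          · rw [if_neg hij, if_neg (Ne.symm hij), sub_zero, nth_eq, List.getD_eq_getElem?_getD]
        rw [sum_congr rfl e1, sum_sub_distrib, sum_ite_eq', if_pos (mem_range.2 hj), sum_mul, ← sum_sub_distrib]
        exact sum_congr rfl fun i hi => by rw [F.vv_step u hj (mem_range.1 hi)]; ring
      rw [e]
      rcases (hR.1 β hβ).2 j hj with h1 | h1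
      · exact ih _ h1
      · have e2 : ∀ i, nth 0 (β.map fun x => -x) i = - nth 0 β i := fun i => by
          rw [nth_eq, nth_eq, List.getD_eq_getElem?_getD, List.getD_eq_getElem?_getD, List.getElem?_map]
          cases β[i]? <;> simp
        simp only [h1, e2, neg_mul, sum_neg_distrib, abs_neg]
        exact ih β hβ
  intro i hi
  have h1 := key _ (hR.2 i hi)
  rw [sum_eq_single i] at h1
  · rwa [nth_eq, List.getD_eq_getElem?_getD, List.getElem?_set, if_pos rfl, if_pos (by simpa using hi),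
      Option.getD_some, one_mul] at h1
  · intro j hj hji
    rw [nth_eq, List.getD_eq_getElem?_getD, List.getElem?_set, if_neg (Ne.symm hji), List.getElem?_replicate]
    split_ifs <;> simp
  · exact fun h2 => absurd (mem_range.2 hi) h2

variable (cs h t em) in
/-- the code of an element -/
def cd (u : W) : ℕ := pk t.r (vv cs h em u)

theorem Ty.ok_iff (ht : t.ok = true) : t.r ≤ 16 ∧ tabOK t.r t.r t.AL id t.tab = true ∧
    tabOK t.r t.r t.AL t.σ t.tbs = true ∧
    rootOK t.r t.AL t.RL = true ∧ (t.n0 : ℤ) = ∑ a ∈ range t.r, 65 * 256 ^ a := by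
  simpa only [Ty.ok, Bool.and_eq_true, decide_eq_true_eq, sumLt_eq, and_assoc] using ht

theorem Ty.σ_lt (ht : t.ok = true) {i : ℕ} (hi : i < t.r) : t.σ i < t.r :=
  tabOK_lt (Ty.ok_iff ht).1 (Ty.ok_iff ht).2.2.1 hi

theorem cd_one (ht : t.ok = true) : cd cs h t em 1 = t.n0 := by
  have h1 : (cd cs h t em 1 : ℤ) = t.n0 := by
    rw [cd, pk_cast fun a _ => by rw [vv_one]; norm_num, (Ty.ok_iff ht).2.2.2.2]
    exact sum_congr rfl fun a _ => by rw [vv_one]; norm_num
  exact_mod_cast h1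

theorem Fit.cd_dig (F : Fit cs h ψ t em J w) (ht : t.ok = true) {u : W} (hu : u ∈ WJ cs J) {i : ℕ} (hi : i < t.r) :
    ((dg (cd cs h t em u) i : ℕ) : ℤ) = vv cs h em u i + 64 := pk_dig (F.bound (Ty.ok_iff ht).2.2.2.1 hu) hi

theorem Fit.cd_inj (F : Fit cs h ψ t em J w) (ht : t.ok = true) {u u' : W} (hu : u ∈ WJ cs J) (hu' : u' ∈ WJ cs J)
    (e : cd cs h t em u = cd cs h t em u') : u = u' :=
  F.vv_inj hu hu' fun i hi => by
    have h1 := F.cd_dig ht hu hi
    have h2 := F.cd_dig ht hu' hi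
    rw [e] at h1
    omega

theorem Fit.up (F : Fit cs h ψ t em J w) (ht : t.ok = true) {u : W} (hu : u ∈ WJ cs J) {i : ℕ} (hi : i < t.r) :
    64 < dg (cd cs h t em u) i ↔ cs.length u < cs.length (cs.simple (em i) * u) := by
  have h1 := F.cd_dig ht hu hi
  rw [← vv_pos cs h em u i]
  omega

theorem Fit.sl_mem (F : Fit cs h ψ t em J w) {m : ℕ} {sg : ℕ → ℕ} (hs : ∀ i < m, sg i < t.r) (d : ℕ) :
    sl cs em m sg d ∈ WJ cs J := by
  unfold sl
  split_ifs with hd
  exacts [simple_mem_WJ cs (F.em_mem (hs d hd)), one_mem _]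

theorem Fit.wdF_mem (F : Fit cs h ψ t em J w) {m : ℕ} {sg : ℕ → ℕ} (hs : ∀ i < m, sg i < t.r) (f n : ℕ) :
    wdF cs em m sg f n ∈ WJ cs J := by
  induction f generalizing n with
  | zero => exact one_mem _
  | succ f ih =>
    show (if n ≤ 1 then 1 else wdF cs em m sg f (n / 16) * sl cs em m sg (n % 16)) ∈ _
    split_ifs
    exacts [one_mem _, mul_mem (ih _) (F.sl_mem hs _)]

theorem Fit.wd_mem (F : Fit cs h ψ t em J w) (n : ℕ) : wd cs em t.r n ∈ WJ cs J := F.wdF_mem (fun _ hi => hi) _ n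

theorem Fit.step_cd (F : Fit cs h ψ t em J w) (ht : t.ok = true) {m : ℕ} {sg : ℕ → ℕ} {tab : ℕ} (hm : m ≤ 16)
    (hb : tabOK m t.r t.AL sg tab = true) {d : ℕ} (hd : d < 16) {u : W} (hu : u ∈ WJ cs J) :
    step tab d (cd cs h t em u) = cd cs h t em (sl cs em m sg d * u) := by
  obtain ⟨hr, -, -, hR, -⟩ := Ty.ok_iff ht
  unfold sl
  split_ifs with h1
  · have h2 := tabOK_lt hm hb h1
    exact step_pk hr hb h1 hd (F.bound hR hu) (F.bound hR (mul_mem (simple_mem_WJ cs (F.em_mem h2)) hu))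
      fun a ha => F.vv_step u h2 ha
  · rw [one_mul]
    exact step_out hb h1 hd (pk_lt hr (F.bound hR hu))

theorem Fit.runF_cd (F : Fit cs h ψ t em J w) (ht : t.ok = true) {m : ℕ} {sg : ℕ → ℕ} {tab : ℕ} (hm : m ≤ 16)
    (hb : tabOK m t.r t.AL sg tab = true) (f n : ℕ) {u : W} (hu : u ∈ WJ cs J) :
    runF tab f n (cd cs h t em u) = cd cs h t em (wdF cs em m sg f n * u) := by
  have hs := fun i (hi : i < m) => tabOK_lt hm hb hi
  induction f generalizing n u with
  | zero => exact congrArg (cd cs h t em) (one_mul u).symm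
  | succ f ih =>
    show cond (Nat.ble n 1) _ (runF tab f (n >>> 4) (step tab (n % 16) _)) =
      cd cs h t em ((if n ≤ 1 then 1 else wdF cs em m sg f (n / 16) * sl cs em m sg (n % 16)) * u)
    by_cases h1 : n ≤ 1
    · rw [Nat.ble_eq_true_of_le h1, if_pos h1, one_mul]; rfl
    · have h2 : Nat.ble n 1 = false := Bool.eq_false_iff.2 fun h3 => h1 (Nat.le_of_ble_eq_true h3)
      rw [h2, if_neg h1, F.step_cd ht hm hb (Nat.mod_lt _ (by norm_num)) hu, Nat.shiftRight_eq_div_pow, mul_assoc]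
      exact ih _ (mul_mem (F.sl_mem hs _) hu)

theorem Fit.run_cd (F : Fit cs h ψ t em J w) (ht : t.ok = true) (n : ℕ) {u : W} (hu : u ∈ WJ cs J) :
    run t.tab n (cd cs h t em u) = cd cs h t em (wd cs em t.r n * u) :=
  F.runF_cd ht (Ty.ok_iff ht).1 (Ty.ok_iff ht).2.1 _ n hu

variable (cs t em) in
/-- the twisted word -/
def ws (n : ℕ) : W := wdF cs em t.r t.σ 256 n

theorem Fit.ws_mem (F : Fit cs h ψ t em J w) (ht : t.ok = true) (n : ℕ) : ws cs t em n ∈ WJ cs J :=
  F.wdF_mem (fun _ hi => Ty.σ_lt ht hi) _ n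

theorem Fit.runs_cd (F : Fit cs h ψ t em J w) (ht : t.ok = true) (n : ℕ) {u : W} (hu : u ∈ WJ cs J) :
    run t.tbs n (cd cs h t em u) = cd cs h t em (ws cs t em n * u) :=
  F.runF_cd ht (Ty.ok_iff ht).1 (Ty.ok_iff ht).2.2.1 _ n hu

theorem Fit.tw_wdF (F : Fit cs h ψ t em J w) (f n : ℕ) :
    w * ψ (wdF cs em t.r id f n) = wdF cs em t.r t.σ f n * w := by
  induction f generalizing n with
  | zero => show w * ψ 1 = 1 * w; rw [map_one, mul_one, one_mul]
  | succ f ih =>
    show w * ψ (if n ≤ 1 then 1 else wdF cs em t.r id f (n / 16) * sl cs em t.r id (n % 16)) =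
      (if n ≤ 1 then 1 else wdF cs em t.r t.σ f (n / 16) * sl cs em t.r t.σ (n % 16)) * w
    split_ifs
    · rw [map_one, mul_one, one_mul]
    · rw [map_mul, ← mul_assoc, ih, mul_assoc, mul_assoc]
      congr 1
      unfold sl
      split_ifs with h1
      · exact F.tw _ h1
      · rw [map_one, mul_one, one_mul]

theorem Fit.tw_wd (F : Fit cs h ψ t em J w) (n : ℕ) : w * ψ (wd cs em t.r n) = ws cs t em n * w := F.tw_wdF _ n

theorem Fit.step_simple (F : Fit cs h ψ t em J w) (ht : t.ok = true) {a : ℕ} (ha : a < t.r) {u : W}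
    (hu : u ∈ WJ cs J) : step t.tab a (cd cs h t em u) = cd cs h t em (cs.simple (em a) * u) := by
  rw [F.step_cd ht (Ty.ok_iff ht).1 (Ty.ok_iff ht).2.1 (lt_of_lt_of_le ha (Ty.ok_iff ht).1) hu, sl, if_pos ha]
  rfl

theorem Fit.runL_cd (F : Fit cs h ψ t em J w) (ht : t.ok = true) {l : List ℕ} (hl : ∀ a ∈ l, a < t.r) {u : W}
    (hu : u ∈ WJ cs J) : runL t.tab l (cd cs h t em u) = cd cs h t em (cs.wordProd (l.map em) * u) := by
  induction l with
  | nil => exact congrArg (cd cs h t em) (by simp)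
  | cons a l ih =>
    have h1 : ∀ b ∈ l, b < t.r := fun b hb => hl b (List.mem_cons_of_mem _ hb)
    have h2 := hl a List.mem_cons_self
    have h3 : cs.wordProd (l.map em) ∈ WJ cs J := wordProd_mem_WJ cs fun i hi => by
      obtain ⟨b, hb, rfl⟩ := List.mem_map.1 hi
      exact F.em_mem (h1 b hb)
    show step t.tab a (runL t.tab l _) = _
    rw [ih h1, F.step_simple ht h2 (mul_mem h3 hu), List.map_cons, cs.wordProd_cons, mul_assoc]

/-- a checked twisted conjugation: `a * σ(g) = g * b` -/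
theorem Fit.conj (F : Fit cs h ψ t em J w) {y : W → ℂ} (hy : Inv cs ψ J y) {a b : W} {g : ℕ}
    (e : a * ws cs t em g = wd cs em t.r g * b) : y (a * w) = y (b * w) := by
  have h1 := hy _ (F.wd_mem g) ((wd cs em t.r g)⁻¹ * (a * w))
  rw [mul_inv_cancel_left] at h1
  rw [h1, mul_assoc, mul_assoc, F.tw_wd, ← mul_assoc a, e, mul_assoc, inv_mul_cancel_left]

end Cfsg.Agent.LV.W
end

-- part: LV/W/Cas
section
/-!
# LV/W: the reflections of a union of components; packed linear identities (helper25)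
-/

set_option autoImplicit false
set_option linter.unusedSectionVars false

namespace Cfsg.Agent.LV.W

open CoxeterSystem Cfsg.Agent.Tits.Exchange Cfsg.Agent.Tits.Core Cfsg.Agent.Tits.Roots
  Cfsg.Agent.ChevalleyStructure.CoxeterGeom Cfsg.Agent.LV.T Finset

/-- one Casimir element: letters, longest word, words of the reflections, levels -/
structure Cs where
  cm : List ℕ
  om : List ℕ
  tl : List ℕ
  lev : List ℤ

/-- the word is reduced -/
def redOK (t : Ty) (l : List ℕ) : Bool :=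
  List.rec true (fun a l' ih => Nat.blt 64 (dg (runL t.tab l' t.n0) a) && ih) l

def csOK (t : Ty) (c : Cs) : Bool :=
  c.cm.all (fun a => decide (a < t.r) && decide (t.σ a ∈ c.cm) && !Nat.blt 64 (dg (runL t.tab c.om t.n0) a)) &&
  c.om.all (fun a => decide (a ∈ c.cm)) &&
  allLt t.r (fun i => decide (i ∈ c.cm) ||
    c.cm.all fun j => Nat.beq (step t.tab i (step t.tab j t.n0)) (step t.tab j (step t.tab i t.n0))) &&
  redOK t c.om && decide (c.tl.length = c.om.length) &&
  allLt c.om.length fun j =>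
    Nat.beq (run t.tab (nth 1 c.tl j) (runL t.tab (c.om.take j) t.n0)) (runL t.tab (c.om.take (j + 1)) t.n0)

/-- the nodes of the Casimir element -/
def Cs.set {I : Type} (c : Cs) (em : ℕ → I) : Set I := {i | ∃ a ∈ c.cm, em a = i}

variable {I W : Type} [Fintype I] [DecidableEq I] [Group W] [Fintype W] {M : CoxeterMatrix I}
  {cs : CoxeterSystem M W} {A : I → I → ℤ} {h : IsCartan M A} {ψ : MulAut W} {t : Ty} {em : ℕ → I} {J : Set I} {w : W}

theorem Fit.prod_mem (F : Fit cs h ψ t em J w) {l : List ℕ} (hl : ∀ a ∈ l, a < t.r) :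
    cs.wordProd (l.map em) ∈ WJ cs J := wordProd_mem_WJ cs fun i hi => by
  obtain ⟨b, hb, rfl⟩ := List.mem_map.1 hi
  exact F.em_mem (hl b hb)

theorem Fit.runL_one (F : Fit cs h ψ t em J w) (ht : t.ok = true) {l : List ℕ} (hl : ∀ a ∈ l, a < t.r) :
    runL t.tab l t.n0 = cd cs h t em (cs.wordProd (l.map em)) := by
  rw [← cd_one (cs := cs) (h := h) (em := em) ht, F.runL_cd ht hl (one_mem _), mul_one]

theorem Fit.run_one (F : Fit cs h ψ t em J w) (ht : t.ok = true) (n : ℕ) :
    run t.tab n t.n0 = cd cs h t em (wd cs em t.r n) := by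
  rw [← cd_one (cs := cs) (h := h) (em := em) ht, F.run_cd ht n (one_mem _), mul_one]

theorem Fit.runs_one (F : Fit cs h ψ t em J w) (ht : t.ok = true) (n : ℕ) :
    run t.tbs n t.n0 = cd cs h t em (ws cs t em n) := by
  rw [← cd_one (cs := cs) (h := h) (em := em) ht, F.runs_cd ht n (one_mem _), mul_one]

theorem Fit.red (F : Fit cs h ψ t em J w) (ht : t.ok = true) {l : List ℕ} (hl : ∀ a ∈ l, a < t.r)
    (hr : redOK t l = true) : cs.IsReduced (l.map em) := by
  induction l with
  | nil => simp [CoxeterSystem.IsReduced]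
  | cons a l ih =>
    have h1 : ∀ b ∈ l, b < t.r := fun b hb => hl b (List.mem_cons_of_mem _ hb)
    have h2 : (Nat.blt 64 (dg (runL t.tab l t.n0) a) && redOK t l) = true := hr
    rw [Bool.and_eq_true, Nat.blt_eq, F.runL_one ht h1, F.up ht (F.prod_mem h1) (hl a List.mem_cons_self)] at h2
    have h3 : cs.length _ = _ := ih h1 h2.2
    have h4 := cs.length_wordProd_le ((a :: l).map em)
    have h5 := h2.1
    rw [CoxeterSystem.IsReduced]
    rw [List.map_cons, cs.wordProd_cons] at h4 ⊢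
    simp only [List.length_cons] at h4 ⊢
    omega

theorem Fit.cs_spec (F : Fit cs h ψ t em J w) (ht : t.ok = true) {c : Cs} (hc : csOK t c = true) :
    Node cs ψ J (c.set em) w ∧ ∀ {R : Type} [AddCommMonoid R] (g : W → R),
      ∑ x ∈ rf cs (c.set em), g x = (c.tl.map fun n => g (wd cs em t.r n)).sum := by
  simp only [csOK, Bool.and_eq_true, List.all_eq_true, decide_eq_true_eq, allLt_iff, Bool.or_eq_true, Nat.beq_eq,
    Bool.not_eq_true', ← Bool.not_eq_true, Nat.blt_eq] at hc
  obtain ⟨⟨⟨⟨⟨h1, h2⟩, h3⟩, h4⟩, h5⟩, h6⟩ := hc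
  have hom : ∀ a ∈ c.om, a < t.r := fun a ha => (h1 a (h2 a ha)).1.1
  have hK : ∀ i ∈ c.om.map em, i ∈ c.set em := fun i hi => by
    obtain ⟨a, ha, rfl⟩ := List.mem_map.1 hi
    exact ⟨a, h2 a ha, rfl⟩
  refine ⟨⟨?_, ?_, ?_⟩, fun g => ?_⟩
  · rintro _ ⟨a, ha, rfl⟩
    exact F.em_mem (h1 a ha).1.1
  · intro i hi
    obtain ⟨a, ha, rfl⟩ := (F.mem i).1 hi
    refine (h3 a ha).imp (fun h7 => ⟨a, h7, rfl⟩) ?_
    rintro h7 _ ⟨b, hb, rfl⟩
    have h8 := h7 b hb
    have hb' := (h1 b hb).1.1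
    have ma := simple_mem_WJ cs (F.em_mem ha)
    have mb := simple_mem_WJ cs (F.em_mem hb')
    rw [← cd_one (cs := cs) (h := h) (em := em) ht, F.step_simple ht hb' (one_mem _), F.step_simple ht ha (one_mem _),
      mul_one, mul_one, F.step_simple ht ha mb, F.step_simple ht hb' ma] at h8
    exact F.cd_inj ht (mul_mem ma mb) (mul_mem mb ma) h8
  · rintro _ ⟨a, ha, rfl⟩
    exact ⟨_, ⟨_, (h1 a ha).1.2, rfl⟩, F.tw a (h1 a ha).1.1⟩
  · have e : cs.wordProd (c.om.map em) = wJ cs (c.set em) := by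
      refine Cfsg.Agent.Tits.Generic.eq_wJ_of_descents cs (wordProd_mem_WJ cs hK) ?_
      rintro _ ⟨a, ha, rfl⟩
      have h7 := (h1 a ha).2
      rw [F.runL_one ht hom, F.up ht (F.prod_mem hom) (h1 a ha).1.1] at h7
      have h8 := cs.length_simple_mul_ne (cs.wordProd (c.om.map em)) (em a)
      omega
    rw [← sum_leftInvSeq (F.red ht hom h4) hK e]
    have e2 : cs.leftInvSeq (c.om.map em) = c.tl.map (wd cs em t.r) := by
      refine List.ext_getElem (by rw [cs.length_leftInvSeq, List.length_map, List.length_map, h5]) fun j hj hj' => ?_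
      have hj2 : j < c.om.length := by simpa using hj
      have h7 := h6 j hj2
      have t1 : ∀ m, ∀ a ∈ c.om.take m, a < t.r := fun m a ha => hom a (List.mem_of_mem_take ha)
      rw [F.runL_one ht (t1 _), F.runL_one ht (t1 _), F.run_cd ht _ (F.prod_mem (t1 _))] at h7
      have h8 := F.cd_inj ht (mul_mem (F.wd_mem _) (F.prod_mem (t1 _))) (F.prod_mem (t1 _)) h7
      rw [List.take_succ_eq_append_getElem hj2, List.map_append, cs.wordProd_append, List.map_singleton,
        cs.wordProd_singleton, nth_eq, List.getD_eq_getElem _ _ (h5 ▸ hj2)] at h8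
      rw [cs.getElem_leftInvSeq _ _ (by simpa using hj2), List.getElem_map, List.getElem_map, ← List.map_take,
        ← h8, mul_inv_cancel_right]
    rw [e2, List.map_map]
    rfl

theorem node_conj {K : Set I} (hK : Node cs ψ J K w) {v : W} (hv : v ∈ WJ cs J) (x : W) :
    x ∈ WJ cs K ↔ v * x * v⁻¹ ∈ WJ cs K := by
  have key : ∀ v ∈ WJ cs J, ∀ x ∈ WJ cs K, v * x * v⁻¹ ∈ WJ cs K := by
    intro v hv
    refine WJ_ind (P := fun v => ∀ x ∈ WJ cs K, v * x * v⁻¹ ∈ WJ cs K) (fun x hx => by simpa using hx) ?_ hv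
    intro i hi u _ ih x hx
    have h1 := ih x hx
    have e : cs.simple i * u * x * (cs.simple i * u)⁻¹ = cs.simple i * (u * x * u⁻¹) * (cs.simple i)⁻¹ := by group
    rw [e]
    rcases hK.comp i hi with h2 | h2
    · exact mul_mem (mul_mem (simple_mem_WJ cs h2) h1) (inv_mem (simple_mem_WJ cs h2))
    · have h3 : cs.simple i * (u * x * u⁻¹) = (u * x * u⁻¹) * cs.simple i :=
        WJ_ind (P := fun z => cs.simple i * z = z * cs.simple i) (by simp)
          (fun j hj z _ hz => by rw [← mul_assoc, h2 j hj, mul_assoc, hz, mul_assoc]) h1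
      rwa [h3, mul_inv_cancel_right]
  refine ⟨key v hv x, fun h1 => ?_⟩
  have h2 := key _ (inv_mem hv) _ h1
  rwa [show v⁻¹ * (v * x * v⁻¹) * v⁻¹⁻¹ = x by group] at h2

theorem Inv.aeval {K : Set I} (hK : Node cs ψ J K w) {y : W → ℂ} (hy : Inv cs ψ J y) (P : Polynomial ℂ) :
    Inv cs ψ J (Polynomial.aeval (cas cs K) P y) := by
  intro g hg u
  have h1 := aeval_cas_conj (node_conj hK hg) (ψ g)⁻¹ (y := y) (fun u => by
    rw [mul_assoc, hy g hg, inv_mul_cancel_right]) P (u * ψ g)
  rwa [mul_assoc, mul_inv_cancel_right] at h1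

theorem Inv.cas {K : Set I} (hK : Node cs ψ J K w) {y : W → ℂ} (hy : Inv cs ψ J y) : Inv cs ψ J (cas cs K y) := by
  simpa using hy.aeval hK Polynomial.X

theorem sum_cas {K : Set I} (hK : K ⊆ J) [Fintype (WJ cs J)] (y : W → ℂ) :
    ∑ x : WJ cs J, cas cs K y (x * w) = (rf cs K).card * ∑ x : WJ cs J, y (x * w) := by
  simp only [cas_apply]
  rw [sum_comm, ← nsmul_eq_mul, ← sum_const]
  refine sum_congr rfl fun s hs => ?_
  exact Fintype.sum_equiv (Equiv.mulLeft (⟨s, WJ_mono cs hK (mem_rf.1 hs).2⟩ : WJ cs J)) _ _ fun x => by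
    simp [mul_assoc]

/-! ### packing -/

def pkz (B : ℤ) (l : List ℤ) : ℤ := List.rec 0 (fun a _ ih => a + B * ih) l

def sumAbs (l : List ℤ) : ℕ := List.rec 0 (fun a _ ih => Nat.add a.natAbs ih) l

/-- sparse linear combination -/
def dotP (ps : List (ℤ × ℕ)) (f : ℕ → ℤ) : ℤ := List.rec 0 (fun p _ ih => p.1 * f p.2 + ih) ps

theorem dotP_eq (ps : List (ℤ × ℕ)) (f : ℕ → ℤ) : dotP ps f = (ps.map fun p => p.1 * f p.2).sum := by
  induction ps with
  | nil => rfl
  | cons p ps ih => rw [List.map_cons, List.sum_cons, ← ih]; rfl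

theorem pkz_eq (B : ℤ) {l : List ℤ} {n : ℕ} (hn : l.length ≤ n) : pkz B l = ∑ i ∈ range n, nth 0 l i * B ^ i := by
  induction l generalizing n with
  | nil => simp [pkz, nth_nil]
  | cons a l ih =>
    cases n with
    | zero => simp at hn
    | succ n =>
      rw [sum_range_succ', nth_zero, pow_zero, mul_one, add_comm]
      show a + B * pkz B l = _
      rw [ih (Nat.le_of_succ_le_succ hn), mul_sum]
      exact congrArg _ (sum_congr rfl fun i _ => by rw [nth_succ]; ring)

theorem abs_nth_le (l : List ℤ) (i : ℕ) : |nth 0 l i| ≤ sumAbs l := by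
  induction l generalizing i with
  | nil => simp [nth_nil]
  | cons a l ih =>
    have e : (sumAbs (a :: l) : ℤ) = |a| + sumAbs l := by
      show ((a.natAbs + sumAbs l : ℕ) : ℤ) = _
      push_cast; rfl
    rw [e]
    cases i with
    | zero => rw [nth_zero]; omega
    | succ i => rw [nth_succ]; have := ih i; have := abs_nonneg a; omega

theorem pack_inj {B : ℤ} {n : ℕ} {d : ℕ → ℤ} (hd : ∀ i < n, |d i| < B) (e : ∑ i ∈ range n, d i * B ^ i = 0) :
    ∀ i < n, d i = 0 := by
  induction n generalizing d with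
  | zero => exact fun i hi => absurd hi (Nat.not_lt_zero i)
  | succ n ih =>
    have h0 := hd 0 (Nat.succ_pos n)
    have hB : B ≠ 0 := (lt_of_le_of_lt (abs_nonneg _) h0).ne'
    have e1 : B * ∑ i ∈ range n, d (i + 1) * B ^ i + d 0 = 0 := by
      rw [← e, sum_range_succ', pow_zero, mul_one, mul_sum]
      exact congrArg (· + d 0) (sum_congr rfl fun i _ => by ring)
    have h1 : d 0 = 0 := Int.eq_zero_of_abs_lt_dvd ⟨-∑ i ∈ range n, d (i + 1) * B ^ i, by linarith⟩ h0
    rw [h1, add_zero, mul_eq_zero] at e1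
    have h2 := ih (d := fun i => d (i + 1)) (fun i hi => hd _ (Nat.succ_lt_succ hi)) (e1.resolve_left hB)
    intro i hi
    cases i with
    | zero => exact h1
    | succ i => exact h2 i (Nat.lt_of_succ_lt_succ hi)

/-- `∑ p.1 * column p.2 = l` -/
def linP (K b : ℕ) (B : ℤ) (XP : List ℤ) (ps : List (ℤ × ℕ)) (l : List ℤ) : Bool :=
  ps.all (fun p => Nat.blt p.2 K) && Nat.ble l.length K &&
    decide (((sumAbs (ps.map fun p => p.1) * b + sumAbs l : ℕ) : ℤ) < B) && decide (dotP ps (nth 0 XP) = pkz B l)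

theorem linP_spec {K b : ℕ} {B : ℤ} {XC : List (List ℤ)} (hK : XC.length = K)
    (hX : ∀ c ∈ XC, c.length ≤ K ∧ ∀ x ∈ c, x.natAbs ≤ b) {ps : List (ℤ × ℕ)} {l : List ℤ}
    (hl : linP K b B (XC.map (pkz B)) ps l = true) :
    (∀ p ∈ ps, p.2 < K) ∧ ∀ φ < K, (ps.map fun p => p.1 * ga XC p.2 φ).sum = nth 0 l φ := by
  simp only [linP, Bool.and_eq_true, List.all_eq_true, decide_eq_true_eq, Nat.blt_eq, Nat.ble_eq, dotP_eq] at hl
  obtain ⟨⟨⟨h1, h2⟩, h3⟩, h4⟩ := hl
  have hc : ∀ k < K, nth [] XC k ∈ XC := fun k hk => by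
    rw [nth_eq, List.getD_eq_getElem _ _ (hK ▸ hk)]; exact List.getElem_mem _
  have hb : ∀ k < K, ∀ φ, |ga XC k φ| ≤ b := fun k hk φ => by
    rw [ga, nth_eq, List.getD_eq_getElem?_getD]
    cases e : (nth [] XC k)[φ]? with
    | none => simp
    | some x =>
      have := (hX _ (hc k hk)).2 x (List.mem_of_getElem? e)
      rw [Option.getD_some, Int.abs_eq_natAbs]; exact_mod_cast this
  have hp : ∀ k < K, nth 0 (XC.map (pkz B)) k = ∑ φ ∈ range K, ga XC k φ * B ^ φ := fun k hk => by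
    rw [nth_eq, List.getD_eq_getElem _ _ (by rw [List.length_map, hK]; exact hk), List.getElem_map,
      pkz_eq B (hX _ (List.getElem_mem _)).1]
    simp only [ga, nth_eq [] XC k, List.getD_eq_getElem _ _ (hK ▸ hk)]
  have key : ∀ qs : List (ℤ × ℕ), (∀ p ∈ qs, p.2 < K) →
      (qs.map fun p => p.1 * nth 0 (XC.map (pkz B)) p.2).sum =
        ∑ φ ∈ range K, (qs.map fun p => p.1 * ga XC p.2 φ).sum * B ^ φ ∧
      ∀ φ, |(qs.map fun p => p.1 * ga XC p.2 φ).sum| ≤ sumAbs (qs.map fun p => p.1) * b := by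
    intro qs hq
    induction qs with
    | nil => simp [sumAbs]
    | cons p qs ih =>
      obtain ⟨i1, i2⟩ := ih fun q hq' => hq q (List.mem_cons_of_mem _ hq')
      have hp2 := hq p List.mem_cons_self
      simp only [List.map_cons, List.sum_cons]
      refine ⟨?_, fun φ => ?_⟩
      · rw [i1, hp _ hp2, mul_sum, ← sum_add_distrib]
        exact sum_congr rfl fun φ _ => by ring
      · have e : (sumAbs (p.1 :: qs.map fun p => p.1) : ℤ) = |p.1| + sumAbs (qs.map fun p => p.1) := by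
          show ((p.1.natAbs + sumAbs _ : ℕ) : ℤ) = _
          push_cast; rfl
        rw [e, add_mul]
        refine le_trans (abs_add_le _ _) (add_le_add ?_ (i2 φ))
        rw [abs_mul]
        exact mul_le_mul_of_nonneg_left (hb _ hp2 φ) (abs_nonneg _)
  refine ⟨h1, fun φ hφ => sub_eq_zero.1 (pack_inj (B := B) (n := K)
    (d := fun φ => (ps.map fun p => p.1 * ga XC p.2 φ).sum - nth 0 l φ) (fun i _ => ?_) ?_ φ hφ)⟩
  · have a1 := (key ps h1).2 i
    have a2 := abs_nth_le l i
    have a3 := abs_sub (ps.map fun p => p.1 * ga XC p.2 i).sum (nth 0 l i)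
    push_cast at h3
    linarith
  · simp only [sub_mul, sum_sub_distrib]
    rw [← (key ps h1).1, h4, pkz_eq B h2, sub_self]

end Cfsg.Agent.LV.W
end

-- part: LV/W/Node
section
/-!
# LV/W: nodes (classes, characters, levels of a twisted coset) (helper25)

`Nd.Good nd` is proved by kernel checks (`Good.mk`, `Up.step`).  Consequences for every coset which fits:
`cover`, `exists_rp` (coordinates), `Rp.lev` (level projections), `mass`, `norm`.
-/

set_option autoImplicit false
set_option linter.unusedSectionVars false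

namespace Cfsg.Agent.LV.W

open CoxeterSystem Cfsg.Agent.Tits.Exchange Cfsg.Agent.Tits.Core Cfsg.Agent.Tits.Roots
  Cfsg.Agent.ChevalleyStructure.CoxeterGeom Cfsg.Agent.LV.T Finset

/-- the data of a node -/
structure Nd extends Ty where
  K : ℕ
  rep : List ℕ
  cod : List ℕ
  nW : List ℤ
  XC : List (List ℤ)
  nu : List ℤ
  b : ℕ
  B : ℤ
  cas : List Cs

namespace Nd

variable (nd : Nd)

/-- value of the character `φ` at the class `k` -/
def X (φ k : ℕ) : ℤ := ga nd.XC k φ
/-- weight of the class -/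
def n (k : ℕ) : ℤ := nth 0 nd.nW k
/-- norm of the character -/
def ν (φ : ℕ) : ℤ := nth 0 nd.nu φ
/-- word of the class -/
def e (k : ℕ) : ℕ := nth 1 nd.rep k
/-- packed columns -/
def XP : List ℤ := nd.XC.map (pkz nd.B)

def lin (XP : List ℤ) (ps : List (ℤ × ℕ)) (l : List ℤ) : Bool := linP nd.K nd.b nd.B XP ps l

def unit (φ : ℕ) (c : ℤ) : List ℤ := List.replicate φ 0 ++ [c]

def orth (XP : List ℤ) : Bool :=
  allLt nd.K fun φ => decide (0 < nd.ν φ) &&
    nd.lin XP ((List.range nd.K).map fun k => (nd.n k * nd.X φ k, k)) (unit φ (nd.ν φ))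

def base : Bool :=
  nd.toTy.ok && Nat.blt 0 nd.K && decide (nd.e 0 = 1) &&
  allLt nd.K (fun k => Nat.beq (nth 0 nd.cod k) (run nd.tab (nd.e k) nd.n0) && decide (nd.X 0 k = 1)) &&
  decide (nd.XC.length = nd.K) && nd.XC.all (fun c => Nat.ble c.length nd.K && c.all fun x => Nat.ble x.natAbs nd.b) &&
  nd.cas.all (fun c => csOK nd.toTy c && decide (nth 0 c.lev 0 = c.tl.length)) &&
  allLt nd.r (fun i => nd.cas.any fun c => decide (i ∈ c.cm)) &&
  allLt nd.K (fun φ => decide (φ = 0) || nd.cas.any fun c => decide (nth 0 c.lev φ ≠ c.tl.length)) &&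
  nd.orth nd.XP

/-- `a * σ(g) = g * e_k`, `c = 256 g + k`; `fa` is the left multiplication by `a` on codes -/
def cj (fa : ℕ → ℕ) (c : ℕ) : Bool :=
  Nat.beq (fa (run nd.tbs (Nat.shiftRight c 8) nd.n0)) (run nd.tab (Nat.shiftRight c 8) (nth 0 nd.cod (Nat.mod c 256)))

end Nd

def all2 {α β : Type} (p : α → β → Bool) (l : List α) : List β → Bool :=
  List.rec (fun m => m.isEmpty) (fun a _ ih m => List.casesOn m false fun c m' => p a c && ih m') l

theorem all2_iff {α β : Type} {p : α → β → Bool} {l : List α} {m : List β} :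
    all2 p l m = true ↔ List.Forall₂ (fun a b => p a b = true) l m := by
  induction l generalizing m with
  | nil => cases m <;> simp [all2]
  | cons a l ih =>
    cases m with
    | nil => simp [all2]
    | cons c m =>
      show (p a c && all2 p l m) = true ↔ _
      rw [Bool.and_eq_true, ih, List.forall₂_cons]

namespace Nd

variable (nd : Nd)

def rowOK (XP : List ℤ) (c : Cs) (k : ℕ) (row : List ℕ) : Bool :=
  all2 (fun t x => nd.cj (fun N => run nd.tab t (run nd.tab (nd.e k) N)) x) c.tl row &&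
    nd.lin XP (row.map fun x => (1, Nat.mod x 256)) (List.zipWith (fun a x => a * x) c.lev (nth [] nd.XC k)) &&
    decide (c.lev.length = nd.K)

def rowsOK (XP : List ℤ) (c : Cs) (rows : List (List ℕ)) : ℕ → Bool :=
  List.rec (fun _ => true) (fun row _ ih k => nd.rowOK XP c k row && ih (Nat.succ k)) rows

/-- the rows below `m` are checked -/
def Up (o m : ℕ) : Prop := ∀ k < m, ∃ row, nd.rowOK nd.XP (nth ⟨[], [], [], []⟩ nd.cas o) k row = true

theorem Up.zero (o : ℕ) : nd.Up o 0 := fun k hk => absurd hk (Nat.not_lt_zero k)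

def upOK (o m m' : ℕ) (rows : List (List ℕ)) : Bool :=
  nd.rowsOK nd.XP (nth ⟨[], [], [], []⟩ nd.cas o) rows m && Nat.ble m' (m + rows.length)

variable {nd}

theorem Up.step {o m m' : ℕ} (h : nd.Up o m) (rows : List (List ℕ)) (hr : nd.upOK o m m' rows = true) : nd.Up o m' := by
  rw [upOK, Bool.and_eq_true, Nat.ble_eq] at hr
  obtain ⟨h1, h2⟩ := hr
  induction rows generalizing m with
  | nil => exact fun k hk => h k (lt_of_lt_of_le hk h2)
  | cons row rows ih =>
    have h3 : (nd.rowOK nd.XP _ m row && nd.rowsOK nd.XP _ rows (m + 1)) = true := h1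
    rw [Bool.and_eq_true] at h3
    refine ih (m := m + 1) (fun k hk => ?_) h3.2 (by simp only [List.length_cons] at h2; omega)
    rcases Nat.lt_succ_iff_lt_or_eq.1 hk with h4 | rfl
    exacts [h k h4, ⟨row, h3.1⟩]

variable (nd) in
/-- all checks -/
structure Good : Prop where
  base : nd.base = true
  rows : ∀ o < nd.cas.length, nd.Up o nd.K

variable (nd) in
/-- all checks at once -/
def full (cert : List (List (List ℕ))) : Bool :=
  nd.base && allLt nd.cas.length fun o => nd.upOK o 0 nd.K (nth [] cert o)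

theorem good_of_full (cert : List (List (List ℕ))) (h : nd.full cert = true) : nd.Good := by
  rw [full, Bool.and_eq_true, allLt_iff] at h
  exact ⟨h.1, fun o ho => (Up.zero nd o).step _ (h.2 o ho)⟩

theorem good_of_one (h : nd.base = true) (h1 : nd.cas.length = 1) (h2 : nd.Up 0 nd.K) : nd.Good :=
  ⟨h, fun o ho => by rwa [show o = 0 by omega]⟩

theorem nth_unit (φ : ℕ) (c : ℤ) (i : ℕ) : nth 0 (unit φ c) i = if i = φ then c else 0 := by
  induction φ generalizing i with
  | zero => cases i <;> simp [unit, nth_zero, nth_succ, nth_nil]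
  | succ φ ih =>
    cases i with
    | zero => simp [unit, List.replicate_succ, nth_zero]
    | succ i =>
      show nth 0 (unit φ c) i = _
      rw [ih]; simp

theorem Good.spec (G : nd.Good) : nd.toTy.ok = true ∧ 0 < nd.K ∧ nd.e 0 = 1 ∧
    (∀ k < nd.K, nth 0 nd.cod k = run nd.tab (nd.e k) nd.n0 ∧ nd.X 0 k = 1) ∧ nd.XC.length = nd.K ∧
    (∀ c ∈ nd.XC, c.length ≤ nd.K ∧ ∀ x ∈ c, x.natAbs ≤ nd.b) ∧
    (∀ c ∈ nd.cas, csOK nd.toTy c = true ∧ nth 0 c.lev 0 = c.tl.length) ∧ (∀ i < nd.r, ∃ c ∈ nd.cas, i ∈ c.cm) ∧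
    (∀ φ < nd.K, φ = 0 ∨ ∃ c ∈ nd.cas, nth 0 c.lev φ ≠ c.tl.length) ∧ nd.orth nd.XP = true := by
  simpa only [Nd.base, Bool.and_eq_true, decide_eq_true_eq, allLt_iff, List.all_eq_true, List.any_eq_true,
    Bool.or_eq_true, Nat.blt_eq, Nat.ble_eq, Nat.beq_eq, and_assoc] using G.base

theorem Good.ok (G : nd.Good) : nd.toTy.ok = true := G.spec.1

theorem Good.lin (G : nd.Good) {ps : List (ℤ × ℕ)} {l : List ℤ} (h : nd.lin nd.XP ps l = true) :
    (∀ p ∈ ps, p.2 < nd.K) ∧ ∀ φ < nd.K, (ps.map fun p => p.1 * nd.X φ p.2).sum = nth 0 l φ :=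
  linP_spec G.spec.2.2.2.2.1 G.spec.2.2.2.2.2.1 h

theorem Good.orth (G : nd.Good) {φ : ℕ} (hφ : φ < nd.K) : 0 < nd.ν φ ∧
    ∀ φ' < nd.K, ∑ k ∈ range nd.K, nd.n k * nd.X φ k * nd.X φ' k = if φ' = φ then nd.ν φ else 0 := by
  have h1 := allLt_iff.1 G.spec.2.2.2.2.2.2.2.2.2 φ hφ
  rw [Bool.and_eq_true, decide_eq_true_eq] at h1
  refine ⟨h1.1, fun φ' hφ' => ?_⟩
  rw [← nth_unit, ← (G.lin h1.2).2 φ' hφ', List.map_map]
  rfl

theorem Good.row (G : nd.Good) {c : Cs} (hc : c ∈ nd.cas) {k : ℕ} (hk : k < nd.K) :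
    ∃ row, nd.rowOK nd.XP c k row = true := by
  obtain ⟨o, ho, rfl⟩ := List.getElem_of_mem hc
  have := G.rows o ho k hk
  rwa [nth_eq, List.getD_eq_getElem _ _ ho] at this

variable (nd) in
/-- the coordinates of a vector -/
def co {R : Type} [Field R] (f : ℕ → R) (φ : ℕ) : R := (∑ k ∈ range nd.K, (nd.n k * nd.X φ k : ℤ) * f k) / nd.ν φ

theorem Good.co_eq (G : nd.Good) {R : Type} [Field R] [CharZero R] {f a : ℕ → R}
    (h : ∀ k < nd.K, f k = ∑ φ ∈ range nd.K, a φ * nd.X φ k) {φ : ℕ} (hφ : φ < nd.K) : nd.co f φ = a φ := by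
  obtain ⟨h1, h2⟩ := G.orth hφ
  have h3 : (nd.ν φ : R) ≠ 0 := Int.cast_ne_zero.2 h1.ne'
  rw [co, div_eq_iff h3, sum_congr rfl fun k hk => by rw [h k (mem_range.1 hk), mul_sum], sum_comm]
  have h4 : ∀ φ' ∈ range nd.K, ∑ k ∈ range nd.K, ((nd.n k * nd.X φ k : ℤ) : R) * (a φ' * nd.X φ' k) =
      if φ' = φ then a φ * nd.ν φ else 0 := fun φ' hφ' => by
    have h5 := congrArg (Int.cast : ℤ → R) (h2 φ' (mem_range.1 hφ'))
    have h6 : ∑ k ∈ range nd.K, ((nd.n k * nd.X φ k : ℤ) : R) * (a φ' * nd.X φ' k) =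
        a φ' * ((∑ k ∈ range nd.K, nd.n k * nd.X φ k * nd.X φ' k : ℤ) : R) := by
      push_cast; rw [mul_sum]; exact sum_congr rfl fun k _ => by ring
    rw [h6, h5]
    split_ifs with h7
    · rw [h7]
    · simp
  rw [sum_congr rfl h4, sum_ite_eq', if_pos (mem_range.2 hφ)]

theorem Good.exp (G : nd.Good) {R : Type} [Field R] [CharZero R] (f : ℕ → R) {k : ℕ} (hk : k < nd.K) :
    f k = ∑ φ ∈ range nd.K, nd.co f φ * nd.X φ k := by
  let P : Matrix (Fin nd.K) (Fin nd.K) R := fun φ k => nd.X φ k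
  let Q : Matrix (Fin nd.K) (Fin nd.K) R := fun k φ => (nd.n k * nd.X φ k : ℤ) / nd.ν φ
  have h1 : P * Q = 1 := by
    ext φ' φ
    obtain ⟨h1, h2⟩ := G.orth φ.2
    have h3 : (nd.ν φ : R) ≠ 0 := Int.cast_ne_zero.2 h1.ne'
    have h5 := congrArg (Int.cast : ℤ → R) (h2 φ' φ'.2)
    rw [Matrix.mul_apply, Fin.sum_univ_eq_sum_range
      (fun k => (nd.X φ' k : R) * (((nd.n k * nd.X φ k : ℤ) : R) / nd.ν φ)), Matrix.one_apply]
    have h6 : ∑ k ∈ range nd.K, (nd.X φ' k : R) * (((nd.n k * nd.X φ k : ℤ) : R) / nd.ν φ) =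
        ((∑ k ∈ range nd.K, nd.n k * nd.X φ k * nd.X φ' k : ℤ) : R) / nd.ν φ := by
      push_cast; rw [sum_div]; exact sum_congr rfl fun k _ => by ring
    rw [h6, h5]
    by_cases h7 : φ' = φ
    · rw [if_pos h7, if_pos (congrArg Fin.val h7), div_self h3]
    · rw [if_neg h7, if_neg fun h8 => h7 (Fin.ext h8)]; simp
  have h2 := mul_eq_one_comm.1 h1
  have h3 : ∀ k' ∈ range nd.K, ∑ φ ∈ range nd.K, ((nd.n k' * nd.X φ k' : ℤ) : R) * f k' / nd.ν φ * nd.X φ k =
      if k' = k then f k else 0 := fun k' hk' => by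
    have h4 := congrFun (congrFun h2 ⟨k', mem_range.1 hk'⟩) ⟨k, hk⟩
    rw [Matrix.mul_apply, Fin.sum_univ_eq_sum_range
      (fun φ => ((nd.n k' * nd.X φ k' : ℤ) : R) / nd.ν φ * nd.X φ k), Matrix.one_apply] at h4
    have h5 : ∑ φ ∈ range nd.K, ((nd.n k' * nd.X φ k' : ℤ) : R) * f k' / nd.ν φ * nd.X φ k =
        f k' * ∑ φ ∈ range nd.K, ((nd.n k' * nd.X φ k' : ℤ) : R) / nd.ν φ * nd.X φ k := by
      rw [mul_sum]; exact sum_congr rfl fun φ _ => by ring
    rw [h5, h4]
    by_cases h7 : k' = k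
    · subst h7; simp
    · rw [if_neg h7, if_neg fun h8 => h7 (congrArg Fin.val h8), mul_zero]
  simp only [co, sum_div, sum_mul]
  rw [sum_comm, sum_congr rfl h3, sum_ite_eq', if_pos (mem_range.2 hk)]

theorem Good.quad (G : nd.Good) {R : Type} [Field R] [CharZero R] {f a : ℕ → R}
    (h : ∀ k < nd.K, f k = ∑ φ ∈ range nd.K, a φ * nd.X φ k) :
    ∑ k ∈ range nd.K, nd.n k * f k ^ 2 = ∑ φ ∈ range nd.K, nd.ν φ * a φ ^ 2 := by
  have h1 : ∀ φ ∈ range nd.K, (nd.ν φ : R) * a φ ^ 2 = ∑ k ∈ range nd.K, a φ * ((nd.n k * nd.X φ k : ℤ) * f k) := by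
    intro φ hφ
    have h2 := G.co_eq h (mem_range.1 hφ)
    have h3 : (nd.ν φ : R) ≠ 0 := Int.cast_ne_zero.2 (G.orth (mem_range.1 hφ)).1.ne'
    rw [co, div_eq_iff h3] at h2
    rw [← mul_sum, h2]; ring
  rw [sum_congr rfl h1, sum_comm]
  refine sum_congr rfl fun k hk => ?_
  conv_lhs => rw [sq]; arg 2; arg 1; rw [h k (mem_range.1 hk)]
  rw [sum_mul, mul_sum]
  exact sum_congr rfl fun φ _ => by push_cast; ring

end Nd

variable {I W : Type} [Fintype I] [DecidableEq I] [Group W] [Fintype W] {M : CoxeterMatrix I}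
  {cs : CoxeterSystem M W} {A : I → I → ℤ} {h : IsCartan M A} {ψ : MulAut W} {nd : Nd} {em : ℕ → I} {J : Set I} {w : W}

variable (cs nd em w) in
/-- the representative `e_k w` of the class `k` -/
def el (k : ℕ) : W := wd cs em nd.r (nd.e k) * w

variable (cs nd em w) in
/-- `a` is the coordinate vector of `y` -/
def Rp (y : W → ℂ) (a : ℕ → ℂ) : Prop := ∀ k < nd.K, y (el cs nd em w k) = ∑ φ ∈ range nd.K, a φ * nd.X φ k

theorem wd_one (r : ℕ) : wd cs em r 1 = 1 := rfl

theorem el_zero (G : nd.Good) : el cs nd em w 0 = w := by rw [el, G.spec.2.2.1, wd_one, one_mul]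

theorem exists_rp (G : nd.Good) (y : W → ℂ) : Rp cs nd em w y (nd.co fun k => y (el cs nd em w k)) :=
  fun _ hk => G.exp (fun k => y (el cs nd em w k)) hk

theorem Rp.congr {y : W → ℂ} {a a' : ℕ → ℂ} (H : Rp cs nd em w y a) (e : ∀ φ < nd.K, a φ = a' φ) :
    Rp cs nd em w y a' := fun k hk => (H k hk).trans (sum_congr rfl fun φ hφ => by rw [e φ (mem_range.1 hφ)])

theorem Fit.cj (F : Fit cs h ψ nd.toTy em J w) (G : nd.Good) {a : W} (ha : a ∈ WJ cs J) {fa : ℕ → ℕ}
    (hf : ∀ u ∈ WJ cs J, fa (cd cs h nd.toTy em u) = cd cs h nd.toTy em (a * u)) {c : ℕ} (hc : nd.cj fa c = true)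
    (hk : c % 256 < nd.K) :
    a * ws cs nd.toTy em (c >>> 8) = wd cs em nd.r (c >>> 8) * wd cs em nd.r (nd.e (c % 256)) := by
  have h1 : fa (run nd.tbs (c >>> 8) nd.n0) = run nd.tab (c >>> 8) (nth 0 nd.cod (c % 256)) := Nat.eq_of_beq_eq_true hc
  rw [(G.spec.2.2.2.1 _ hk).1, F.runs_one G.ok, F.run_one G.ok, hf _ (F.ws_mem G.ok _),
    F.run_cd G.ok _ (F.wd_mem _)] at h1
  exact F.cd_inj G.ok (mul_mem ha (F.ws_mem G.ok _)) (mul_mem (F.wd_mem _) (F.wd_mem _)) h1

theorem Fit.row (F : Fit cs h ψ nd.toTy em J w) (G : nd.Good) {c : Cs} (hc : c ∈ nd.cas) {k : ℕ} (hk : k < nd.K) :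
    ∃ row : List ℕ, (∀ x ∈ row, x % 256 < nd.K) ∧
      (∀ φ < nd.K, (row.map fun x => nd.X φ (x % 256)).sum = nth 0 c.lev φ * nd.X φ k) ∧
      List.Forall₂ (fun t x => wd cs em nd.r t * wd cs em nd.r (nd.e k) * ws cs nd.toTy em (x >>> 8) =
        wd cs em nd.r (x >>> 8) * wd cs em nd.r (nd.e (x % 256))) c.tl row := by
  obtain ⟨row, hr⟩ := G.row hc hk
  simp only [Nd.rowOK, Bool.and_eq_true, all2_iff, decide_eq_true_eq] at hr
  obtain ⟨⟨h1, h2⟩, h3⟩ := hr
  obtain ⟨h4, h5⟩ := G.lin h2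
  have h6 : ∀ x ∈ row, x % 256 < nd.K := fun x hx => h4 _ (List.mem_map_of_mem hx)
  refine ⟨row, h6, fun φ hφ => ?_, ?_⟩
  · have h7 := h5 φ hφ
    rw [List.map_map] at h7
    refine Eq.trans (congrArg List.sum (List.map_congr_left fun x _ => (one_mul _).symm)) (h7.trans ?_)
    rw [Nd.X, ga, nth_eq, nth_eq 0 c.lev, nth_eq 0 _ φ, List.getD_eq_getElem?_getD, List.getD_eq_getElem?_getD,
      List.getD_eq_getElem?_getD, List.getElem?_zipWith]
    cases c.lev[φ]? <;> cases (nth [] nd.XC k)[φ]? <;> simp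
  · have h8 : List.Forall₂ (fun (t : ℕ) x => nd.cj (fun N => run nd.tab t (run nd.tab (nd.e k) N)) x = true ∧
        x % 256 < nd.K) c.tl row := by
      rw [List.forall₂_iff_zip] at h1 ⊢
      exact ⟨h1.1, fun hab => ⟨h1.2 hab, h6 _ (List.of_mem_zip hab).2⟩⟩
    refine h8.imp fun t x hx => F.cj G (mul_mem (F.wd_mem _) (F.wd_mem _)) (fun u hu => ?_) hx.1 hx.2
    rw [F.run_cd G.ok _ hu, F.run_cd G.ok _ (mul_mem (F.wd_mem _) hu), mul_assoc]

theorem Fit.node (F : Fit cs h ψ nd.toTy em J w) (G : nd.Good) {c : Cs} (hc : c ∈ nd.cas) :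
    Node cs ψ J (c.set em) w := (F.cs_spec G.ok (G.spec.2.2.2.2.2.2.1 c hc).1).1

theorem Fit.card_rf (F : Fit cs h ψ nd.toTy em J w) (G : nd.Good) {c : Cs} (hc : c ∈ nd.cas) :
    (rf cs (c.set em)).card = c.tl.length := by
  have := (F.cs_spec G.ok (G.spec.2.2.2.2.2.2.1 c hc).1).2 (R := ℕ) fun _ => 1
  simpa using this

theorem map_eq_of_rel {α : Type} (f g : ℕ → α) {l l' : List ℕ} (e : List.Forall₂ (fun t x => f t = g x) l l') :
    l.map f = l'.map g := by
  induction e with
  | nil => rfl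
  | cons hab _ ih => rw [List.map_cons, List.map_cons, ih, hab]

theorem Rp.cas (F : Fit cs h ψ nd.toTy em J w) (G : nd.Good) {c : Cs} (hc : c ∈ nd.cas) {y : W → ℂ} {a : ℕ → ℂ}
    (hy : Inv cs ψ J y) (H : Rp cs nd em w y a) :
    Rp cs nd em w (cas cs (c.set em) y) fun φ => (nth 0 c.lev φ : ℤ) * a φ := by
  intro k hk
  obtain ⟨row, h1, h2, h3⟩ := F.row G hc hk
  rw [cas_apply, (F.cs_spec G.ok (G.spec.2.2.2.2.2.2.1 c hc).1).2]
  have h4 : (c.tl.map fun n => y (wd cs em nd.r n * el cs nd em w k)) =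
      row.map fun x => y (el cs nd em w (x % 256)) := by
    refine map_eq_of_rel _ _ (h3.imp fun t x hab => ?_)
    unfold el
    rw [← mul_assoc]
    exact F.conj hy hab
  have h5 : ∀ l : List ℕ, (∀ x ∈ l, x % 256 < nd.K) → (l.map fun x => y (el cs nd em w (x % 256))).sum =
      ∑ φ ∈ range nd.K, a φ * ((l.map fun x => nd.X φ (x % 256)).sum : ℤ) := by
    intro l hl
    induction l with
    | nil => simp
    | cons x l ih =>
      rw [List.map_cons, List.sum_cons, ih fun z hz => hl z (List.mem_cons_of_mem _ hz),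
        H _ (hl x List.mem_cons_self), ← sum_add_distrib]
      exact sum_congr rfl fun φ _ => by rw [List.map_cons, List.sum_cons]; push_cast; ring
  rw [h4, h5 row h1]
  exact sum_congr rfl fun φ hφ => by rw [h2 φ (mem_range.1 hφ)]; push_cast; ring

theorem Rp.aeval (F : Fit cs h ψ nd.toTy em J w) (G : nd.Good) {c : Cs} (hc : c ∈ nd.cas) {y : W → ℂ} {a : ℕ → ℂ}
    (hy : Inv cs ψ J y) (H : Rp cs nd em w y a) (P : Polynomial ℂ) :
    Rp cs nd em w (Polynomial.aeval (T.cas cs (c.set em)) P y) fun φ => P.eval ((nth 0 c.lev φ : ℤ) : ℂ) * a φ := by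
  induction P using Polynomial.induction_on with
  | C z =>
    intro k hk
    rw [Polynomial.aeval_C, Module.algebraMap_end_apply, Pi.smul_apply, smul_eq_mul, H k hk, mul_sum]
    exact sum_congr rfl fun φ _ => by simp only [Polynomial.eval_C]; ring
  | add p q hp hq =>
    intro k hk
    rw [map_add, LinearMap.add_apply, Pi.add_apply, hp k hk, hq k hk, ← sum_add_distrib]
    exact sum_congr rfl fun φ _ => by simp only [Polynomial.eval_add]; ring
  | monomial n z ih =>
    have h1 := ih.cas F G hc (hy.aeval (F.node G hc) _)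
    rw [pow_succ', mul_left_comm, map_mul, Polynomial.aeval_X, Module.End.mul_apply]
    exact h1.congr fun φ _ => by simp only [Polynomial.eval_mul, Polynomial.eval_X]; ring

theorem Rp.lev (F : Fit cs h ψ nd.toTy em J w) (G : nd.Good) {c : Cs} (hc : c ∈ nd.cas) {y : W → ℂ} {a : ℕ → ℂ}
    (hy : Inv cs ψ J y) (H : Rp cs nd em w y a) (c₀ : ℤ) :
    Rp cs nd em w (T.lev cs (c.set em) c₀ y) fun φ => if nth 0 c.lev φ = c₀ then a φ else 0 := by
  refine (H.aeval F G hc hy _).congr fun φ hφ => ?_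
  split_ifs with h1
  · rw [h1, lp_self, one_mul]
  · by_cases h2 : ((nth 0 c.lev φ : ℤ) : ℂ) ∈ spc cs (c.set em)
    · rw [lp_ne h2 fun h3 => h1 (Int.cast_injective h3), zero_mul]
    · have h3 := H.aeval F G hc hy (Lagrange.nodal (spc cs (c.set em)) id)
      rw [nodal_spc] at h3
      have h4 := G.co_eq (f := fun _ => (0 : ℂ)) h3 hφ
      have h5 := Lagrange.eval_nodal_not_at_node (s := spc cs (c.set em)) (v := id)
        (x := ((nth 0 c.lev φ : ℤ) : ℂ)) fun i hi e => h2 (e ▸ hi)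
      have h6 : a φ = 0 := (mul_eq_zero.1 (h4.symm.trans (by simp [Nd.co]))).resolve_left h5
      rw [h6, mul_zero]

theorem Fit.tw_mem (F : Fit cs h ψ nd.toTy em J w) (G : nd.Good) {g : W} (hg : g ∈ WJ cs J) :
    w * ψ g * w⁻¹ ∈ WJ cs J := by
  refine WJ_ind (P := fun g => w * ψ g * w⁻¹ ∈ WJ cs J) (by simp) (fun i hi u _ ih => ?_) hg
  obtain ⟨a, ha, rfl⟩ := (F.mem i).1 hi
  rw [map_mul, ← mul_assoc, F.tw a ha, mul_assoc, mul_assoc, ← mul_assoc w]
  exact mul_mem (simple_mem_WJ cs (F.em_mem (Ty.σ_lt G.ok ha))) ih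

/-- every element of the coset is conjugate to a representative -/
theorem Fit.cover' (F : Fit cs h ψ nd.toTy em J w) (G : nd.Good) {x : W} (hx : x ∈ WJ cs J) :
    ∃ k < nd.K, ∃ g ∈ WJ cs J, x * w * ψ g = g * el cs nd em w k := by
  refine WJ_ind (P := fun x => ∃ k < nd.K, ∃ g ∈ WJ cs J, x * w * ψ g = g * el cs nd em w k)
    ⟨0, G.spec.2.1, 1, one_mem _, by rw [el_zero G, map_one, mul_one]⟩ ?_ hx
  rintro i hi u - ⟨k, hk, g, hg, e⟩
  obtain ⟨a, ha, rfl⟩ := (F.mem i).1 hi
  obtain ⟨c, hc, hac⟩ := G.spec.2.2.2.2.2.2.2.1 a ha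
  have h1 : cs.simple (em a) ∈ rf cs (c.set em) :=
    mem_rf.2 ⟨cs.isReflection_simple _, simple_mem_WJ cs ⟨a, hac, rfl⟩⟩
  have h2 := (conj_mem_rf (node_conj (F.node G hc) (inv_mem hg)) _).1 h1
  rw [inv_inv] at h2
  obtain ⟨t, ht, e1⟩ : ∃ t ∈ c.tl, wd cs em nd.r t = g⁻¹ * cs.simple (em a) * g := by
    classical
    by_contra h3
    push Not at h3
    have h4 := (F.cs_spec G.ok (G.spec.2.2.2.2.2.2.1 c hc).1).2 (R := ℕ)
      fun z => if z = g⁻¹ * cs.simple (em a) * g then 1 else 0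
    rw [sum_ite_eq', if_pos h2, List.map_congr_left fun n hn => if_neg (h3 n hn)] at h4
    simp at h4
  obtain ⟨row, r1, -, r3⟩ := F.row G hc hk
  obtain ⟨j, hj, rfl⟩ := List.getElem_of_mem ht
  have r4 := List.forall₂_iff_get.1 r3
  have r5 := r4.2 j hj (r4.1 ▸ hj)
  simp only [List.get_eq_getElem] at r5
  refine ⟨_, r1 _ (List.getElem_mem (r4.1 ▸ hj)), g * wd cs em nd.r (row[j]'(r4.1 ▸ hj) >>> 8),
    mul_mem hg (F.wd_mem _), ?_⟩
  rw [map_mul, ← mul_assoc, mul_assoc _ u, mul_assoc _ (u * w), e, el, el, mul_assoc g (wd cs em nd.r (_ >>> 8)),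
    ← mul_assoc (wd cs em nd.r (_ >>> 8)), ← r5, e1, mul_assoc _ (ws cs nd.toTy em _), ← F.tw_wd]
  group

theorem Fit.cover (F : Fit cs h ψ nd.toTy em J w) (G : nd.Good) {x : W} (hx : x ∈ WJ cs J) :
    ∃ k < nd.K, ∀ y, Inv cs ψ J y → y (x * w) = y (el cs nd em w k) := by
  obtain ⟨k, hk, g, hg, e⟩ := F.cover' G hx
  refine ⟨k, hk, fun y hy => ?_⟩
  have h1 := hy g hg (g⁻¹ * (x * w))
  rw [mul_inv_cancel_left, mul_assoc, e, inv_mul_cancel_left] at h1
  exact h1

/-- the average over the coset is the coordinate `0` -/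
theorem Rp.mass (F : Fit cs h ψ nd.toTy em J w) (G : nd.Good) [Fintype (WJ cs J)] {y : W → ℂ} {a : ℕ → ℂ}
    (hy : Inv cs ψ J y) (H : Rp cs nd em w y a) : ∑ x : WJ cs J, y (x * w) = Nat.card (WJ cs J) * a 0 := by
  have key : ∀ m ≤ nd.K, ∃ (y' : W → ℂ) (a' : ℕ → ℂ) (D : ℂ), D ≠ 0 ∧ Inv cs ψ J y' ∧ Rp cs nd em w y' a' ∧
      (∀ φ < m, φ ≠ 0 → a' φ = 0) ∧ a' 0 = D * a 0 ∧ ∑ x : WJ cs J, y' (x * w) = D * ∑ x : WJ cs J, y (x * w) := by
    intro m hm
    induction m with
    | zero => exact ⟨y, a, 1, one_ne_zero, hy, H, fun φ hφ => absurd hφ (Nat.not_lt_zero φ), by simp, by simp⟩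
    | succ m ih =>
      obtain ⟨y', a', D, h1, h2, h3, h4, h5, h6⟩ := ih (Nat.le_of_succ_le hm)
      rcases G.spec.2.2.2.2.2.2.2.2.1 m hm with rfl | ⟨c, hc, h7⟩
      · exact ⟨y', a', D, h1, h2, h3, fun φ hφ h0 => absurd (by omega) h0, h5, h6⟩
      · refine ⟨_, _, ((c.tl.length : ℂ) - (nth 0 c.lev m : ℤ)) * D, mul_ne_zero (sub_ne_zero.2 ?_) h1,
          h2.aeval (F.node G hc) (Polynomial.X - Polynomial.C ((nth 0 c.lev m : ℤ) : ℂ)),
          h3.aeval F G hc h2 _, fun φ hφ h0 => ?_, ?_, ?_⟩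
        · exact fun e => h7 (by exact_mod_cast e.symm)
        · rcases Nat.lt_succ_iff_lt_or_eq.1 hφ with h8 | rfl
          · simp [h4 φ h8 h0]
          · simp
        · simp [h5, (G.spec.2.2.2.2.2.2.1 c hc).2, mul_assoc]
        · simp only [map_sub, Polynomial.aeval_X, Polynomial.aeval_C, LinearMap.sub_apply, Pi.sub_apply,
            Module.algebraMap_end_apply, Pi.smul_apply, smul_eq_mul, sum_sub_distrib, ← mul_sum]
          rw [sum_cas (F.node G hc).sub, F.card_rf G hc, h6]; ring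
  obtain ⟨y', a', D, h1, h2, h3, h4, h5, h6⟩ := key _ le_rfl
  refine mul_left_cancel₀ h1 ?_
  have h7 : ∀ x : WJ cs J, y' (x * w) = D * a 0 := fun x => by
    obtain ⟨k, hk, e⟩ := F.cover G x.2
    rw [e _ h2, h3 k hk, sum_eq_single 0, (G.spec.2.2.2.1 k hk).2, h5]
    · simp
    · exact fun φ hφ h0 => by rw [h4 φ (mem_range.1 hφ) h0, zero_mul]
    · exact fun h0 => absurd (mem_range.2 G.spec.2.1) h0
  rw [← h6, sum_congr rfl fun x _ => h7 x, sum_const, card_univ, Nat.card_eq_fintype_card, nsmul_eq_mul]; ring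

/-- the mass formula -/
theorem Fit.mass (F : Fit cs h ψ nd.toTy em J w) (G : nd.Good) [Fintype (WJ cs J)] {y : W → ℂ} (hy : Inv cs ψ J y) :
    ∑ x : WJ cs J, y (x * w) =
      Nat.card (WJ cs J) * ((∑ k ∈ range nd.K, nd.n k * y (el cs nd em w k)) / nd.ν 0) := by
  rw [(exists_rp G y).mass F G hy, Nd.co]
  exact congrArg (fun z => _ * (z / _)) (sum_congr rfl fun k hk => by
    rw [(G.spec.2.2.2.1 k (mem_range.1 hk)).2, mul_one])

/-- the norm -/
theorem Rp.norm (F : Fit cs h ψ nd.toTy em J w) (G : nd.Good) [Fintype (WJ cs J)] {y : W → ℂ} {a : ℕ → ℚ}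
    (hy : Inv cs ψ J y) (H : Rp cs nd em w y fun φ => a φ) : ∑ x : WJ cs J, ‖y (x * w)‖ ^ 2 =
      Nat.card (WJ cs J) * (((∑ φ ∈ range nd.K, nd.ν φ * a φ ^ 2) / nd.ν 0 : ℚ) : ℝ) := by
  have h1 := F.mass G (y := fun u => ((‖y u‖ ^ 2 : ℝ) : ℂ)) fun g hg u => by simp only [hy g hg u]
  have h2 : ∀ k ∈ range nd.K, (nd.n k : ℂ) * ((‖y (el cs nd em w k)‖ ^ 2 : ℝ) : ℂ) =
      ((nd.n k * (∑ φ ∈ range nd.K, a φ * nd.X φ k) ^ 2 : ℚ) : ℂ) := fun k hk => by
    have e : y (el cs nd em w k) = (((∑ φ ∈ range nd.K, a φ * nd.X φ k : ℚ) : ℝ) : ℂ) := by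
      rw [H k (mem_range.1 hk)]; push_cast; rfl
    rw [e, Complex.norm_real, Real.norm_eq_abs, sq_abs]
    push_cast; rfl
  rw [sum_congr rfl h2, ← Rat.cast_sum, G.quad (f := fun k => ∑ φ ∈ range nd.K, a φ * nd.X φ k) fun _ _ => rfl] at h1
  apply Complex.ofReal_injective
  rw [Complex.ofReal_sum, h1]
  push_cast; rfl

/-- rational coordinates -/
theorem Fit.exists_rat (F : Fit cs h ψ nd.toTy em J w) (G : nd.Good) {y : W → ℂ} (hy : Lv cs ψ J w y) :
    ∃ a : ℕ → ℚ, Rp cs nd em w y fun φ => a φ := by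
  choose f hf using fun k => hy.int (F.wd_mem (nd.e k))
  refine ⟨nd.co fun k => (f k : ℚ), (exists_rp G y).congr fun φ _ => ?_⟩
  simp only [Nd.co, el, hf]
  push_cast; rfl

end Cfsg.Agent.LV.W
end

private theorem dce_f8fb6c5cfe19 : _root_.True := by
  try have : _root_.True := by simp only [_root_.Cfsg.Agent.LV.W.pkz.eq_1]
  try have : _root_.True := by simp only [_root_.Cfsg.Agent.LV.W.pk.eq_1]
  try have : _root_.True := by simp only [_root_.Cfsg.Agent.LV.W.vv.congr_simp]
  try have : _root_.True := by simp only [_root_.Cfsg.Agent.LV.W.Nd.rowOK.eq_1]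
  try have : _root_.True := by simp only [_root_.Cfsg.Agent.LV.W.Nd.unit.eq_1]
  try have : _root_.True := by simp only [_root_.Cfsg.Agent.LV.W.el.eq_1]
  try have : _root_.True := by simp only [_root_.Cfsg.Agent.LV.W.rootOK.eq_1]
  try have : _root_.True := by simp only [_root_.Cfsg.Agent.LV.W.Nd.base.eq_1]
  try have : _root_.True := by simp only [_root_.Cfsg.Agent.LV.W.Nd.upOK.eq_1]
  try have : _root_.True := by simp only [_root_.Cfsg.Agent.LV.W.ga.eq_1]
  try have : _root_.True := by simp only [_root_.Cfsg.Agent.LV.W.vv.eq_1]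
  try have : _root_.True := by simp only [_root_.Cfsg.Agent.LV.W.sl.eq_1]
  try have : _root_.True := by simp only [_root_.Cfsg.Agent.LV.W.rfl'.eq_1]
  try have : _root_.True := by simp only [_root_.Cfsg.Agent.LV.W.Nd.co.eq_1]
  try have : _root_.True := by simp only [_root_.Cfsg.Agent.Tits.Roots.ht.eq_1]
  try have : _root_.True := by simp only [_root_.Cfsg.Agent.LV.W.all2.eq_1]
  try have : _root_.True := by simp only [_root_.Cfsg.Agent.LV.W.csOK.eq_1]
  try have : _root_.True := by simp only [_root_.Cfsg.Agent.LV.W.cd.congr_simp]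
  try have : _root_.True := by simp only [_root_.Cfsg.Agent.LV.W.Nd.full.eq_1]
  try have : _root_.True := by simp only [_root_.Cfsg.Agent.LV.W.cd.eq_1]
  try have : _root_.True := by simp only [_root_.Cfsg.Agent.LV.W.Nd.X.eq_1]
  try have : _root_.True := by simp only [_root_.Cfsg.Agent.LV.W.linP.eq_1]
  try have : _root_.True := by simp only [_root_.Cfsg.Agent.LV.W.Ty.ok.eq_1]
  try have : _root_.True := by simp only [_root_.Cfsg.Agent.LV.W.sumAbs.eq_1]
  exact _root_.True.intro
end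

-- part: LV/W/Disp
section
prune_inst 0x10205100450000000000000200203124600004b000288000a800034a0ac8ab008082890008801008002002811001000000000020000000000000000000010020880010000000000000001100300641000000000000000000000080000000000000c010000
set_option linter.all false
open scoped Cfsg.Agent.FastGrp

-- part: LV/W/Form
section
/-!
# LV/W: integral linear forms on the functions with `Lv` (helper25)

`FC nd L` : forms in the values at the representatives; `FX nd L` : forms in the coordinates.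
Rules: `FC.delta`, `FC.avg`, `FC.ind`, `FX.ofC`, `FC.ofX`, `FX.comb` (combinations and level projections).
Output: `FX.out`.
-/

set_option autoImplicit false
set_option linter.unusedSectionVars false

namespace Cfsg.Agent.LV.W

open CoxeterSystem Cfsg.Agent.Tits.Exchange Cfsg.Agent.Tits.Core Cfsg.Agent.Tits.Roots
  Cfsg.Agent.ChevalleyStructure.CoxeterGeom Cfsg.Agent.LV.T Finset

/-- forms in the values: `∑ c * y (e_k w) ∈ D ℤ` -/
def FC (nd : Nd) (L : List (List (ℤ × ℕ) × ℤ)) : Prop :=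
  ∀ {I W : Type} [Fintype I] [DecidableEq I] [Group W] [Fintype W] {M : CoxeterMatrix I} {cs : CoxeterSystem M W}
    {A : I → I → ℤ} {h : IsCartan M A} {ψ : MulAut W} {em : ℕ → I} {J : Set I} {w : W} {y : W → ℂ},
    Fit cs h ψ nd.toTy em J w → Lv cs ψ J w y → Inv cs ψ J y →
    ∀ q ∈ L, ∃ n : ℤ, (q.1.map fun p => (p.1 : ℂ) * y (el cs nd em w p.2)).sum = n * q.2

/-- forms in the coordinates: `∑ l φ * a φ ∈ D ℤ` -/
def FX (nd : Nd) (L : List (List ℤ × ℤ)) : Prop :=
  ∀ {I W : Type} [Fintype I] [DecidableEq I] [Group W] [Fintype W] {M : CoxeterMatrix I} {cs : CoxeterSystem M W}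
    {A : I → I → ℤ} {h : IsCartan M A} {ψ : MulAut W} {em : ℕ → I} {J : Set I} {w : W} {y : W → ℂ} {a : ℕ → ℂ},
    Fit cs h ψ nd.toTy em J w → Lv cs ψ J w y → Inv cs ψ J y → Rp cs nd em w y a →
    ∀ q ∈ L, ∃ n : ℤ, ∑ φ ∈ range nd.K, (nth 0 q.1 φ : ℤ) * a φ = n * q.2

variable {nd nd' : Nd}

theorem FC.append {L L' : List (List (ℤ × ℕ) × ℤ)} (h : FC nd L) (h' : FC nd L') : FC nd (L ++ L') :=
  fun F hl hy q hq => (List.mem_append.1 hq).elim (h F hl hy q) (h' F hl hy q)

theorem FC.nil : FC nd [] := fun _ _ _ _ hq => absurd hq List.not_mem_nil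

theorem FX.nil : FX nd [] := fun _ _ _ _ _ hq => absurd hq List.not_mem_nil

/-- the values are integers -/
theorem FC.delta (nd : Nd) (ks : List ℕ) : FC nd (ks.map fun k => ([(1, k)], 1)) := by
  intro I W _ _ _ _ M cs A h ψ em J w y F hl _ q hq
  obtain ⟨k, -, rfl⟩ := List.mem_map.1 hq
  obtain ⟨n, hn⟩ := hl.int (F.wd_mem (nd.e k))
  exact ⟨n, by simpa [el] using hn⟩

theorem sum_range_map (n : ℕ) (f : ℕ → ℂ) : ((List.range n).map f).sum = ∑ k ∈ range n, f k := rfl

/-- the average is an integer -/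
theorem FC.avg (G : nd.Good) : FC nd [((List.range nd.K).map fun k => (nd.n k, k), nd.ν 0)] := by
  classical
  intro I W _ _ _ _ M cs A h ψ em J w y F hl hy q hq
  rw [List.mem_singleton.1 hq]
  obtain ⟨n, hn⟩ := hl.avg F.aut fun i hi => F.tw_mem G (simple_mem_WJ cs hi)
  have h1 := F.mass G hy
  have h2 : (Nat.card (WJ cs J) : ℂ) ≠ 0 := Nat.cast_ne_zero.2 Nat.card_pos.ne'
  have h3 : (nd.ν 0 : ℂ) ≠ 0 := Int.cast_ne_zero.2 (G.orth G.spec.2.1).1.ne'
  have h4 : (n : ℂ) * Nat.card (WJ cs J) = _ := hn.symm.trans (by convert h1)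
  rw [mul_comm, mul_right_inj' h2, eq_div_iff h3] at h4
  exact ⟨n, by rw [List.map_map, sum_range_map]; exact h4.symm⟩

theorem lin_sum {I W : Type} [Fintype I] [DecidableEq I] [Group W] [Fintype W] {M : CoxeterMatrix I}
    {cs : CoxeterSystem M W} {em : ℕ → I} {w : W} {y : W → ℂ} {a : ℕ → ℂ} (G : nd.Good) (H : Rp cs nd em w y a)
    {ps : List (ℤ × ℕ)} {l : List ℤ} (hl : nd.lin nd.XP ps l = true) :
    (ps.map fun p => (p.1 : ℂ) * y (el cs nd em w p.2)).sum = ∑ φ ∈ range nd.K, (nth 0 l φ : ℤ) * a φ := by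
  obtain ⟨h1, h2⟩ := G.lin hl
  rw [sum_congr rfl fun φ hφ => by rw [← h2 φ (mem_range.1 hφ)]]
  clear h2 hl
  induction ps with
  | nil => simp
  | cons p ps ih =>
    rw [List.map_cons, List.sum_cons, ih fun z hz => h1 z (List.mem_cons_of_mem _ hz),
      H _ (h1 p List.mem_cons_self), mul_sum, ← sum_add_distrib]
    exact sum_congr rfl fun φ _ => by rw [List.map_cons, List.sum_cons]; push_cast; ring

theorem nth_map_mul (m : ℤ) (l : List ℤ) (i : ℕ) : nth 0 (l.map fun x => m * x) i = m * nth 0 l i := by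
  rw [nth_eq, nth_eq, List.getD_eq_getElem?_getD, List.getD_eq_getElem?_getD, List.getElem?_map]
  cases l[i]? <;> simp

/-- the form `p` in the values is the `p.2 / q.2`-fold of the form `q` in the coordinates -/
def cx (nd : Nd) (XP : List ℤ) (p : List (ℤ × ℕ) × ℤ) (q : List ℤ × ℤ) : Bool :=
  (fun m => decide (m ≠ 0) && decide (p.2 = m * q.2) && nd.lin XP p.1 (q.1.map fun x => m * x)) (p.2 / q.2)

theorem cx_spec {I W : Type} [Fintype I] [DecidableEq I] [Group W] [Fintype W] {M : CoxeterMatrix I}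
    {cs : CoxeterSystem M W} {em : ℕ → I} {w : W} {y : W → ℂ} {a : ℕ → ℂ} (G : nd.Good) (H : Rp cs nd em w y a)
    {p : List (ℤ × ℕ) × ℤ} {q : List ℤ × ℤ} (hc : cx nd nd.XP p q = true) :
    (∃ n : ℤ, (p.1.map fun p => (p.1 : ℂ) * y (el cs nd em w p.2)).sum = n * p.2) ↔
      ∃ n : ℤ, ∑ φ ∈ range nd.K, (nth 0 q.1 φ : ℤ) * a φ = n * q.2 := by
  simp only [cx, Bool.and_eq_true, decide_eq_true_eq] at hc
  obtain ⟨⟨h1, h2⟩, h3⟩ := hc
  generalize p.2 / q.2 = m at h1 h2 h3
  have h4 : (m : ℂ) ≠ 0 := Int.cast_ne_zero.2 h1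
  rw [lin_sum G H h3, h2]
  simp only [nth_map_mul, Int.cast_mul, mul_assoc, ← mul_sum, mul_left_comm _ (m : ℂ), mul_right_inj' h4]

theorem forall₂_mem_right {α β : Type} {R : α → β → Prop} {l : List α} {m : List β} (h : List.Forall₂ R l m) {b : β}
    (hb : b ∈ m) : ∃ a ∈ l, R a b := by
  induction h with
  | nil => exact absurd hb List.not_mem_nil
  | cons hab _ ih =>
    rcases List.mem_cons.1 hb with rfl | h1
    · exact ⟨_, List.mem_cons_self, hab⟩
    · obtain ⟨a, ha, h2⟩ := ih h1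
      exact ⟨a, List.mem_cons_of_mem _ ha, h2⟩

theorem FX.ofC (G : nd.Good) {L : List (List (ℤ × ℕ) × ℤ)} (hL : FC nd L) (L' : List (List ℤ × ℤ))
    (hc : all2 (cx nd nd.XP) L L' = true) : FX nd L' := by
  intro I W _ _ _ _ M cs A h ψ em J w y a F hl hy H q hq
  obtain ⟨p, hp, h1⟩ := forall₂_mem_right (all2_iff.1 hc) hq
  exact (cx_spec G H h1).1 (hL F hl hy p hp)

theorem FC.ofX (G : nd.Good) {L : List (List ℤ × ℤ)} (hL : FX nd L) (L' : List (List (ℤ × ℕ) × ℤ))
    (hc : all2 (fun q p => cx nd nd.XP p q) L L' = true) : FC nd L' := by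
  intro I W _ _ _ _ M cs A h ψ em J w y F hl hy p hp
  obtain ⟨q, hq, h1⟩ := forall₂_mem_right (all2_iff.1 hc) hp
  exact (cx_spec G (exists_rp G y) h1).2 (hL F hl hy (exists_rp G y) q hq)

/-! ### combinations and projections -/

/-- a derivation: levels `(o, c)`, coefficients `(c, j)`, multiplier -/
structure Der where
  msk : List (ℕ × ℤ)
  cf : List (ℤ × ℕ)
  m : ℤ

def Nd.lv (nd : Nd) (o φ : ℕ) : ℤ := nth 0 (nth ⟨[], [], [], []⟩ nd.cas o).lev φ

def Nd.inm (nd : Nd) (msk : List (ℕ × ℤ)) (φ : ℕ) : Bool := msk.all fun p => decide (nd.lv p.1 φ = p.2)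

def derOK (nd : Nd) (L : List (List ℤ × ℤ)) (d : Der) (q : List ℤ × ℤ) : Bool :=
  decide (d.m ≠ 0) && d.msk.all (fun p => Nat.blt p.1 nd.cas.length) &&
  d.cf.all (fun p => Nat.blt p.2 L.length && decide (p.1 * (nth ([], 0) L p.2).2 % (d.m * q.2) = 0)) &&
  (fun cf' : List (ℤ × List ℤ) => allLt nd.K fun φ => cond (nd.inm d.msk φ)
    (decide (d.m * nth 0 q.1 φ = List.rec 0 (fun p _ ih => p.1 * nth 0 p.2 φ + ih) cf')) (decide (nth 0 q.1 φ = 0)))
    (d.cf.map fun p => (p.1, (nth ([], 0) L p.2).1))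

theorem exists_msk {I W : Type} [Fintype I] [DecidableEq I] [Group W] [Fintype W] {M : CoxeterMatrix I}
    {cs : CoxeterSystem M W} {A : I → I → ℤ} {h : IsCartan M A} {ψ : MulAut W} {em : ℕ → I} {J : Set I} {w : W}
    {y : W → ℂ} {a : ℕ → ℂ} (G : nd.Good) (F : Fit cs h ψ nd.toTy em J w) (hl : Lv cs ψ J w y) (hy : Inv cs ψ J y)
    (H : Rp cs nd em w y a) {msk : List (ℕ × ℤ)} (hm : ∀ p ∈ msk, p.1 < nd.cas.length) :
    ∃ y', Lv cs ψ J w y' ∧ Inv cs ψ J y' ∧ Rp cs nd em w y' fun φ => if nd.inm msk φ = true then a φ else 0 := by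
  induction msk with
  | nil => exact ⟨y, hl, hy, H.congr fun φ _ => by simp [Nd.inm]⟩
  | cons p msk ih =>
    obtain ⟨y', h1, h2, h3⟩ := ih fun q hq => hm q (List.mem_cons_of_mem _ hq)
    have hc : nth ⟨[], [], [], []⟩ nd.cas p.1 ∈ nd.cas := by
      rw [nth_eq, List.getD_eq_getElem _ _ (hm p List.mem_cons_self)]; exact List.getElem_mem _
    refine ⟨_, h1.lev F.aut F.min (F.node G hc) p.2, h2.aeval (F.node G hc) _, (h3.lev F G hc h2 p.2).congr fun φ _ => ?_⟩
    have e : nd.inm (p :: msk) φ = (decide (nd.lv p.1 φ = p.2) && nd.inm msk φ) := rfl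
    rw [e]
    by_cases h4 : nd.lv p.1 φ = p.2
    · rw [if_pos (show nth 0 (nth ⟨[], [], [], []⟩ nd.cas p.1).lev φ = p.2 from h4), decide_eq_true h4, Bool.true_and]
    · rw [if_neg (show ¬ nth 0 (nth ⟨[], [], [], []⟩ nd.cas p.1).lev φ = p.2 from h4), decide_eq_false h4,
        Bool.false_and, if_neg Bool.false_ne_true]

theorem FX.comb (G : nd.Good) {L : List (List ℤ × ℤ)} (hL : FX nd L) (ds : List Der) (L' : List (List ℤ × ℤ))
    (hc : all2 (derOK nd L) ds L' = true) : FX nd L' := by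
  intro I W _ _ _ _ M cs A h ψ em J w y a F hl hy H q hq
  obtain ⟨d, -, h1⟩ := forall₂_mem_right (all2_iff.1 hc) hq
  simp only [derOK, Bool.and_eq_true, decide_eq_true_eq, List.all_eq_true, Nat.blt_eq, allLt_iff] at h1
  obtain ⟨⟨⟨h1, h2⟩, h3⟩, h4⟩ := h1
  obtain ⟨y', l1, l2, l3⟩ := exists_msk G F hl hy H h2
  have key : ∀ cf : List (ℤ × ℕ), (∀ p ∈ cf, p.2 < L.length ∧ p.1 * (nth ([], 0) L p.2).2 % (d.m * q.2) = 0) →
      ∃ n : ℤ, ∑ φ ∈ range nd.K, ((List.rec 0 (fun p _ ih => p.1 * nth 0 p.2 φ + ih)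
        (cf.map fun p => (p.1, (nth ([], 0) L p.2).1)) : ℤ) : ℂ) * (if nd.inm d.msk φ = true then a φ else 0) =
        n * (d.m * q.2) := by
    intro cf hcf
    induction cf with
    | nil => exact ⟨0, by simp⟩
    | cons p cf ih =>
      obtain ⟨n, hn⟩ := ih fun z hz => hcf z (List.mem_cons_of_mem _ hz)
      obtain ⟨p1, p2⟩ := hcf p List.mem_cons_self
      obtain ⟨n', hn'⟩ := hL F l1 l2 l3 (nth ([], 0) L p.2) (by
        rw [nth_eq, List.getD_eq_getElem _ _ p1]; exact List.getElem_mem _)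
      obtain ⟨c, hc⟩ := Int.dvd_of_emod_eq_zero p2
      have hc' := congrArg (Int.cast : ℤ → ℂ) hc
      refine ⟨n' * c + n, ?_⟩
      simp only [List.map_cons, Int.cast_add, Int.cast_mul, add_mul, sum_add_distrib, mul_assoc, ← mul_sum] at hc' ⊢
      rw [hn, hn', mul_left_comm, hc']; ring
  obtain ⟨n, hn⟩ := key d.cf h3
  refine ⟨n, mul_left_cancel₀ (Int.cast_ne_zero.2 h1 : (d.m : ℂ) ≠ 0) ?_⟩
  rw [mul_left_comm, ← hn, mul_sum]
  refine sum_congr rfl fun φ hφ => ?_
  have h5 := h4 φ (mem_range.1 hφ)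
  cases e : nd.inm d.msk φ
  · rw [e, cond_false, decide_eq_true_eq] at h5
    simp [h5]
  · rw [e, cond_true, decide_eq_true_eq] at h5
    rw [← h5, if_pos rfl]; push_cast; ring

/-! ### induction from a smaller coset -/

/-- an embedding: letters, table of the letters, coset representative, fusion -/
structure Emb where
  io : List ℕ
  tbi : ℕ
  x : ℕ
  fus : List ℕ

def Emb.ι (E : Emb) (i : ℕ) : ℕ := nth 0 E.io i

/-- the smaller coset fits -/
def fitOK (t t' : Ty) (E : Emb) : Bool :=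
  tabOK t'.r t.r t.AL E.ι E.tbi &&
  allLt t'.r fun i => allLt t'.r (fun j => decide (ga t.AL (E.ι i) (E.ι j) = ga t'.AL i j)) &&
    Nat.blt 64 (dg (run t.tab E.x t.n0) (E.ι i)) &&
    Nat.beq (run t.tab E.x (step t.tab (t.σ (E.ι i)) t.n0)) (step t.tab (E.ι (t'.σ i)) (run t.tab E.x t.n0))

def embOK (nd nd' : Nd) (E : Emb) : Bool :=
  fitOK nd.toTy nd'.toTy E && allLt nd'.K fun k => Nat.blt (Nat.mod (nth 0 E.fus k) 256) nd.K &&
    nd.cj (fun N => run E.tbi (nd'.e k) (run nd.tab E.x N)) (nth 0 E.fus k)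

section
variable {I W : Type} [Fintype I] [DecidableEq I] [Group W] [Fintype W] {M : CoxeterMatrix I}
  {cs : CoxeterSystem M W} {A : I → I → ℤ} {h : IsCartan M A} {ψ : MulAut W} {em : ℕ → I} {J : Set I} {w : W}

theorem Fit.sub {t t' : Ty} (F : Fit cs h ψ t em J w) (ht : t.ok = true) (ht' : t'.ok = true) {E : Emb}
    (hE : fitOK t t' E = true) : {i | ∃ a < t'.r, em (E.ι a) = i} ⊆ J ∧
    Fit cs h ψ t' (fun i => em (E.ι i)) {i | ∃ a < t'.r, em (E.ι a) = i} (wd cs em t.r E.x * w) := by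
  simp only [fitOK, Bool.and_eq_true, allLt_iff, decide_eq_true_eq, Nat.blt_eq, Nat.beq_eq] at hE
  obtain ⟨h1, h2⟩ := hE
  have hι : ∀ i < t'.r, E.ι i < t.r := fun i hi => tabOK_lt (Ty.ok_iff ht').1 h1 hi
  have hx := F.wd_mem E.x
  refine ⟨?_, fun i hi j hj => ?_, fun i => Iff.rfl, F.aut, min_iff.2 ?_, fun i hi => ?_⟩
  · rintro _ ⟨a, ha, rfl⟩
    exact F.em_mem (hι a ha)
  · rw [F.car _ (hι i hi) _ (hι j hj), (h2 i hi).1.1 j hj]
  · rintro _ ⟨a, ha, rfl⟩
    have h3 := (h2 a ha).1.2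
    rw [F.run_one ht, F.up ht hx (hι a ha)] at h3
    rw [← mul_assoc, F.min _ hx, F.min _ (mul_mem (simple_mem_WJ cs (F.em_mem (hι a ha))) hx)]
    omega
  · have h3 := (h2 i hi).2
    have s1 := Ty.σ_lt ht (hι i hi)
    have s2 := hι _ (Ty.σ_lt ht' hi)
    rw [F.run_one ht, F.step_simple ht s2 hx, ← cd_one (cs := cs) (h := h) (em := em) ht,
      F.step_simple ht s1 (one_mem _), mul_one, F.run_cd ht _ (simple_mem_WJ cs (F.em_mem s1))] at h3
    have h4 := F.cd_inj ht (mul_mem hx (simple_mem_WJ cs (F.em_mem s1)))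
      (mul_mem (simple_mem_WJ cs (F.em_mem s2)) hx) h3
    rw [mul_assoc, F.tw _ (hι i hi), ← mul_assoc, h4, mul_assoc]

theorem Inv.mono {J' : Set I} {y : W → ℂ} (hy : Inv cs ψ J y) (hJ : J' ⊆ J) : Inv cs ψ J' y :=
  fun g hg => hy g (WJ_mono cs hJ hg)

/-- fusion -/
theorem Fit.fus (F : Fit cs h ψ nd.toTy em J w) (G : nd.Good) (G' : nd'.Good) {E : Emb} (hE : embOK nd nd' E = true)
    {y : W → ℂ} (hy : Inv cs ψ J y) {k : ℕ} (hk : k < nd'.K) : nth 0 E.fus k % 256 < nd.K ∧
    y (el cs nd' (fun i => em (E.ι i)) (wd cs em nd.r E.x * w) k) = y (el cs nd em w (nth 0 E.fus k % 256)) := by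
  simp only [embOK, Bool.and_eq_true, allLt_iff, Nat.blt_eq] at hE
  obtain ⟨h1, h2⟩ := hE
  have h3 : tabOK nd'.r nd.r nd.AL E.ι E.tbi = true := by
    rw [fitOK, Bool.and_eq_true] at h1; exact h1.1
  have hr := (Ty.ok_iff G'.ok).1
  have hx := F.wd_mem E.x
  have h4 := F.cj G (a := wdF cs em nd'.r E.ι 256 (nd'.e k) * wd cs em nd.r E.x)
    (mul_mem (F.wdF_mem (fun i hi => tabOK_lt hr h3 hi) _ _) hx) (fun u hu => by
      rw [F.run_cd G.ok _ hu, run, F.runF_cd G.ok hr h3 _ _ (mul_mem hx hu), mul_assoc]) (h2 k hk).2 (h2 k hk).1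
  refine ⟨(h2 k hk).1, ?_⟩
  have h5 : ∀ f n, wdF cs (fun i => em (E.ι i)) nd'.r id f n = wdF cs em nd'.r E.ι f n := fun _ _ => rfl
  rw [el, el, ← F.conj hy h4, mul_assoc, wd, h5]

end

/-- the image of the forms -/
def push (E : Emb) (L : List (List (ℤ × ℕ) × ℤ)) : List (List (ℤ × ℕ) × ℤ) :=
  L.map fun q => (q.1.map fun p => (p.1, Nat.mod (nth 0 E.fus p.2) 256), q.2)

theorem FC.ind (G : nd.Good) (G' : nd'.Good) {L : List (List (ℤ × ℕ) × ℤ)} (hL : FC nd' L) (E : Emb)
    (hE : (embOK nd nd' E && L.all fun q => q.1.all fun p => Nat.blt p.2 nd'.K) = true) : FC nd (push E L) := by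
  intro I W _ _ _ _ M cs A h ψ em J w y F hl hy q hq
  obtain ⟨q', hq', rfl⟩ := List.mem_map.1 hq
  simp only [Bool.and_eq_true, List.all_eq_true, Nat.blt_eq] at hE
  have h1 : fitOK nd.toTy nd'.toTy E = true := by
    have := hE.1
    rw [embOK, Bool.and_eq_true] at this; exact this.1
  obtain ⟨h2, F'⟩ := F.sub G.ok G'.ok h1
  obtain ⟨n, hn⟩ := hL F' (hl.mono h2 (F.wd_mem E.x)) (hy.mono h2) q' hq'
  refine ⟨n, Eq.trans ?_ hn⟩
  rw [List.map_map]
  exact congrArg List.sum (List.map_congr_left fun p hp =>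
    congrArg _ (F.fus G G' hE.1 hy (hE.2 q' hq' p hp)).2.symm)

/-- several embeddings of the same node -/
theorem FC.inds (G : nd.Good) (G' : nd'.Good) {L : List (List (ℤ × ℕ) × ℤ)} (hL : FC nd' L) (Es : List Emb)
    (hE : ((Es.all fun E => embOK nd nd' E) && L.all fun q => q.1.all fun p => Nat.blt p.2 nd'.K) = true) :
    FC nd (Es.flatMap fun E => push E L) := by
  intro I W _ _ _ _ M cs A h ψ em J w y F hl hy q hq
  obtain ⟨E, h1, h2⟩ := List.mem_flatMap.1 hq
  rw [Bool.and_eq_true, List.all_eq_true] at hE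
  exact FC.ind G G' hL E (by rw [hE.1 E h1, hE.2]; rfl) F hl hy q h2

/-! ### selection, values at words, decoding -/

theorem FC.pick {L : List (List (ℤ × ℕ) × ℤ)} (hL : FC nd L) (ix : List ℕ)
    (hc : (ix.all fun j => Nat.blt j L.length) = true) : FC nd (ix.map (nth ([], 0) L)) := by
  intro I W _ _ _ _ M cs A h ψ em J w y F hl hy q hq
  obtain ⟨j, hj, rfl⟩ := List.mem_map.1 hq
  have h1 : j < L.length := by simpa only [Nat.blt_eq] using List.all_eq_true.1 hc j hj
  exact hL F hl hy _ (by rw [nth_eq, List.getD_eq_getElem _ _ h1]; exact List.getElem_mem _)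

theorem FX.pick {L : List (List ℤ × ℤ)} (hL : FX nd L) (ix : List ℕ)
    (hc : (ix.all fun j => Nat.blt j L.length) = true) : FX nd (ix.map (nth ([], 0) L)) := by
  intro I W _ _ _ _ M cs A h ψ em J w y a F hl hy H q hq
  obtain ⟨j, hj, rfl⟩ := List.mem_map.1 hq
  have h1 : j < L.length := by simpa only [Nat.blt_eq] using List.all_eq_true.1 hc j hj
  exact hL F hl hy H _ (by rw [nth_eq, List.getD_eq_getElem _ _ h1]; exact List.getElem_mem _)

/-- the word `l` (list of letters) belongs to the class `c % 256`, the conjugating word is `c / 256` -/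
def clsOK (nd : Nd) (l : List ℕ) (c : ℕ) : Bool := (l.all fun a => Nat.blt a nd.r) && nd.cj (runL nd.tab l) c &&
  Nat.blt (Nat.mod c 256) nd.K

theorem Fit.cls {I W : Type} [Fintype I] [DecidableEq I] [Group W] [Fintype W] {M : CoxeterMatrix I}
    {cs : CoxeterSystem M W} {A : I → I → ℤ} {h : IsCartan M A} {ψ : MulAut W} {em : ℕ → I} {J : Set I} {w : W}
    (F : Fit cs h ψ nd.toTy em J w) (G : nd.Good) {l : List ℕ} {c : ℕ} (hc : clsOK nd l c = true) :
    c % 256 < nd.K ∧ (∃ g ∈ WJ cs J, cs.wordProd (l.map em) * w * ψ g = g * el cs nd em w (c % 256)) ∧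
      ∀ y, Inv cs ψ J y → y (cs.wordProd (l.map em) * w) = y (el cs nd em w (c % 256)) := by
  simp only [clsOK, Bool.and_eq_true, List.all_eq_true, Nat.blt_eq] at hc
  have h1 := F.cj G (F.prod_mem hc.1.1) (fun u hu => F.runL_cd G.ok hc.1.1 hu) hc.1.2 hc.2
  refine ⟨hc.2, ⟨_, F.wd_mem (c >>> 8), ?_⟩, fun y hy => F.conj hy h1⟩
  rw [mul_assoc, F.tw_wd, ← mul_assoc, h1, el, mul_assoc]

/-- a list of numbers packed into one number -/
def unp (s n : ℕ) : List ℕ :=
  Nat.rec (motive := fun _ => ℕ → List ℕ) (fun _ => []) (fun _ ih n => cond (Nat.beq n 0) []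
    ((fun l => Nat.mod (Nat.shiftRight n s) (Nat.shiftLeft 1 l) :: ih (Nat.shiftRight n (Nat.add s l)))
      (Nat.mod n (Nat.shiftLeft 1 s)))) 100000 n

def dz (x : ℕ) : ℤ := cond (Nat.beq (Nat.mod x 2) 0) (Int.ofNat (Nat.shiftRight x 1)) (Int.negSucc (Nat.shiftRight x 1))

/-- a list of integers packed into one number -/
def unz (s n : ℕ) : List ℤ := (unp s n).map dz

/-- pairs -/
def prs {α β : Type} (f : ℕ → α) (g : ℕ → β) (l : List ℕ) : List (α × β) :=
  List.rec (motive := fun _ => Option ℕ → List (α × β)) (fun _ => [])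
    (fun a _ ih o => Option.casesOn o (ih (some a)) fun b => (f b, g a) :: ih none) l none

/-- sparse vector -/
def unv (s n : ℕ) : List (ℤ × ℕ) := prs dz id (unp s n)

namespace Fast

/-- unpacking by offsets -/
noncomputable def upk {α : Type} (f : ℕ → α) (s T k : ℕ) : ℕ → List α :=
  Nat.rec (motive := fun _ => ℕ → List α) (fun _ => []) (fun _ ih o => Nat.rec (motive := fun _ => List α) []
    (fun m _ => Bool.rec (motive := fun _ => List α)
      (f (Nat.mod (Nat.shiftRight T (Nat.add (Nat.succ m) s))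
          (Nat.shiftLeft 1 (Nat.mod (Nat.shiftRight T (Nat.succ m)) (Nat.shiftLeft 1 s)))) ::
        ih (Nat.add (Nat.add (Nat.succ m) s) (Nat.mod (Nat.shiftRight T (Nat.succ m)) (Nat.shiftLeft 1 s))))
      [] (Nat.beq (Nat.shiftRight T (Nat.succ m)) 0)) o) k

/-- a number with check digits -/
noncomputable def salt (n : ℕ) : ℕ := Nat.add (Nat.mul n 4294967296) (Nat.mod n 4294967291)

/-- unpacking above the check digits -/
noncomputable def upS {α : Type} (f : ℕ → α) (s k T : ℕ) : List α :=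
  Nat.rec (motive := fun _ => List α) [] (fun m _ => upk f s (Nat.succ m) k 32) T

/-- unpacking of a number with check digits -/
noncomputable def upF {α : Type} (f : ℕ → α) (s n : ℕ) : List α := upS f s 100000 (salt n)

theorem salt_eq (n : ℕ) : salt n >>> 32 = n := by
  have e : ∀ a b : ℕ, Nat.add (Nat.mul n a) (Nat.mod n b) = n * a + n % b := fun _ _ => rfl
  rw [salt, e, Nat.shiftRight_eq_div_pow, (by norm_num : 2 ^ 32 = 4294967296)]
  omega

theorem upk_eq {α : Type} (f : ℕ → α) (s T k : ℕ) : ∀ o, upk f s T k (o + 1) =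
    (Nat.rec (motive := fun _ => ℕ → List ℕ) (fun _ => []) (fun _ ih n => cond (Nat.beq n 0) []
    ((fun l => Nat.mod (Nat.shiftRight n s) (Nat.shiftLeft 1 l) :: ih (Nat.shiftRight n (Nat.add s l)))
      (Nat.mod n (Nat.shiftLeft 1 s)))) k (T >>> (o + 1))).map f := by
  induction k with
  | zero => intro o; rfl
  | succ k ih =>
    intro o
    show Bool.rec (motive := fun _ => List α) (f (T >>> (o + 1 + s) % _) ::
      upk f s T k (o + 1 + s + T >>> (o + 1) % (1 <<< s))) [] (Nat.beq (T >>> (o + 1)) 0) =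
      List.map f (cond (Nat.beq (T >>> (o + 1)) 0) [] (T >>> (o + 1) >>> s % _ ::
        Nat.rec (motive := fun _ => ℕ → List ℕ) _ _ k (T >>> (o + 1) >>> (s + T >>> (o + 1) % (1 <<< s)))))
    cases Nat.beq (T >>> (o + 1)) 0
    · have e : o + 1 + s + T >>> (o + 1) % (1 <<< s) = o + s + T >>> (o + 1) % (1 <<< s) + 1 := by omega
      rw [cond_false, List.map_cons, ← Nat.shiftRight_add, ← Nat.shiftRight_add, ← Nat.add_assoc, e, ih]
      rfl
    · rfl

theorem upS_eq {α : Type} (f : ℕ → α) (s k T : ℕ) : upS f s (k + 1) T =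
    (Nat.rec (motive := fun _ => ℕ → List ℕ) (fun _ => []) (fun _ ih n => cond (Nat.beq n 0) []
    ((fun l => Nat.mod (Nat.shiftRight n s) (Nat.shiftLeft 1 l) :: ih (Nat.shiftRight n (Nat.add s l)))
      (Nat.mod n (Nat.shiftLeft 1 s)))) (k + 1) (T >>> 32)).map f := by
  cases T with
  | zero => rw [Nat.zero_shiftRight]; rfl
  | succ m => exact upk_eq f s (m + 1) (k + 1) 31

theorem upF_eq {α : Type} (f : ℕ → α) (s n : ℕ) : upF f s n = (unp s n).map f := by
  have h := upS_eq f s 99999 (salt n)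
  rw [salt_eq, (by norm_num : 99999 + 1 = 100000)] at h
  delta upF unp
  exact h

theorem unp_eq : unp = upF fun x => x := funext fun s => funext fun n => ((upF_eq _ s n).trans (List.map_id' _)).symm

theorem unz_eq : unz = upF dz := funext fun s => funext fun n => (upF_eq _ s n).symm

theorem unv_eq : unv = fun s n => prs dz id (upF (fun x => x) s n) :=
  congrArg (fun (u : ℕ → ℕ → List ℕ) s n => prs dz id (u s n)) unp_eq

end Fast

/-! ### output -/

/-- the rows `(m, cf)` invert the basis `L`: `m e_φ = ∑ c L_j` -/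
def invOK (nd : Nd) (L : List (List ℤ × ℤ)) (R : List (ℤ × List (ℤ × ℕ))) : Bool :=
  allLt nd.K fun φ => (fun q : ℤ × List (ℤ × ℕ) => decide (q.1 ≠ 0) && q.2.all (fun p => Nat.blt p.2 L.length) &&
    (fun cf' : List (ℤ × List ℤ) => allLt nd.K fun φ' =>
      decide (List.rec 0 (fun p _ ih => p.1 * nth 0 p.2 φ' + ih) cf' = if φ' = φ then q.1 else 0))
    (q.2.map fun p => (p.1, (nth ([], 0) L p.2).1))) (nth (0, []) R φ)

/-- the coordinate `φ` as a function of the lattice coordinates -/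
def coz (L : List (List ℤ × ℤ)) (R : List (ℤ × List (ℤ × ℕ))) (z : ℕ → ℤ) (φ : ℕ) : ℚ :=
  (((nth (0, []) R φ).2.map fun p => p.1 * (nth ([], 0) L p.2).2 * z p.2).sum : ℤ) / ((nth (0, []) R φ).1 : ℤ)

theorem FX.out (G : nd.Good) {L : List (List ℤ × ℤ)} (hL : FX nd L) {R : List (ℤ × List (ℤ × ℕ))}
    (hR : invOK nd L R = true) {I W : Type} [Fintype I] [DecidableEq I] [Group W] [Fintype W] {M : CoxeterMatrix I}
    {cs : CoxeterSystem M W} {A : I → I → ℤ} {h : IsCartan M A} {ψ : MulAut W} {em : ℕ → I} {J : Set I} {w : W}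
    {y : W → ℂ} (F : Fit cs h ψ nd.toTy em J w) (hl : Lv cs ψ J w y) (hy : Inv cs ψ J y) :
    ∃ z : ℕ → ℤ, Rp cs nd em w y fun φ => (coz L R z φ : ℚ) := by
  have H := exists_rp (cs := cs) (em := em) (w := w) G y
  generalize (nd.co fun k => y (el cs nd em w k)) = a at H
  have h1 : ∀ j, ∃ n : ℤ, j < L.length →
      ∑ φ ∈ range nd.K, (nth 0 (nth ([], 0) L j).1 φ : ℤ) * a φ = n * (nth ([], 0) L j).2 := fun j => by
    by_cases hj : j < L.length
    · exact (hL F hl hy H _ (by rw [nth_eq, List.getD_eq_getElem _ _ hj]; exact List.getElem_mem _)).imp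
        fun n hn _ => hn
    · exact ⟨0, fun h => absurd h hj⟩
  choose z hz using h1
  refine ⟨z, H.congr fun φ hφ => ?_⟩
  have h2 := allLt_iff.1 hR φ hφ
  simp only [Bool.and_eq_true, decide_eq_true_eq, List.all_eq_true, Nat.blt_eq, allLt_iff] at h2
  obtain ⟨⟨h2, h3⟩, h4⟩ := h2
  have key : ∀ cf : List (ℤ × ℕ), (∀ p ∈ cf, p.2 < L.length) →
      ∑ φ' ∈ range nd.K, ((List.rec 0 (fun p _ ih => p.1 * nth 0 p.2 φ' + ih)
        (cf.map fun p => (p.1, (nth ([], 0) L p.2).1)) : ℤ) : ℂ) * a φ' =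
        ((cf.map fun p => p.1 * (nth ([], 0) L p.2).2 * z p.2).sum : ℤ) := by
    intro cf hcf
    induction cf with
    | nil => simp
    | cons p cf ih =>
      have i1 := ih fun z hz => hcf z (List.mem_cons_of_mem _ hz)
      have i2 := hz p.2 (hcf p List.mem_cons_self)
      simp only [List.map_cons, List.sum_cons, Int.cast_add, Int.cast_mul, add_mul, sum_add_distrib, mul_assoc,
        ← mul_sum] at i1 ⊢
      rw [i1, i2]; ring
  have h5 := key _ h3
  rw [sum_congr rfl fun φ' hφ' => by rw [h4 φ' (mem_range.1 hφ')]] at h5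
  simp only [Int.cast_ite, Int.cast_zero, ite_mul, zero_mul, sum_ite_eq', if_pos (mem_range.2 hφ)] at h5
  have h6 : (((nth (0, []) R φ).1 : ℤ) : ℂ) ≠ 0 := Int.cast_ne_zero.2 h2
  rw [coz, Rat.cast_div, Rat.cast_intCast, Rat.cast_intCast, eq_div_iff h6, ← h5, mul_comm]

end Cfsg.Agent.LV.W
end

-- part: LV/W/Disp
section
/-!
# LV/W: nodes with lattices; every proper coset `W_K w` fits a node of a list (helper25)
-/

set_option autoImplicit false
set_option linter.unusedSectionVars false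

namespace Cfsg.Agent.LV.W

open CoxeterSystem Cfsg.Agent.Tits.Exchange Cfsg.Agent.Tits.Core Cfsg.Agent.Tits.Roots
  Cfsg.Agent.ChevalleyStructure.CoxeterGeom Cfsg.Agent.LV.T Finset

/-- a node with a basis of its level lattice and the inverse of the basis -/
structure Lat where
  nd : Nd
  bas : List (List ℤ × ℤ)
  inv : List (ℤ × List (ℤ × ℕ))

structure Lat.Ok (L : Lat) : Prop where
  good : L.nd.Good
  fx : FX L.nd L.bas
  io : invOK L.nd L.bas L.inv = true

/-- the coordinate `φ` of the dual vector with the lattice coordinates `z` -/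
def Lat.a (L : Lat) (z : ℕ → ℤ) (φ : ℕ) : ℚ := coz L.bas L.inv z φ

/-- the value at the class `k` -/
def Lat.val (L : Lat) (z : ℕ → ℤ) (k : ℕ) : ℚ := ∑ φ ∈ range L.nd.K, L.a z φ * L.nd.X φ k

/-- the norm -/
def Lat.nrm (L : Lat) (z : ℕ → ℤ) : ℚ := (∑ φ ∈ range L.nd.K, L.nd.ν φ * L.a z φ ^ 2) / L.nd.ν 0

variable {I W : Type} [Fintype I] [DecidableEq I] [Group W] [Fintype W] {M : CoxeterMatrix I}
  {cs : CoxeterSystem M W} {A : I → I → ℤ} {h : IsCartan M A} {ψ : MulAut W} {em : ℕ → I} {J : Set I} {w : W}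

/-- **the output** -/
theorem Lat.Ok.out {L : Lat} (H : L.Ok) (F : Fit cs h ψ L.nd.toTy em J w) [Fintype (WJ cs J)] {y : W → ℂ}
    (hl : Lv cs ψ J w y) (hy : Inv cs ψ J y) : ∃ z : ℕ → ℤ, (∀ k < L.nd.K, y (el cs L.nd em w k) = (L.val z k : ℚ)) ∧
      ∑ x : WJ cs J, ‖y (x * w)‖ ^ 2 = Nat.card (WJ cs J) * ((L.nrm z : ℚ) : ℝ) := by
  obtain ⟨z, hz⟩ := FX.out H.good H.fx H.io F hl hy
  refine ⟨z, fun k hk => ?_, Rp.norm F H.good hy hz⟩
  rw [hz k hk, Lat.val]
  push_cast; rfl

theorem all_ok_nil : ∀ L ∈ ([] : List Lat), L.Ok := fun _ h => absurd h List.not_mem_nil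

theorem all_ok_cons {L : Lat} {Ls : List Lat} (h : L.Ok) (h' : ∀ L ∈ Ls, L.Ok) : ∀ L' ∈ L :: Ls, L'.Ok :=
  List.forall_mem_cons.2 ⟨h, h'⟩

/-- the whole group -/
theorem Fit.top {t : Ty} (car : ∀ i < t.r, ∀ j < t.r, A (em i) (em j) = ga t.AL i j) (sur : ∀ i, ∃ a < t.r, em a = i)
    (hψ : ∀ a < t.r, ψ (cs.simple (em a)) = cs.simple (em (t.σ a))) : Fit cs h ψ t em Set.univ 1 where
  car := car
  mem i := ⟨fun _ => sur i, fun _ => trivial⟩
  aut i := by
    obtain ⟨a, ha, rfl⟩ := sur i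
    exact ⟨_, hψ a ha⟩
  min := min_one
  tw a ha := by rw [hψ a ha, one_mul, mul_one]

def entOK (AL : List (List ℤ)) (t' : Ty) (Kl : List ℕ) (acc : List (ℕ × ℕ)) (io : List ℕ) : Bool :=
  decide (io.length = t'.r) && (Kl.all fun a => decide (a ∈ io)) &&
  allLt t'.r fun i => decide (nth 0 io i ∈ Kl) && decide ((nth 0 io i, nth 0 io (t'.σ i)) ∈ acc) &&
    allLt t'.r fun j => decide (ga AL (nth 0 io i) (nth 0 io j) = ga t'.AL i j)

def goD (AL : List (List ℤ)) (Ls : List Lat) (Kl : List ℕ) (ents : List (ℕ × List ℕ)) (todo : List ℕ) :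
    List (ℕ × ℕ) → Bool :=
  List.rec (fun acc => ents.any fun e => List.casesOn (Ls.drop e.1) false fun L _ => entOK AL L.nd.toTy Kl acc e.2)
    (fun i _ ih acc => Kl.all fun j =>
      !(acc.all fun p => decide (ga AL j p.2 = ga AL i p.1) && decide (ga AL p.2 j = ga AL p.1 i)) ||
        ih ((i, j) :: acc)) todo

def allSub (l : List ℕ) : (List ℕ → Bool) → Bool :=
  List.rec (fun f => f []) (fun a _ ih f => ih f && ih fun s => f (a :: s)) l

theorem allSub_spec {l : List ℕ} {f : List ℕ → Bool} (h : allSub l f = true) (p : ℕ → Bool) : f (l.filter p) = true := by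
  induction l generalizing f with
  | nil => exact h
  | cons a l ih =>
    have h1 : (allSub l f && allSub l fun s => f (a :: s)) = true := h
    rw [Bool.and_eq_true] at h1
    rw [List.filter_cons]
    split_ifs
    exacts [ih h1.2, ih h1.1]

def keyL (l : List ℕ) : ℕ := List.rec 0 (fun a _ ih => Nat.add (Nat.shiftLeft 1 a) ih) l

def dispOK (r : ℕ) (AL : List (List ℤ)) (Ls : List Lat) (tbl : List (List (ℕ × List ℕ))) : Bool :=
  allSub (List.range r) fun Kl => Nat.beq Kl.length r || goD AL Ls Kl (nth [] tbl (keyL Kl)) Kl []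

theorem goD_spec {AL : List (List ℤ)} {Ls : List Lat} {Kl : List ℕ} {ents : List (ℕ × List ℕ)} (τ : ℕ → ℕ)
    (h1 : ∀ a ∈ Kl, τ a ∈ Kl) (h2 : ∀ a ∈ Kl, ∀ b ∈ Kl, ga AL (τ a) (τ b) = ga AL a b) {todo : List ℕ}
    (ht : ∀ a ∈ todo, a ∈ Kl) {acc : List (ℕ × ℕ)} (ha : ∀ p ∈ acc, p.1 ∈ Kl ∧ p.2 = τ p.1)
    (h : goD AL Ls Kl ents todo acc = true) : ∃ L ∈ Ls, ∃ io acc', (∀ p ∈ acc', p.2 = τ p.1) ∧
      entOK AL L.nd.toTy Kl acc' io = true := by
  induction todo generalizing acc with
  | nil =>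
    obtain ⟨e, -, he⟩ := List.any_eq_true.1 h
    cases e1 : Ls.drop e.1 with
    | nil => rw [e1] at he; exact absurd he Bool.false_ne_true
    | cons L tl =>
      rw [e1] at he
      exact ⟨L, List.mem_of_mem_drop (e1 ▸ List.mem_cons_self), e.2, acc, fun p hp => (ha p hp).2, he⟩
  | cons i todo ih =>
    have hi := ht i List.mem_cons_self
    have h3 := List.all_eq_true.1 h (τ i) (h1 i hi)
    rw [Bool.or_eq_true] at h3
    rcases h3 with h3 | h3
    · refine absurd h3 ?_
      rw [Bool.not_eq_true', Bool.not_eq_false, List.all_eq_true]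
      intro p hp
      rw [(ha p hp).2, h2 i hi _ (ha p hp).1, h2 _ (ha p hp).1 i hi]
      simp
    · refine ih (fun a h4 => ht a (List.mem_cons_of_mem _ h4)) (fun p hp => ?_) h3
      rcases List.mem_cons.1 hp with rfl | h4
      exacts [⟨hi, rfl⟩, ha p h4]

/-- **every proper coset fits a node of the list** -/
theorem dispatch {r : ℕ} {AL : List (List ℤ)} {Ls : List Lat} {tbl : List (List (ℕ × List ℕ))}
    (hc : dispOK r AL Ls tbl = true) (car : ∀ i < r, ∀ j < r, A (em i) (em j) = ga AL i j)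
    (sur : ∀ i, ∃ a < r, em a = i) (hψ : Aut cs ψ) {K : Set I} (hK : K ≠ Set.univ) (hm : Min cs K w) (τ : I → I)
    (hτ : ∀ i ∈ K, τ i ∈ K ∧ w * ψ (cs.simple i) = cs.simple (τ i) * w ∧ ∀ i' ∈ K, A (τ i) (τ i') = A i i') :
    ∃ L ∈ Ls, ∃ io : List ℕ, (∀ a ∈ io, a < r) ∧ io.length = L.nd.r ∧
      Fit cs h ψ L.nd.toTy (fun i => em (nth 0 io i)) K w := by
  classical
  choose ix hx1 hx2 using sur
  have hm1 : ∀ a, a ∈ (List.range r).filter (fun a => decide (em a ∈ K)) ↔ a < r ∧ em a ∈ K := fun a => by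
    simp [List.mem_filter]
  have h1 := allSub_spec hc fun a => decide (em a ∈ K)
  generalize hKl : (List.range r).filter (fun a => decide (em a ∈ K)) = Kl at h1 hm1
  rw [Bool.or_eq_true, Nat.beq_eq] at h1
  rcases h1 with h1 | h1
  · refine absurd (Set.eq_univ_of_forall fun i => ?_) hK
    have h2 : (List.range r).filter (fun a => decide (em a ∈ K)) = List.range r :=
      List.filter_sublist.eq_of_length (by rw [hKl, h1, List.length_range])
    have h3 := (hm1 (ix i)).1 (by rw [← hKl, h2]; exact List.mem_range.2 (hx1 i))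
    exact hx2 i ▸ h3.2
  obtain ⟨L, hL, io, acc, h2, h3⟩ := goD_spec (fun a => ix (τ (em a)))
    (fun a ha => (hm1 _).2 ⟨hx1 _, by rw [hx2]; exact (hτ _ ((hm1 a).1 ha).2).1⟩)
    (fun a ha b hb => by
      rw [← car _ (hx1 _) _ (hx1 _), hx2, hx2, (hτ _ ((hm1 a).1 ha).2).2.2 _ ((hm1 b).1 hb).2,
        car _ ((hm1 a).1 ha).1 _ ((hm1 b).1 hb).1])
    (fun _ ha => ha) (fun p hp => absurd hp List.not_mem_nil) h1
  simp only [entOK, Bool.and_eq_true, decide_eq_true_eq, List.all_eq_true, allLt_iff] at h3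
  obtain ⟨⟨h3, h4⟩, h5⟩ := h3
  have h6 : ∀ a ∈ io, ∃ i < L.nd.r, nth 0 io i = a := fun a ha => by
    obtain ⟨i, hi, rfl⟩ := List.getElem_of_mem ha
    exact ⟨i, h3 ▸ hi, by rw [nth_eq, List.getD_eq_getElem _ _ hi]⟩
  refine ⟨L, hL, io, fun a ha => ?_, h3, fun i hi j hj => ?_, fun i => ⟨fun hi => ?_, ?_⟩, hψ, hm, fun i hi => ?_⟩
  · obtain ⟨i, hi, rfl⟩ := h6 a ha
    exact ((hm1 _).1 (h5 i hi).1.1).1
  · rw [car _ ((hm1 _).1 (h5 i hi).1.1).1 _ ((hm1 _).1 (h5 j hj).1.1).1, (h5 i hi).2 j hj]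
  · obtain ⟨a, ha, e⟩ := h6 _ (h4 _ ((hm1 (ix i)).2 ⟨hx1 i, by rw [hx2]; exact hi⟩))
    exact ⟨a, ha, by rw [e, hx2]⟩
  · rintro ⟨a, ha, rfl⟩
    exact ((hm1 _).1 (h5 a ha).1.1).2
  · have h7 : nth 0 io (L.nd.σ i) = ix (τ (em (nth 0 io i))) := h2 _ (h5 i hi).1.2
    rw [h7, hx2]
    exact (hτ _ ((hm1 _).1 (h5 i hi).1.1).2).2.1

set_option exponentiation.threshold 1100

/-! ### fast forms of the checks (helper87) -/

namespace Fs

section

/-- lanes of `w` bits -/
def P {α : Type} (w : ℕ) (L : List α) (f : α → ℕ) : ℕ :=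
  List.rec 0 (fun a _ ih => Nat.add (f a) (Nat.shiftLeft ih w)) L

variable {α : Type} {w : ℕ} {L : List α}

theorem P_cons (a : α) (f : α → ℕ) : P w (a :: L) f = 2 ^ w * P w L f + f a := by
  show f a + P w L f <<< w = _
  rw [Nat.shiftLeft_eq, mul_comm, add_comm]

theorem P_congr {f g : α → ℕ} (h : ∀ x ∈ L, f x = g x) : P w L f = P w L g := by
  induction L with
  | nil => rfl
  | cons a L ih => rw [P_cons, P_cons, h a List.mem_cons_self, ih fun x hx => h x (List.mem_cons_of_mem _ hx)]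

theorem P_add (f g : α → ℕ) : Nat.add (P w L f) (P w L g) = P w L fun x => f x + g x := by
  rw [Nat.add_eq]
  induction L with
  | nil => rfl
  | cons a L ih => rw [P_cons, P_cons, P_cons, ← ih]; ring

theorem P_mul (f : α → ℕ) (c : ℕ) : Nat.mul (P w L f) c = P w L fun x => f x * c := by
  rw [Nat.mul_eq]
  induction L with
  | nil => exact zero_mul c
  | cons a L ih => rw [P_cons, P_cons, ← ih]; ring

theorem P_sub {f g : α → ℕ} (h : ∀ x ∈ L, g x ≤ f x) : Nat.sub (P w L f) (P w L g) = P w L fun x => f x - g x := by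
  rw [P_congr (f := f) (g := fun x => f x - g x + g x) fun x hx => (Nat.sub_add_cancel (h x hx)).symm, ← P_add]
  exact Nat.add_sub_cancel _ _

theorem P_and {f g : α → ℕ} (h : ∀ x ∈ L, f x < 2 ^ w ∧ g x < 2 ^ w) :
    P w L f &&& P w L g = P w L fun x => f x &&& g x := by
  induction L with
  | nil => exact Nat.zero_and 0
  | cons a L ih =>
    obtain ⟨h1, h2⟩ := h a List.mem_cons_self
    rw [P_cons, P_cons, P_cons, ← ih fun x hx => h x (List.mem_cons_of_mem _ hx)]
    refine Nat.eq_of_testBit_eq fun i => ?_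
    rw [Nat.testBit_and, Nat.testBit_two_pow_mul_add _ h1, Nat.testBit_two_pow_mul_add _ h2,
      Nat.testBit_two_pow_mul_add _ (Nat.and_lt_two_pow _ h2)]
    split_ifs <;> rw [Nat.testBit_and]

theorem P_inj {f g : α → ℕ} (h : ∀ x ∈ L, f x < 2 ^ w ∧ g x < 2 ^ w) (e : P w L f = P w L g) :
    ∀ x ∈ L, f x = g x := by
  induction L with
  | nil => exact fun _ hx => nomatch hx
  | cons a L ih =>
    obtain ⟨h1, h2⟩ := h a List.mem_cons_self
    rw [P_cons, P_cons] at e
    have e1 : f a = g a := by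
      have := congrArg (· % 2 ^ w) e
      simpa only [Nat.mul_add_mod, Nat.mod_eq_of_lt h1, Nat.mod_eq_of_lt h2] using this
    rw [e1, Nat.add_right_cancel_iff, Nat.mul_right_inj (Nat.two_pow_pos w).ne'] at e
    exact List.forall_mem_cons.2 ⟨e1, ih (fun x hx => h x (List.mem_cons_of_mem _ hx)) e⟩

/-- the `b` bits from `s` on, in the lanes marked by `C` -/
def fld (C F b s : ℕ) : ℕ :=
  Nat.shiftRight (Nat.land F (Nat.mul C (Nat.mul (Nat.sub (Nat.pow 2 b) 1) (Nat.pow 2 s)))) s

theorem fld_eq {c f : α → ℕ} {b s : ℕ} (hw : b + s ≤ w) (h : ∀ x ∈ L, c x ≤ 1 ∧ f x < 2 ^ w) :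
    fld (P w L c) (P w L f) b s = P w L fun x => c x * (f x / 2 ^ s % 2 ^ b) := by
  have h1 : (2 ^ b - 1) * 2 ^ s < 2 ^ w :=
    lt_of_lt_of_le (Nat.mul_lt_mul_of_pos_right (Nat.sub_lt (Nat.two_pow_pos b) one_pos) (Nat.two_pow_pos s))
      (pow_add 2 b s ▸ Nat.pow_le_pow_right two_pos hw)
  rw [fld, P_mul]
  show (P w L f &&& P w L fun x => c x * ((2 ^ b - 1) * 2 ^ s)) >>> s = _
  rw [P_and fun x hx => ⟨(h x hx).2, lt_of_le_of_lt (mul_le_of_le_one_left (Nat.zero_le _) (h x hx).1) h1⟩,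
    P_congr (g := fun x => c x * (f x / 2 ^ s % 2 ^ b) * 2 ^ s) fun x hx => ?_, ← P_mul, Nat.shiftRight_eq_div_pow]
  · exact Nat.mul_div_cancel _ (Nat.two_pow_pos s)
  rcases Nat.le_one_iff_eq_zero_or_eq_one.1 (h x hx).1 with e | e
  · simp only [e, zero_mul, Nat.and_zero]
  · simp only [e, one_mul]
    refine Nat.eq_of_testBit_eq fun i => ?_
    simp only [Nat.testBit_and, Nat.testBit_mul_two_pow, Nat.testBit_two_pow_sub_one, Nat.testBit_mod_two_pow,
      Nat.testBit_div_two_pow]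
    by_cases e1 : s ≤ i
    · simp only [e1, decide_true, Bool.true_and, Nat.sub_add_cancel e1, Bool.and_comm]
    · simp only [e1, decide_false, Bool.false_and, Bool.and_false]

def col (tab i : ℕ) : ℕ :=
  Nat.mod (Nat.shiftRight (Nat.shiftRight tab (Nat.mul i 136)) 8) 340282366920938463463374607431768211456

def kk (tab i : ℕ) : ℕ :=
  Nat.mod (Nat.mul 340282366920938463463374607431768211392 (col tab i)) 340282366920938463463374607431768211456

def sh (tab i : ℕ) : ℕ := Nat.mod (Nat.shiftRight tab (Nat.mul i 136)) 256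

def ge (O X i : ℕ) : ℕ := fld O (Nat.add X (Nat.mul O (Nat.sub 32 i))) 1 5

theorem ge_eq (hw : 264 ≤ w) {x : α → ℕ} (h : ∀ a ∈ L, x a < 32) {i : ℕ} (hi : i ≤ 8) :
    ge (P w L fun _ => 1) (P w L x) i = P w L fun a => if i ≤ x a then 1 else 0 := by
  have h1 : 2 ^ 6 ≤ 2 ^ w := Nat.pow_le_pow_right two_pos (by omega)
  rw [ge, P_mul, P_add, fld_eq (by omega) fun a ha => ⟨le_rfl, by have := h a ha; simp only [Nat.sub_eq]; omega⟩]
  refine P_congr fun a ha => ?_
  have := h a ha
  simp only [Nat.sub_eq]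
  split_ifs <;> omega

def lp (tab O X N m : ℕ) : ℕ → ℕ → ℕ :=
  Nat.rec (fun _ a => a) (fun i ih g a => (fun c => ih (ge O X i) (Nat.add a (Nat.add (Nat.mul (fld c N 8 (sh tab i)) (col tab i))
    (Nat.mul c (kk tab i))))) (Nat.sub (ge O X i) g)) m

theorem lp_eq (hw : 264 ≤ w) (tab : ℕ) {x N : α → ℕ} (h : ∀ a ∈ L, x a < 32) (hN : ∀ a ∈ L, N a < 2 ^ w) (m : ℕ) :
    m ≤ 8 → ∀ y : α → ℕ, lp tab (P w L fun _ => 1) (P w L x) (P w L N) m (P w L fun a => if m ≤ x a then 1 else 0) (P w L y) =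
      P w L fun a => y a + if x a < m then N a / 2 ^ sh tab (x a) % 2 ^ 8 * col tab (x a) + kk tab (x a) else 0 := by
  induction m with
  | zero => exact fun _ _ => rfl
  | succ m ih =>
    intro hm y
    have hs : sh tab m < 256 := Nat.mod_lt _ (by norm_num)
    show lp _ _ _ _ m (ge _ _ m) (Nat.add _ (Nat.add (Nat.mul (fld (Nat.sub (ge _ _ m) _) _ 8 _) _) (Nat.mul (Nat.sub (ge _ _ m) _) _))) = _
    rw [ge_eq hw h (by omega), P_sub fun a _ => by split_ifs <;> omega,
      fld_eq (by omega) fun a ha => ⟨by split_ifs <;> omega, hN a ha⟩, P_mul, P_mul, P_add, P_add, ih (by omega)]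
    refine P_congr fun a _ => ?_
    rcases lt_trichotomy (x a) m with e | e | e
    · simp only [if_neg (by omega : ¬ m ≤ x a), if_pos e, if_pos (Nat.lt_succ_of_lt e), Nat.zero_sub, zero_mul, add_zero]
    · simp only [e, le_refl, if_true, lt_irrefl, if_false, add_zero, Nat.lt_succ_self, Nat.not_succ_le_self, Nat.sub_zero,
        one_mul]
    · simp only [if_pos e.le, if_pos (Nat.succ_le_of_lt e), if_neg (by omega : ¬ x a < m), if_neg (by omega : ¬ x a < m + 1),
        Nat.sub_self, zero_mul, add_zero]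

def fN {β : Type} (n : ℕ) (k : ℕ → β) : β := Nat.casesOn n (k 0) fun m => k m.succ

theorem fN_eq {β : Type} (n : ℕ) (k : ℕ → β) : fN n k = k n := by cases n <;> rfl

/-- one letter in every lane -/
def stS (tab w O W N : ℕ) : ℕ :=
  (fun X => fld O (lp tab O X N 8 (ge O X 8) N) 128 0) (Nat.add (fld O W 4 0) (Nat.mul (Nat.sub O
    (fld O (Nat.add W (Nat.mul O (Nat.sub (Nat.pow 2 (Nat.sub w 1)) 2))) 1 (Nat.sub w 1))) 16))

theorem step_lt (tab i N : ℕ) : step tab i N < 2 ^ 128 := Nat.mod_lt _ (by norm_num)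

theorem stS_eq (hw : 264 ≤ w) {tab : ℕ} (ht : tab < 2 ^ 1088) {n N : α → ℕ}
    (h : ∀ a ∈ L, n a < 2 ^ (w - 1) ∧ N a < 2 ^ 128) : stS tab w (P w L fun _ => 1) (P w L n) (P w L N) =
      P w L fun a => if n a ≤ 1 then N a else step tab (n a % 16) (N a) := by
  have h1 : 2 ^ w = 2 ^ (w - 1) * 2 := by rw [← pow_succ, Nat.sub_add_cancel (by omega)]
  have h2 : 2 ^ 137 ≤ 2 ^ (w - 1) := Nat.pow_le_pow_right two_pos (by omega)
  have h3 : fld (P w L fun _ => 1) (Nat.add (P w L n) (Nat.mul (P w L fun _ => 1) (Nat.sub (Nat.pow 2 (Nat.sub w 1)) 2))) 1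
      (Nat.sub w 1) = P w L fun a => if n a ≤ 1 then 0 else 1 := by
    simp only [Nat.sub_eq, Nat.pow_eq]
    rw [P_mul, P_add, fld_eq (by omega) fun a ha => ⟨le_rfl, by have := (h a ha).1; omega⟩]
    refine P_congr fun a ha => ?_
    have := (h a ha).1
    split_ifs with e
    · rw [Nat.div_eq_of_lt (by omega)]; rfl
    · rw [Nat.div_eq_of_lt_le (k := 1) (by omega) (by omega)]; rfl
  have h4 : ∀ a ∈ L, 1 * (n a / 2 ^ 0 % 2 ^ 4) + (1 - if n a ≤ 1 then 0 else 1) * 16 < 32 := fun a _ => by omega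
  have h5 : ∀ i, col tab i < 2 ^ 128 ∧ kk tab i < 2 ^ 128 := fun i => ⟨Nat.mod_lt _ (by norm_num), Nat.mod_lt _ (by norm_num)⟩
  rw [stS, h3, fld_eq (by omega) fun a ha => ⟨le_rfl, by have := (h a ha).1; omega⟩, P_sub fun a _ => by split_ifs <;> omega,
    P_mul, P_add]
  beta_reduce
  rw [ge_eq hw h4 le_rfl, lp_eq hw tab h4 (fun a ha => by have := (h a ha).2; omega) 8 le_rfl,
    fld_eq (by omega) fun a ha => ⟨le_rfl, ?_⟩]
  · refine P_congr fun a ha => ?_
    rw [pow_zero, Nat.div_one, Nat.div_one, one_mul, one_mul]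
    by_cases e : n a ≤ 1
    · rw [if_pos e, if_pos e, if_neg (by omega), add_zero, Nat.mod_eq_of_lt (h a ha).2]
    · rw [if_neg e, if_neg e, Nat.sub_self, zero_mul, add_zero]
      show _ = (N a + (N a >>> sh tab (n a % 16) % 256 + (2 ^ 128 - 64)) * (tab >>> (n a % 16 * 136) >>> 8)) % 2 ^ 128
      split_ifs with e1
      · rw [← Nat.shiftRight_eq_div_pow, add_mul]
        exact Nat.ModEq.add_left _ (Nat.ModEq.add (Nat.ModEq.mul_left _ (Nat.mod_modEq _ _))
          ((Nat.mod_modEq _ _).trans (Nat.ModEq.mul_left _ (Nat.mod_modEq _ _))))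
      · rw [Nat.shiftRight_eq_div_pow tab, Nat.div_eq_of_lt (ht.trans_le (Nat.pow_le_pow_right two_pos (by clear ht; omega))),
          Nat.zero_shiftRight, mul_zero]
  · have := (h a ha).2
    generalize 1 * (n a / 2 ^ 0 % 2 ^ 4) + (1 - if n a ≤ 1 then 0 else 1) * 16 = x
    have h6 := Nat.mul_le_mul (Nat.mod_lt (N a / 2 ^ sh tab x) (Nat.two_pow_pos 8)).le (h5 x).1.le
    have := (h5 x).2
    split_ifs <;> omega

/-- one word in every lane; the counter separates the hash values of the terms -/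
def runS (tab w O f : ℕ) : ℕ → ℕ → ℕ :=
  Nat.rec (fun _ N => N) (fun j ih W N => cond (Nat.beq W 0) N ((fun W' => fN (stS tab w O W' (Nat.sub (Nat.add N j) j)) fun N' =>
    fN (fld O W' (Nat.sub w 4) 4) fun W'' => ih W'' N') (Nat.sub (Nat.add W j) j))) f

theorem runF_le (tab f N : ℕ) {n : ℕ} (h : n ≤ 1) : runF tab f n N = N := by
  cases f with
  | zero => rfl
  | succ f =>
    show cond (Nat.ble n 1) N _ = N
    rw [Nat.ble_eq_true_of_le h]; rfl

theorem runF_succ (tab f n N : ℕ) :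
    runF tab (f + 1) n N = runF tab f (n / 16) (if n ≤ 1 then N else step tab (n % 16) N) := by
  split_ifs with e
  · rw [runF_le _ _ _ e, runF_le _ _ _ (by omega)]
  · show cond (Nat.ble n 1) N (runF tab f (n >>> 4) _) = _
    rw [Bool.eq_false_iff.2 fun h => e (Nat.le_of_ble_eq_true h), Nat.shiftRight_eq_div_pow]; rfl

theorem runF_lt (tab f : ℕ) : ∀ {n N : ℕ}, N < 2 ^ 128 → runF tab f n N < 2 ^ 128 := by
  induction f with
  | zero => exact id
  | succ f ih =>
    intro n N h
    rw [runF_succ]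
    exact ih (by split_ifs; exacts [h, step_lt _ _ _])

theorem runS_eq (hw : 264 ≤ w) {tab : ℕ} (ht : tab < 2 ^ 1088) (f : ℕ) : ∀ {n N : α → ℕ},
    (∀ a ∈ L, n a < 2 ^ (w - 1) ∧ N a < 2 ^ 128) →
    runS tab w (P w L fun _ => 1) f (P w L n) (P w L N) = P w L fun a => runF tab f (n a) (N a) := by
  have h1 : 2 ^ (w - 1) ≤ 2 ^ w := Nat.pow_le_pow_right two_pos (by omega)
  induction f with
  | zero => exact fun _ => rfl
  | succ f ih =>
    intro n N h
    show cond (Nat.beq _ 0) _ (fN (stS _ _ _ (_ + f - f) (_ + f - f)) fun N' => fN (fld _ (_ + f - f) (w - 4) 4) fun W'' =>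
      runS _ _ _ f W'' N') = _
    rw [fN_eq, fN_eq, Nat.add_sub_cancel, Nat.add_sub_cancel, Bool.cond_eq_ite]
    split_ifs with e
    · have e1 := P_inj (g := fun _ => 0 * 0) (fun a ha => ⟨(h a ha).1.trans_le h1, Nat.two_pow_pos w⟩)
        ((Nat.eq_of_beq_eq_true e).trans (P_mul (fun _ => 0) 0))
      exact P_congr fun a ha => (runF_le _ _ _ ((e1 a ha).trans_le (Nat.zero_le 1))).symm
    · have h2 : ∀ a ∈ L, 1 * (n a / 2 ^ 4 % 2 ^ (w - 4)) = n a / 16 := fun a ha => by
        refine (one_mul _).trans (Nat.mod_eq_of_lt ?_)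
        rw [Nat.div_lt_iff_lt_mul (by norm_num), ← pow_add, Nat.sub_add_cancel (by omega)]
        exact (h a ha).1.trans_le h1
      rw [stS_eq hw ht h, fld_eq (by omega) fun a ha => ⟨le_rfl, (h a ha).1.trans_le h1⟩, P_congr h2,
        ih fun a ha => ⟨(Nat.div_le_self _ _).trans_lt (h a ha).1, by split_ifs; exacts [(h a ha).2, step_lt _ _ _]⟩]
      exact P_congr fun a _ => (runF_succ _ _ _ _).symm

def ln (e : ℕ) (R : List (ℕ × ℕ × ℕ)) (tl : List ℕ) : List ℕ → List (ℕ × ℕ × ℕ) :=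
  List.rec (fun _ => R) (fun t _ ih r => List.casesOn r [] fun x r' => fN t fun t' => fN x fun x' => (e, t', x') :: ih r') tl

/-- the lanes `(e, t, x)` of the rows from `k` on -/
def lanes (nd : Nd) (tl : List ℕ) (rows : List (List ℕ)) : ℕ → List (ℕ × ℕ × ℕ) :=
  List.rec (fun _ => []) (fun row _ ih k => fN (nd.e k) fun e => ln e (ih (Nat.succ k)) tl row) rows

def rowsC (nd : Nd) (tl : List ℕ) (rows : List (List ℕ)) : ℕ → Bool :=
  List.rec (fun _ => true) (fun row _ ih k =>
    all2 (fun t x => nd.cj (fun N => run nd.tab t (run nd.tab (nd.e k) N)) x) tl row && ih (Nat.succ k)) rows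

theorem rowsC_of {nd : Nd} {tl : List ℕ} {rows : List (List ℕ)} (hl : ∀ r ∈ rows, r.length = tl.length) : ∀ {k : ℕ},
    (∀ a ∈ lanes nd tl rows k, nd.cj (fun N => run nd.tab a.2.1 (run nd.tab a.1 N)) a.2.2 = true) →
    rowsC nd tl rows k = true := by
  induction rows with
  | nil => exact fun _ => rfl
  | cons row rows ih =>
    intro k h
    have key : ∀ (tl' row : List ℕ) (R : List (ℕ × ℕ × ℕ)), row.length = tl'.length →
        (∀ a ∈ ln (nd.e k) R tl' row,
          nd.cj (fun N => run nd.tab a.2.1 (run nd.tab a.1 N)) a.2.2 = true) →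
        all2 (fun t x => nd.cj (fun N => run nd.tab t (run nd.tab (nd.e k) N)) x) tl' row = true ∧
          ∀ a ∈ R, nd.cj (fun N => run nd.tab a.2.1 (run nd.tab a.1 N)) a.2.2 = true := by
      intro tl'
      induction tl' with
      | nil =>
        rintro (_ | _) R hr H
        exacts [⟨rfl, H⟩, nomatch hr]
      | cons t tl' ih' =>
        rintro (_ | ⟨x, row⟩) R hr H
        · exact nomatch hr
        rw [show ln (nd.e k) R (t :: tl') (x :: row) = (nd.e k, t, x) :: ln (nd.e k) R tl' row from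
          (fN_eq t fun t' => fN x fun x' => (nd.e k, t', x') :: ln (nd.e k) R tl' row).trans
            (fN_eq x fun x' => (nd.e k, t, x') :: ln (nd.e k) R tl' row), List.forall_mem_cons] at H
        obtain ⟨h1, h2⟩ := ih' row R (Nat.succ_injective hr) H.2
        exact ⟨Bool.and_eq_true_iff.2 ⟨H.1, h1⟩, h2⟩
    obtain ⟨h1, h2⟩ := key tl row (lanes nd tl rows (k + 1)) (hl _ List.mem_cons_self) fun a ha => h a (by
      rw [show lanes nd tl (row :: rows) k = _ from fN_eq (nd.e k) fun e => ln e (lanes nd tl rows (k + 1)) tl row]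
      exact ha)
    exact Bool.and_eq_true_iff.2 ⟨h1, ih (fun r hr => hl r (List.mem_cons_of_mem _ hr)) h2⟩

def cjS (nd : Nd) (w : ℕ) (tl : List ℕ) (rows : List (List ℕ)) (k : ℕ) : Bool :=
  Nat.ble 264 w && Nat.blt nd.tab (2 ^ 1088) && Nat.blt nd.tbs (2 ^ 1088) && Nat.blt nd.n0 (2 ^ 128) &&
  (nd.cod.all fun c => Nat.blt c (2 ^ 128)) && (rows.all fun r => Nat.beq r.length tl.length) &&
  (fun L : List (ℕ × ℕ × ℕ) => fN (Nat.pow 2 (Nat.sub w 1)) fun B =>
    (L.all fun a => Nat.blt a.1 B && Nat.blt a.2.1 B && Nat.blt (Nat.shiftRight a.2.2 8) B) &&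
    fN (P w L fun _ => 1) fun O => fN (P w L fun a => Nat.shiftRight a.2.2 8) fun G =>
    Nat.beq (runS nd.tab w O 256 (P w L fun a => a.2.1) (runS nd.tab w O 256 (P w L fun a => a.1)
      (runS nd.tbs w O 256 G (Nat.mul O nd.n0))))
      (runS nd.tab w O 256 G (P w L fun a => fN (Nat.mod a.2.2 256) (nth 0 nd.cod)))) (lanes nd tl rows k)

theorem cjS_sound {nd : Nd} {w : ℕ} {tl : List ℕ} {rows : List (List ℕ)} {k : ℕ} (h : cjS nd w tl rows k = true) :
    rowsC nd tl rows k = true := by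
  simp only [cjS, fN_eq, Bool.and_eq_true, List.all_eq_true, Nat.ble_eq, Nat.blt_eq, Nat.beq_eq, Nat.pow_eq, Nat.sub_eq] at h
  obtain ⟨⟨⟨⟨⟨⟨h1, h2⟩, h3⟩, h4⟩, h5⟩, h6⟩, h7, h8⟩ := h
  have h9 : ∀ i, nth 0 nd.cod i < 2 ^ 128 := fun i => by
    rw [nth_eq, List.getD_eq_getElem?_getD]
    cases e : nd.cod[i]? with
    | none => exact Nat.two_pow_pos _
    | some x => exact h5 x (List.mem_of_getElem? e)
  have h10 : 2 ^ 128 ≤ 2 ^ w := Nat.pow_le_pow_right two_pos (by omega)
  have h11 : 1 * nd.n0 < 2 ^ 128 := (one_mul _).trans_lt h4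
  rw [P_mul, runS_eq h1 h3 _ fun a ha => ⟨(h7 a ha).2, h11⟩, runS_eq h1 h2 _ fun a ha => ⟨(h7 a ha).2, h9 _⟩,
    runS_eq h1 h2 _ fun a ha => ⟨(h7 a ha).1.1, runF_lt _ _ h11⟩,
    runS_eq h1 h2 _ fun a ha => ⟨(h7 a ha).1.2, runF_lt _ _ (runF_lt _ _ h11)⟩] at h8
  refine rowsC_of h6 fun a ha => ?_
  have h12 := P_inj (fun a _ => ⟨(runF_lt _ _ (runF_lt _ _ (runF_lt _ _ h11))).trans_le h10,
    (runF_lt _ _ (h9 _)).trans_le h10⟩) h8 a ha
  rw [one_mul] at h12
  exact Nat.beq_eq ▸ h12

end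

def pkP (B : ℕ) (l : List ℤ) : ℕ :=
  List.rec 0 (fun a _ ih => Nat.add (Int.casesOn a (fun n => n) fun _ => 0) (Nat.mul B ih)) l

def pkN (B : ℕ) (l : List ℤ) : ℕ :=
  List.rec 0 (fun a _ ih => Nat.add (Int.casesOn a (fun _ => 0) Nat.succ) (Nat.mul B ih)) l

theorem pk_eq (B : ℕ) (l : List ℤ) : Int.subNatNat (pkP B l) (pkN B l) = pkz B l := by
  rw [Int.subNatNat_eq_coe]
  induction l with
  | nil => rfl
  | cons a l ih =>
    show _ = a + B * pkz B l
    rw [← ih]
    cases a with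
    | ofNat n =>
      show ((n + B * pkP B l : ℕ) : ℤ) - (0 + B * pkN B l : ℕ) = n + _
      push_cast; ring
    | negSucc n =>
      show ((0 + B * pkP B l : ℕ) : ℤ) - (n + 1 + B * pkN B l : ℕ) = _
      rw [Int.negSucc_eq]; push_cast; ring

def fZ {α : Type} (l : List ℤ) : (List ℤ → α) → α :=
  List.rec (fun k => k []) (fun a _ ih k => Int.casesOn a (fun n => fN n fun m => ih fun l' => k (.ofNat m :: l'))
    fun n => fN n fun m => ih fun l' => k (.negSucc m :: l')) l

theorem fZ_eq {α : Type} (l : List ℤ) (k : List ℤ → α) : fZ l k = k l := by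
  induction l generalizing k with
  | nil => rfl
  | cons a l ih => rcases a with (_ | n) | (_ | n) <;> exact ih _

def eqL (a : List ℤ) : List ℤ → Bool :=
  List.rec (fun b => b.isEmpty) (fun x _ ih b => List.casesOn b false fun y b' => Int.casesOn x
    (fun n => Int.casesOn y (fun m => Nat.beq n m && ih b') fun _ => false)
    fun n => Int.casesOn y (fun _ => false) fun m => Nat.beq n m && ih b') a

theorem eqL_eq {a b : List ℤ} (h : eqL a b = true) : a = b := by
  induction a generalizing b with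
  | nil => exact (List.isEmpty_iff.1 h).symm
  | cons x a ih =>
    rcases b with _ | ⟨y, b⟩
    · exact nomatch h
    rcases x with n | n <;> rcases y with m | m
    · have h1 := Bool.and_eq_true_iff.1 h
      rw [Nat.eq_of_beq_eq_true h1.1, ih h1.2]
    · exact nomatch h
    · exact nomatch h
    · have h1 := Bool.and_eq_true_iff.1 h
      rw [Nat.eq_of_beq_eq_true h1.1, ih h1.2]

def zm (a : List ℤ) : List ℤ → List ℤ :=
  List.rec (fun _ => []) (fun x _ ih b => List.casesOn b [] fun y b' => Int.mul x y :: ih b') a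

theorem nth_zm (a b : List ℤ) (i : ℕ) : nth 0 (zm a b) i = nth 0 a i * nth 0 b i := by
  induction a generalizing b i with
  | nil => exact (zero_mul _).symm
  | cons x a ih =>
    cases b with
    | nil => exact (mul_zero _).symm
    | cons y b =>
      cases i with
      | zero => rfl
      | succ i => exact ih b i

def dZ (a : List ℤ) : List ℤ → ℤ :=
  List.rec (fun _ => 0) (fun x _ ih b => List.casesOn b 0 fun y b' => Int.add (Int.mul x y) (ih b')) a

theorem dZ_eq (a y : List ℤ) : dZ a y = ∑ k ∈ Finset.range a.length, nth 0 a k * nth 0 y k := by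
  induction a generalizing y with
  | nil => rfl
  | cons c a ih => cases y with
    | nil => exact (Finset.sum_eq_zero fun k _ => mul_zero _).symm
    | cons v y =>
      rw [List.length_cons, Finset.sum_range_succ', add_comm]
      exact congrArg (c * v + ·) (ih y)

theorem unit_eq (B c : ℤ) (φ : ℕ) : pkz B (Nd.unit φ c) = c * B ^ φ ∧ sumAbs (Nd.unit φ c) = c.natAbs := by
  induction φ with
  | zero => exact ⟨congrArg (c + ·) (mul_zero B) |>.trans ((add_zero c).trans ((mul_one c).symm.trans (congrArg _ (pow_zero B).symm))), rfl⟩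
  | succ φ ih =>
    refine ⟨?_, (zero_add _).trans ih.2⟩
    show 0 + B * pkz B (Nd.unit φ c) = _
    rw [ih.1]; ring

def sA (l : List ℤ) : ℕ := List.rec 0 (fun a _ ih => Nat.add (Int.casesOn a (fun n => n) Nat.succ) ih) l

theorem sA_eq : sA = sumAbs := by
  funext l
  induction l with
  | nil => rfl
  | cons a l ih => cases a <;> exact congrArg (Nat.add _) ih

def bd (b : ℕ) (l : List ℤ) : Bool :=
  List.rec true (fun a _ ih => Bool.rec false ih (Int.casesOn a (fun n => Nat.ble n b) fun n => Nat.ble (Nat.succ n) b)) l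

theorem bd_eq (b : ℕ) (l : List ℤ) : bd b l = l.all fun x => Nat.ble x.natAbs b := by
  induction l with
  | nil => rfl
  | cons a l ih =>
    rw [List.all_cons, ← ih]
    cases a with
    | ofNat n =>
      show @Bool.rec (fun _ => Bool) false (bd b l) (Nat.ble n b) = (Nat.ble n b && bd b l)
      cases Nat.ble n b <;> rfl
    | negSucc n =>
      show @Bool.rec (fun _ => Bool) false (bd b l) (Nat.ble (n + 1) b) = (Nat.ble (n + 1) b && bd b l)
      cases Nat.ble (n + 1) b <;> rfl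

def sP (c : ℕ) (l : List ℤ) : ℕ :=
  List.rec 0 (fun a _ ih => Nat.add (Int.casesOn a (fun n => n) fun _ => 0) (Nat.shiftLeft ih c)) l

def sN (c : ℕ) (l : List ℤ) : ℕ :=
  List.rec 0 (fun a _ ih => Nat.add (Int.casesOn a (fun _ => 0) Nat.succ) (Nat.shiftLeft ih c)) l

theorem sk_eq (c : ℕ) (l : List ℤ) : Int.subNatNat (sP c l) (sN c l) = pkz (2 ^ c : ℕ) l := by
  have h : sP c l = pkP (2 ^ c) l ∧ sN c l = pkN (2 ^ c) l := by
    induction l with
    | nil => exact ⟨rfl, rfl⟩
    | cons a l ih =>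
      exact ⟨congrArg (Nat.add _) ((Nat.shiftLeft_eq _ _).trans ((mul_comm _ _).trans (congrArg _ ih.1))),
        congrArg (Nat.add _) ((Nat.shiftLeft_eq _ _).trans ((mul_comm _ _).trans (congrArg _ ih.2)))⟩
  rw [h.1, h.2, pk_eq]

theorem sumAbs_eq (l : List ℤ) : (sumAbs l : ℤ) = (l.map abs).sum := by
  induction l with
  | nil => rfl
  | cons a l ih =>
    rw [List.map_cons, List.sum_cons, ← ih, Int.abs_eq_natAbs]
    exact Nat.cast_add _ _

theorem sum_abs_le (l : List ℤ) (K : ℕ) : ∑ k ∈ Finset.range K, |nth 0 l k| ≤ sumAbs l := by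
  rw [sumAbs_eq]
  induction l generalizing K with
  | nil => exact (Finset.sum_eq_zero fun _ _ => rfl).le
  | cons a l ih => cases K with
    | zero => exact List.sum_nonneg fun x hx => by obtain ⟨y, -, rfl⟩ := List.mem_map.1 hx; exact abs_nonneg y
    | succ K =>
      rw [Finset.sum_range_succ', List.map_cons, List.sum_cons, add_comm]
      exact add_le_add_right (ih K) _

/-- all the orthogonality relations in one number -/
def orthF (nd : Nd) (B : ℕ) (XP : List ℤ) : Bool :=
  allLt nd.K (fun φ => decide (0 < nd.ν φ)) && Nat.ble nd.nu.length nd.K && Nat.beq (zm nd.nW XP).length nd.K &&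
  Nat.blt (sA nd.nW * nd.b * nd.b + sA nd.nu) B && fN ((nd.K + 2) * (Nat.log2 B + 1)) fun c =>
    Nat.blt (sA nd.nW * nd.b * sA XP + sA nd.nu * B ^ nd.K) (2 ^ c) &&
    decide (dZ (zm nd.nW XP) (nd.XC.map fun l => Int.subNatNat (sP c l) (sN c l)) =
      fN (2 ^ c * B) fun D => Int.subNatNat (pkP D nd.nu) (pkN D nd.nu))

theorem orth_of {nd : Nd} (B : ℕ) (hB : nd.B = B) (hX : ∀ c ∈ nd.XC, c.length ≤ nd.K ∧ ∀ x ∈ c, x.natAbs ≤ nd.b)
    (h : orthF nd B nd.XP = true) : nd.orth nd.XP = true := by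
  simp only [orthF, fN_eq, sA_eq, sk_eq, pk_eq, Bool.and_eq_true, allLt_iff, Nat.ble_eq, Nat.beq_eq, Nat.blt_eq,
    decide_eq_true_eq] at h
  obtain ⟨⟨⟨⟨h1, h2⟩, h3⟩, h4⟩, h5, h6⟩ := h
  generalize 2 ^ ((nd.K + 2) * (Nat.log2 B + 1)) = C at h5 h6
  have hc : ∀ k, (nth [] nd.XC k).length ≤ nd.K ∧ ∀ φ, |nd.X φ k| ≤ nd.b := fun k => by
    have h7 : (nth [] nd.XC k).length ≤ nd.K ∧ ∀ x ∈ nth [] nd.XC k, x.natAbs ≤ nd.b := by
      rw [nth_eq, List.getD_eq_getElem?_getD]
      cases e : nd.XC[k]? with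
      | none => exact ⟨Nat.zero_le _, fun _ h => nomatch h⟩
      | some x => exact hX x (List.mem_of_getElem? e)
    refine ⟨h7.1, fun φ => ?_⟩
    show |nth 0 (nth [] nd.XC k) φ| ≤ _
    rw [nth_eq 0, List.getD_eq_getElem?_getD]
    cases e : (nth [] nd.XC k)[φ]? with
    | none => exact Int.natCast_nonneg _
    | some x => exact (Int.abs_eq_natAbs x).trans_le (Int.ofNat_le.2 (h7.2 x (List.mem_of_getElem? e)))
  have hs : ∀ φ, ∑ k ∈ Finset.range nd.K, |nd.n k * nd.X φ k| ≤ sumAbs nd.nW * nd.b := fun φ => by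
    refine le_trans (Finset.sum_le_sum fun k _ => (abs_mul _ _).trans_le
      (mul_le_mul_of_nonneg_left ((hc k).2 φ) (abs_nonneg _))) ?_
    rw [← Finset.sum_mul]
    exact mul_le_mul_of_nonneg_right (sum_abs_le _ _) (Int.natCast_nonneg _)
  have hB1 : (1 : ℤ) ≤ B := Int.ofNat_le.2 (Nat.zero_lt_of_lt h4)
  have key := pack_inj (B := C) (n := nd.K)
    (d := fun φ => ∑ k ∈ Finset.range nd.K, nd.n k * nd.X φ k * nth 0 nd.XP k - nd.ν φ * B ^ φ) (fun φ hφ => ?_) ?_
  · refine allLt_iff.2 fun φ hφ => ?_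
    delta Nd.lin linP
    simp only [Bool.and_eq_true, List.all_eq_true, Nat.blt_eq, Nat.ble_eq, decide_eq_true_eq, List.map_map, List.mem_map,
      List.mem_range, dotP_eq, (unit_eq nd.B _ _).1, (unit_eq nd.B _ _).2]
    refine ⟨h1 φ hφ, ⟨⟨?_, ?_⟩, ?_⟩, ?_⟩
    · rintro _ ⟨k, hk, rfl⟩
      exact hk
    · exact (List.length_append.trans (congrArg (· + 1) List.length_replicate)).trans_le hφ
    · rw [hB, Nat.cast_add, Nat.cast_mul, sumAbs_eq, List.map_map, ← Int.abs_eq_natAbs]
      refine lt_of_le_of_lt (add_le_add (mul_le_mul_of_nonneg_right (hs φ) (Int.natCast_nonneg _)) (abs_nth_le _ _)) ?_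
      exact_mod_cast h4
    · exact hB ▸ sub_eq_zero.1 (key φ hφ)
  · refine lt_of_le_of_lt ((abs_sub _ _).trans (add_le_add (b := (sumAbs nd.nW : ℤ) * nd.b * sumAbs nd.XP)
      (d := (sumAbs nd.nu : ℤ) * (B : ℤ) ^ nd.K) ?_ ?_)) (by exact_mod_cast h5)
    · refine (Finset.abs_sum_le_sum_abs _ _).trans (le_trans (Finset.sum_le_sum fun k _ => (abs_mul _ _).trans_le
        (mul_le_mul_of_nonneg_left (abs_nth_le _ k) (abs_nonneg _))) ?_)
      rw [← Finset.sum_mul]
      exact mul_le_mul_of_nonneg_right (hs φ) (Int.natCast_nonneg _)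
    · rw [abs_mul, abs_of_nonneg (pow_nonneg (Int.natCast_nonneg B) φ)]
      exact mul_le_mul (abs_nth_le _ _) (pow_le_pow_right₀ hB1 hφ.le) (pow_nonneg (Int.natCast_nonneg B) φ)
        (Int.natCast_nonneg _)
  · rw [dZ_eq, h3, pkz_eq _ h2] at h6
    simp only [sub_mul, Finset.sum_sub_distrib, Finset.sum_mul, sub_eq_zero]
    rw [Finset.sum_comm]
    refine (Finset.sum_congr rfl fun k _ => ?_).trans (h6.trans (Finset.sum_congr rfl fun φ _ => ?_))
    · rw [nth_zm, nth_eq 0 (List.map _ _), show (nd.XC.map fun l => pkz C l).getD k 0 = _ from List.getD_map nd.XC [] (pkz C),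
        ← nth_eq, pkz_eq _ (hc k).1, Finset.mul_sum]
      exact Finset.sum_congr rfl fun φ _ => by
        show nth 0 nd.nW k * nth 0 (nth [] nd.XC k) φ * _ * _ = _
        ring
    · show nth 0 nd.nu φ * _ = nth 0 nd.nu φ * _ * _
      rw [Nat.cast_mul, mul_pow]
      ring

/-! ### the linear relations -/

def XF (nd : Nd) (B : ℕ) : List ℤ := nd.XC.map fun l => Int.subNatNat (pkP B l) (pkN B l)

theorem XF_eq {nd : Nd} {B : ℕ} (hB : nd.B = B) : XF nd B = nd.XP := by
  rw [XF, funext (pk_eq B), ← hB]; rfl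

def dotF (ps : List (ℤ × ℕ)) (XP : List ℤ) : ℤ :=
  List.rec 0 (fun p _ ih => fN p.2 fun j => Int.add (Int.mul p.1 (nth 0 XP j)) ih) ps

def linF (nd : Nd) (B : ℕ) (XP : List ℤ) (ps : List (ℤ × ℕ)) (l : List ℤ) : Bool :=
  ps.all (fun p => Nat.blt p.2 nd.K) && fZ l fun l => Nat.ble l.length nd.K &&
    Nat.blt (sumAbs (ps.map fun p => p.1) * nd.b + sumAbs l) B && decide (dotF ps XP = Int.subNatNat (pkP B l) (pkN B l))

theorem lin_eq {nd : Nd} {B : ℕ} (hB : nd.B = B) : linF nd B = nd.lin := by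
  funext XP ps l
  delta Nd.lin linP linF dotF dotP
  simp only [fZ_eq, fN_eq, pk_eq, hB, Nat.cast_lt, Bool.and_assoc]
  congr 3
  exact Bool.eq_iff_iff.2 (by rw [Nat.blt_eq, decide_eq_true_eq])

/-- the base and the packed columns -/
def wB (nd : Nd) (k : ℕ → List ℤ → Bool) : Bool := fN nd.B.toNat fun B => decide (nd.B = B) && k B (XF nd B)

theorem wB_spec {nd : Nd} {k : ℕ → List ℤ → Bool} (h : wB nd k = true) : ∃ B : ℕ, nd.B = B ∧ k B nd.XP = true := by
  rw [wB, fN_eq, Bool.and_eq_true, decide_eq_true_eq] at h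
  exact ⟨_, h.1, XF_eq h.1 ▸ h.2⟩

def hP (B : ℕ) (a : List ℤ) : List ℤ → ℕ :=
  List.rec (fun _ => 0) (fun x _ ih y => List.casesOn y 0 fun z y' => Nat.add (Int.casesOn x
    (fun n => Int.casesOn z (Nat.mul n) fun _ => 0)
    fun n => Int.casesOn z (fun _ => 0) fun m => Nat.mul (Nat.succ n) (Nat.succ m)) (Nat.mul B (ih y'))) a

def hN (B : ℕ) (a : List ℤ) : List ℤ → ℕ :=
  List.rec (fun _ => 0) (fun x _ ih y => List.casesOn y 0 fun z y' => Nat.add (Int.casesOn x
    (fun n => Int.casesOn z (fun _ => 0) fun m => Nat.mul n (Nat.succ m))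
    fun n => Int.casesOn z (Nat.mul (Nat.succ n)) fun _ => 0) (Nat.mul B (ih y'))) a

theorem hk_eq (B : ℕ) (a y : List ℤ) : Int.subNatNat (hP B a y) (hN B a y) = pkz B (List.zipWith (fun a x => a * x) a y) ∧
    sumAbs (List.zipWith (fun a x => a * x) a y) ≤ sumAbs a * sumAbs y := by
  rw [Int.subNatNat_eq_coe]
  induction a generalizing y with
  | nil => exact ⟨rfl, Nat.zero_le _⟩
  | cons x a ih =>
    rcases y with _ | ⟨z, y⟩
    · exact ⟨rfl, Nat.zero_le _⟩
    obtain ⟨h1, h2⟩ := ih y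
    constructor
    · show _ = x * z + B * pkz B (List.zipWith (fun a x => a * x) a y)
      rw [← h1]
      rcases x with n | n <;> rcases z with m | m
      · show ((n * m + B * hP B a y : ℕ) : ℤ) - (0 + B * hN B a y : ℕ) = n * m + _
        push_cast; ring
      · show ((0 + B * hP B a y : ℕ) : ℤ) - (n * (m + 1) + B * hN B a y : ℕ) = n * _ + _
        rw [Int.negSucc_eq]; push_cast; ring
      · show ((0 + B * hP B a y : ℕ) : ℤ) - ((n + 1) * m + B * hN B a y : ℕ) = _ * m + _
        rw [Int.negSucc_eq]; push_cast; ring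
      · show (((n + 1) * (m + 1) + B * hP B a y : ℕ) : ℤ) - (0 + B * hN B a y : ℕ) = _
        rw [Int.negSucc_eq, Int.negSucc_eq]; push_cast; ring
    · show (x * z).natAbs + sumAbs _ ≤ (x.natAbs + sumAbs a) * (z.natAbs + sumAbs y)
      rw [Int.natAbs_mul, add_mul, mul_add, mul_add]
      omega

def dot1 (row : List ℕ) (XP : List ℤ) : ℤ :=
  List.rec 0 (fun x _ ih => fN (Nat.mod x 256) fun j => Int.add (nth 0 XP j) ih) row

def rowL (nd : Nd) (B : ℕ) (XP : List ℤ) (lev : List ℤ) (row : List ℕ) (x : List ℤ) : Bool :=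
  row.all (fun x => Nat.blt (Nat.mod x 256) nd.K) && Nat.blt (row.length * nd.b + sA lev * sA x) B &&
    decide (dot1 row XP = Int.subNatNat (hP B lev x) (hN B lev x))

theorem rowL_sound {nd : Nd} {B : ℕ} (hB : nd.B = B) {XP lev x : List ℤ} {row : List ℕ} (hl : lev.length = nd.K)
    (h : rowL nd B XP lev row x = true) :
    nd.lin XP (row.map fun x => (1, Nat.mod x 256)) (List.zipWith (fun a x => a * x) lev x) = true := by
  have h0 : sumAbs ((row.map fun x => ((1 : ℤ), Nat.mod x 256)).map fun p => p.1) = row.length ∧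
      dotP (row.map fun x => ((1 : ℤ), Nat.mod x 256)) (nth 0 XP) = dot1 row XP := by
    clear h
    induction row with
    | nil => exact ⟨rfl, rfl⟩
    | cons y row ih =>
      exact ⟨(congrArg (1 + ·) ih.1).trans (add_comm _ _), (congrArg₂ (· + ·) (one_mul _) ih.2).trans
        (fN_eq _ fun j => Int.add (nth 0 XP j) (dot1 row XP)).symm⟩
  simp only [rowL, sA_eq, (hk_eq B lev x).1, Bool.and_eq_true, Nat.blt_eq, decide_eq_true_eq] at h
  delta Nd.lin linP
  rw [h0.1, h0.2, hB, List.all_map, List.length_zipWith, hl]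
  simp only [Bool.and_eq_true, Nat.ble_eq, decide_eq_true_eq, Nat.cast_lt]
  exact ⟨⟨⟨h.1.1, min_le_left _ _⟩, (Nat.add_le_add_left (hk_eq B lev x).2 _).trans_lt h.1.2⟩, h.2⟩

def rowsL (nd : Nd) (B : ℕ) (XP : List ℤ) (c : Cs) (rows : List (List ℕ)) : ℕ → Bool :=
  List.rec (fun _ => true) (fun row _ ih k => fN k fun k => rowL nd B XP c.lev row (nth [] nd.XC k) && ih (Nat.succ k)) rows

def upF (nd : Nd) (B : ℕ) (XP : List ℤ) (o m m' : ℕ) (rows : List (List ℕ)) : Bool :=
  (fun c : Cs => cjS nd 264 c.tl rows m && (decide (c.lev.length = nd.K) && Nat.ble m' (m + rows.length) &&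
    rowsL nd B XP c rows m)) (nth ⟨[], [], [], []⟩ nd.cas o)

theorem upF_sound {nd : Nd} {B o m m' : ℕ} {rows : List (List ℕ)} (hB : nd.B = B) (H : upF nd B nd.XP o m m' rows = true) :
    nd.upOK o m m' rows = true := by
  obtain ⟨h, H'⟩ := Bool.and_eq_true_iff.1 H
  clear H
  rw [Bool.and_eq_true, Bool.and_eq_true] at H'
  refine Bool.and_eq_true_iff.2 ⟨?_, H'.1.2⟩
  obtain ⟨⟨h1, -⟩, h2⟩ := H'
  replace h := cjS_sound h
  induction rows generalizing m with
  | nil => rfl
  | cons r rows ih =>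
    have h3 := Bool.and_eq_true_iff.1 h
    replace h2 : (fN m fun k => rowL nd B nd.XP (nth ⟨[], [], [], []⟩ nd.cas o).lev r (nth [] nd.XC k) &&
      rowsL nd B nd.XP (nth ⟨[], [], [], []⟩ nd.cas o) rows (Nat.succ k)) = true := h2
    rw [fN_eq] at h2
    have h4 := Bool.and_eq_true_iff.1 h2
    exact Bool.and_eq_true_iff.2 ⟨Bool.and_eq_true_iff.2 ⟨Bool.and_eq_true_iff.2
      ⟨h3.1, rowL_sound hB (of_decide_eq_true h1) h4.1⟩, h1⟩, ih h4.2 h3.2⟩

theorem up_of {nd : Nd} {o m m' : ℕ} {rows : List (List ℕ)} (H : (wB nd fun B XP => upF nd B XP o m m' rows) = true) :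
    nd.upOK o m m' rows = true :=
  have ⟨_, hB, h⟩ := wB_spec H
  upF_sound hB h

/-! ### the roots -/

def memF (γ : List ℤ) (c : ℕ) (L : List (ℕ × List ℤ)) : Bool :=
  List.rec false (fun p _ ih => cond (Nat.beq p.1 c) (eqL γ p.2) ih) L

theorem memF_sound {γ : List ℤ} {c : ℕ} {f : List ℤ → ℕ} {L : List (List ℤ)} (h : memF γ c (L.map fun β => (f β, β)) = true) :
    γ ∈ L := by
  induction L with
  | nil => exact nomatch h
  | cons β L ih =>
    have h1 : cond (Nat.beq (f β) c) (eqL γ β) (memF γ c (L.map fun β => (f β, β))) = true := h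
    cases e : Nat.beq (f β) c <;> rw [e] at h1
    exacts [List.mem_cons_of_mem _ (ih h1), eqL_eq h1 ▸ List.mem_cons_self]

def rootF (r : ℕ) (AL : List (List ℤ)) (RL : List (List ℤ)) : Bool :=
  (fun C : List (ℕ × List ℤ) => RL.all fun β => decide (β.length = r) && decide ((sumLt r fun i => nth 0 β i).natAbs < 64) &&
    allLt r fun j => fZ (rfl' r AL j β) fun γ => fN (pkP 61 γ) (fun c => memF γ c C) || decide (γ = β.map fun x => -x))
    (RL.map fun β => (pkP 61 β, β)) &&
  allLt r fun i => decide ((List.replicate r 0).set i 1 ∈ RL)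

theorem root_of {r : ℕ} {AL RL : List (List ℤ)} (h : rootF r AL RL = true) : rootOK r AL RL = true := by
  obtain ⟨h1, h2⟩ := Bool.and_eq_true_iff.1 h
  refine Bool.and_eq_true_iff.2 ⟨List.all_eq_true.2 fun β hβ => ?_, h2⟩
  obtain ⟨h4, h5⟩ := Bool.and_eq_true_iff.1 (List.all_eq_true.1 h1 β hβ)
  refine Bool.and_eq_true_iff.2 ⟨h4, allLt_iff.2 fun j hj => ?_⟩
  have h6 := allLt_iff.1 h5 j hj
  rw [fZ_eq, fN_eq, Bool.or_eq_true] at h6
  exact Bool.or_eq_true_iff.2 (h6.imp (fun h => decide_eq_true (memF_sound h)) id)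

def baseF (nd : Nd) (B : ℕ) (XP : List ℤ) : Bool :=
  rootF nd.r nd.AL nd.RL && orthF nd B XP &&
    (decide (nd.r ≤ 16) && tabOK nd.r nd.r nd.AL id nd.tab && tabOK nd.r nd.r nd.AL nd.toTy.σ nd.tbs &&
      decide ((nd.n0 : ℤ) = sumLt nd.r fun a => 65 * 256 ^ a) && (Nat.blt 0 nd.K && decide (nd.e 0 = 1) &&
      allLt nd.K (fun k => Nat.beq (nth 0 nd.cod k) (run nd.tab (nd.e k) nd.n0) && decide (nd.X 0 k = 1)) &&
      decide (nd.XC.length = nd.K) && nd.XC.all (fun c => Nat.ble c.length nd.K && bd nd.b c) &&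
      nd.cas.all (fun c => csOK nd.toTy c && decide (nth 0 c.lev 0 = c.tl.length)) &&
      allLt nd.r (fun i => nd.cas.any fun c => decide (i ∈ c.cm)) &&
      allLt nd.K (fun φ => decide (φ = 0) || nd.cas.any fun c => decide (nth 0 c.lev φ ≠ c.tl.length))))

theorem baseF_sound {nd : Nd} {B : ℕ} (hB : nd.B = B) (h : baseF nd B nd.XP = true) : nd.base = true := by
  obtain ⟨h1, h3⟩ := Bool.and_eq_true_iff.1 h
  obtain ⟨h1, h2⟩ := Bool.and_eq_true_iff.1 h1
  delta Nd.base Ty.ok
  simp only [bd_eq, Bool.and_eq_true] at h3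
  rw [root_of h1, orth_of B hB (by simpa only [List.all_eq_true, Bool.and_eq_true, Nat.ble_eq] using h3.2.1.1.1.2) h2]
  simpa only [Bool.and_eq_true, and_assoc, and_true, true_and] using h3

theorem base_of {nd : Nd} (H : wB nd (baseF nd) = true) : nd.base = true :=
  have ⟨_, hB, h⟩ := wB_spec H
  baseF_sound hB h

theorem good_of {nd : Nd} (cert : List (List (List ℕ))) (H : (wB nd fun B XP => baseF nd B XP &&
    allLt nd.cas.length fun o => upF nd B XP o 0 nd.K (nth [] cert o)) = true) : nd.Good := by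
  obtain ⟨B, hB, h⟩ := wB_spec H
  rw [Bool.and_eq_true, allLt_iff] at h
  exact ⟨baseF_sound hB h.1, fun o ho => (Nd.Up.zero nd o).step _ (upF_sound hB (h.2 o ho))⟩

/-! ### forms -/

def cxF (nd : Nd) (B : ℕ) (XP : List ℤ) (p : List (ℤ × ℕ) × ℤ) (q : List ℤ × ℤ) : Bool :=
  (fun m => decide (m ≠ 0) && decide (p.2 = m * q.2) && (p.1.all (fun p => Nat.blt p.2 nd.K) && Nat.ble q.1.length nd.K &&
    Nat.blt (List.rec 0 (fun p _ ih => Nat.add p.1.natAbs ih) p.1 * nd.b + m.natAbs * sA q.1) B &&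
    decide (dotF p.1 XP = Int.mul m (Int.subNatNat (pkP B q.1) (pkN B q.1))))) (p.2 / q.2)

theorem cx_eq {nd : Nd} {B : ℕ} (hB : nd.B = B) : cxF nd B = cx nd := by
  have h1 : ∀ (m : ℤ) (l : List ℤ), sumAbs (l.map fun x => m * x) = m.natAbs * sumAbs l ∧
      pkz B (l.map fun x => m * x) = Int.mul m (pkz B l) := fun m l => by
    induction l with
    | nil => exact ⟨rfl, (mul_zero m).symm⟩
    | cons a l ih =>
      refine ⟨(congrArg₂ (· + ·) (Int.natAbs_mul m a) ih.1).trans (mul_add _ _ _).symm, ?_⟩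
      show m * a + B * pkz B (l.map fun x => m * x) = m * (a + B * pkz B l)
      rw [ih.2, mul_add, Int.mul_def, mul_left_comm]
  have h2 : ∀ ps : List (ℤ × ℕ), sumAbs (ps.map fun p => p.1) = List.rec 0 (fun p _ ih => Nat.add p.1.natAbs ih) ps :=
    fun ps => by
      induction ps with
      | nil => rfl
      | cons p ps ih => exact congrArg (Nat.add _) ih
  funext XP p q
  delta cxF cx
  rw [← lin_eq hB]
  simp only [linF, fZ_eq, sA_eq, pk_eq, h1, h2, List.length_map, Bool.and_assoc]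

theorem ofC_of {nd : Nd} {L : List (List (ℤ × ℕ) × ℤ)} {L' : List (List ℤ × ℤ)}
    (H : (wB nd fun B XP => all2 (cxF nd B XP) L L') = true) : all2 (cx nd nd.XP) L L' = true :=
  have ⟨_, hB, h⟩ := wB_spec H
  cx_eq hB ▸ h

theorem ofX_of {nd : Nd} {L : List (List ℤ × ℤ)} {L' : List (List (ℤ × ℕ) × ℤ)}
    (H : (wB nd fun B XP => all2 (fun q p => cxF nd B XP p q) L L') = true) :
    all2 (fun q p => cx nd nd.XP p q) L L' = true :=
  have ⟨_, hB, h⟩ := wB_spec H
  cx_eq hB ▸ h

/-- `c v + y` -/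
def axp (c : ℤ) (v : List ℤ) : List ℤ → List ℤ :=
  List.rec (fun y => y) (fun x v' ih y => List.casesOn y ((x :: v').map fun x => c * x) fun z y' =>
    Int.add (Int.mul c x) z :: ih y') v

theorem nth_axp (c : ℤ) (v y : List ℤ) (j : ℕ) : nth 0 (axp c v y) j = c * nth 0 v j + nth 0 y j := by
  induction v generalizing y j with
  | nil => exact ((congrArg (· + _) (mul_zero c)).trans (zero_add _)).symm
  | cons x v ih => cases y with
    | nil => exact (nth_map_mul c _ j).trans (add_zero _).symm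
    | cons z y => cases j with
      | zero => rfl
      | succ j => exact ih y j

def lc (L : List (List ℤ × ℤ)) (cf : List (ℤ × ℕ)) : List ℤ :=
  List.rec [] (fun p _ ih => fN p.2 fun j => axp p.1 (nth ([], 0) L j).1 ih) cf

theorem nth_lc (L : List (List ℤ × ℤ)) (cf : List (ℤ × ℕ)) (φ : ℕ) : nth 0 (lc L cf) φ =
    List.rec 0 (fun p _ ih => p.1 * nth 0 p.2 φ + ih) (cf.map fun p => (p.1, (nth ([], 0) L p.2).1)) := by
  induction cf with
  | nil => rfl
  | cons p cf ih =>
    show nth 0 (fN p.2 fun j => axp p.1 (nth ([], 0) L j).1 (lc L cf)) φ = _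
    rw [fN_eq, nth_axp, ih]
    rfl

/-- comparison of two lists under a mask -/
def cmpM (m : ℤ) (mk : List Bool) : List ℤ → List ℤ → Bool :=
  List.rec (fun _ _ => true) (fun b _ ih l l' =>
    cond b (decide (m * l.headD 0 = l'.headD 0)) (decide (l.headD 0 = 0)) && ih l.tail l'.tail) mk

theorem cmpM_spec {m : ℤ} {mk : List Bool} {l l' : List ℤ} (h : cmpM m mk l l' = true) {i : ℕ} (hi : i < mk.length) :
    cond (nth false mk i) (decide (m * nth 0 l i = nth 0 l' i)) (decide (nth 0 l i = 0)) = true := by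
  induction mk generalizing l l' i with
  | nil => exact absurd hi (Nat.not_lt_zero i)
  | cons b mk ih =>
    have h1 : (cond b (decide (m * l.headD 0 = l'.headD 0)) (decide (l.headD 0 = 0)) && cmpM m mk l.tail l'.tail) = true := h
    rw [Bool.and_eq_true] at h1
    cases i with
    | zero => cases l <;> cases l' <;> exact h1.1
    | succ i =>
      have h2 := ih h1.2 (Nat.lt_of_succ_lt_succ hi)
      cases l <;> cases l' <;> exact h2

def mskL (nd : Nd) (msk : List (ℕ × ℤ)) : List Bool :=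
  List.rec (List.replicate nd.K true) (fun p _ ih =>
    List.zipWith (fun a b => decide (a = p.2) && b) (nth ⟨[], [], [], []⟩ nd.cas p.1).lev ih) msk

theorem mskL_spec {nd : Nd} {msk : List (ℕ × ℤ)} {i : ℕ} (hi : i < (mskL nd msk).length) :
    nth false (mskL nd msk) i = nd.inm msk i := by
  induction msk with
  | nil =>
    rw [nth_eq, List.getD_eq_getElem _ _ hi]; exact List.getElem_replicate ..
  | cons p msk ih =>
    have e : mskL nd (p :: msk) = List.zipWith (fun a b => decide (a = p.2) && b)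
      (nth ⟨[], [], [], []⟩ nd.cas p.1).lev (mskL nd msk) := rfl
    have h1 := hi
    rw [e, List.length_zipWith, lt_min_iff] at h1
    show _ = (decide (nd.lv p.1 i = p.2) && nd.inm msk i)
    rw [← ih h1.2, Nd.lv, nth_eq false, nth_eq false, nth_eq 0, List.getD_eq_getElem _ _ hi,
      List.getD_eq_getElem _ _ h1.1, List.getD_eq_getElem _ _ h1.2]
    exact List.getElem_zipWith ..

def derOK' (nd : Nd) (L : List (List ℤ × ℤ)) (d : Der) (q : List ℤ × ℤ) : Bool :=
  decide (d.m ≠ 0) && d.msk.all (fun p => Nat.blt p.1 nd.cas.length) &&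
  d.cf.all (fun p => Nat.blt p.2 L.length && decide (p.1 * (nth ([], 0) L p.2).2 % (d.m * q.2) = 0)) &&
  (Nat.beq (mskL nd d.msk).length nd.K && cmpM d.m (mskL nd d.msk) q.1 (lc L d.cf))

theorem derOK_of {nd : Nd} {L : List (List ℤ × ℤ)} {d : Der} {q : List ℤ × ℤ} (h : derOK' nd L d q = true) :
    derOK nd L d q = true := by
  rw [derOK', Bool.and_eq_true, Bool.and_eq_true (Nat.beq _ _), Nat.beq_eq] at h
  rw [derOK, Bool.and_eq_true]
  refine ⟨h.1, allLt_iff.2 fun φ hφ => ?_⟩
  have h1 := cmpM_spec h.2.2 (h.2.1 ▸ hφ)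
  rwa [mskL_spec (h.2.1 ▸ hφ), nth_lc] at h1

theorem comb_of {nd : Nd} {L : List (List ℤ × ℤ)} {ds : List Der} {L' : List (List ℤ × ℤ)}
    (hc : all2 (derOK' nd L) ds L' = true) : all2 (derOK nd L) ds L' = true :=
  all2_iff.2 ((all2_iff.1 hc).imp fun _ _ => derOK_of)

def invOK' (nd : Nd) (L : List (List ℤ × ℤ)) (R : List (ℤ × List (ℤ × ℕ))) : Bool :=
  Nat.beq L.length nd.K && L.all (fun c => Nat.ble c.1.length nd.K && bd 4294967296 c.1) &&
  (fun XP : List ℤ => allLt nd.K fun φ => (fun q : ℤ × List (ℤ × ℕ) => decide (q.1 ≠ 0) && (q.2.all (fun p => Nat.blt p.2 nd.K) &&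
    Nat.blt (sumAbs (q.2.map fun p => p.1) * 4294967296 + q.1.natAbs) (2 ^ 96) &&
    decide (dotF q.2 XP = q.1 * (2 ^ (96 * φ) : ℕ)))) (nth (0, []) R φ)) (L.map fun c => Int.subNatNat (sP 96 c.1) (sN 96 c.1))

theorem invOK_of {nd : Nd} {L : List (List ℤ × ℤ)} {R : List (ℤ × List (ℤ × ℕ))} (h : invOK' nd L R = true) :
    invOK nd L R = true := by
  simp only [invOK', bd_eq, sk_eq, Bool.and_eq_true, Nat.beq_eq, allLt_iff] at h
  obtain ⟨⟨h1, h2⟩, h3⟩ := h
  refine allLt_iff.2 fun φ hφ => ?_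
  obtain ⟨h4, ⟨h5, h6⟩, h7⟩ := h3 φ hφ
  generalize nth (0, []) R φ = q at h4 h5 h6 h7
  have h8 := (linP_spec (XC := L.map fun c => c.1) (K := nd.K) (b := 4294967296) (B := (2 ^ 96 : ℕ)) (ps := q.2)
    (l := Nd.unit φ q.1) ((List.length_map _).trans h1)
    (by simpa only [List.forall_mem_map, List.all_eq_true, Bool.and_eq_true, Nat.ble_eq] using h2) ?_).2
  · refine Bool.and_eq_true_iff.2 ⟨Bool.and_eq_true_iff.2 ⟨h4, h1 ▸ h5⟩, allLt_iff.2 fun φ' hφ' => decide_eq_true ?_⟩
    rw [← Nd.nth_unit, ← h8 φ' hφ']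
    generalize q.2 = ps
    induction ps with
    | nil => rfl
    | cons p ps ih =>
      rw [List.map_cons, List.map_cons, List.sum_cons, ← ih]
      refine congrArg (fun l => p.1 * nth 0 l φ' + _) ?_
      rw [nth_eq, nth_eq]
      exact (List.getD_map L ([], 0) fun c => c.1).symm
  · delta linP
    rw [h5, (unit_eq ((2 ^ 96 : ℕ) : ℤ) _ _).1, (unit_eq 0 _ _).2, List.map_map, ← Nat.cast_pow, ← pow_mul]
    simp only [Bool.and_eq_true, Nat.ble_eq, decide_eq_true_eq, Nat.cast_lt, true_and]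
    refine ⟨⟨(List.length_append.trans (congrArg (· + 1) List.length_replicate)).trans_le hφ, Nat.blt_eq ▸ h6⟩, ?_⟩
    refine Eq.trans ?_ (of_decide_eq_true h7)
    delta dotF dotP
    simp only [fN_eq]
    rfl

end Fs

end Cfsg.Agent.LV.W
end

private theorem dce_7a6c59ef4ae4 : _root_.True := by
  try have : _root_.True := by simp only [_root_.Cfsg.Agent.LV.W.wd.eq_1]
  try have : _root_.True := by simp only [_root_.Cfsg.Agent.LV.W.embOK.eq_1]
  try have : _root_.True := by simp only [_root_.Cfsg.Agent.LV.W.run.eq_1]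
  try have : _root_.True := by simp only [_root_.Cfsg.Agent.LV.W.derOK.eq_1]
  try have : _root_.True := by simp only [_root_.Cfsg.Agent.LV.W.cx.eq_1]
  try have : _root_.True := by simp only [_root_.Cfsg.Agent.LV.W.Nd.inm.eq_1]
  try have : _root_.True := by simp only [_root_.Cfsg.Agent.LV.W.Lat.val.eq_1]
  try have : _root_.True := by simp only [_root_.Cfsg.Agent.LV.W.entOK.eq_1]
  try have : _root_.True := by simp only [_root_.Cfsg.Agent.LV.W.clsOK.eq_1]
  try have : _root_.True := by simp only [_root_.Cfsg.Agent.LV.W.fitOK.eq_1]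
  try have : _root_.True := by simp only [_root_.Cfsg.Agent.LV.W.coz.eq_1]
  exact _root_.True.intro
end

-- part: LV/W/N3
section
prune_inst 0x80000000000000c010000
set_option linter.all false

/-! LV/W: generated data (helper25) -/

set_option autoImplicit false
set_option maxRecDepth 100000

namespace Cfsg.Agent.LV.W

/-- decoding of an entry -/
def unE (n : ℕ) : ℕ × List ℕ :=
  (n / 16 ^ (n % 16 + 1), (List.range (n % 16)).map fun i => n / 16 ^ (i + 1) % 16)

noncomputable def T0 : Nd where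
  r := 0
  AL := []
  sg := []
  tab := 0x0
  tbs := 0x0
  n0 := 0x0
  RL := (List.map (unz 1) [])
  K := 1
  rep := (unp 1 0x3)
  cod := (unp 1 0x1)
  nW := (unz 2 0xa)
  XC := (List.map (unz 2) [0xa])
  nu := (unz 2 0xa)
  b := 1
  B := 0x20000000000
  cas := []

theorem T0_good : T0.Good := Nd.good_of_full
    []
    (by decide +kernel)

noncomputable def T0_bas : List (List ℤ × ℤ) :=
    (List.map (fun l => (l, 1)) (List.map (unz 2) [0xa]))

noncomputable def T0_inv : List (ℤ × List (ℤ × ℕ)) :=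
    (List.zip (unz 2 0xa) (List.map (unv 2) [0x1a]))

theorem T0_gen : FX T0
    (List.map (fun l => (l, 1)) (List.map (unz 2) [0xa])) :=
  FX.ofC T0_good
    (FC.delta T0 [0])
    _ (by decide +kernel)

theorem T0_fx : FX T0 T0_bas := FX.comb T0_good T0_gen (List.zipWith (fun a b => ⟨a, b, 1⟩)
    (List.map (fun n => List.map Prod.swap (unv 4 n)) [0x0])
    (List.map (unv 2) [0x1a]))
    _ (by decide +kernel)

theorem T0_io : invOK T0 T0_bas T0_inv = true := by decide +kernel

noncomputable def T0_L : Lat := ⟨T0, T0_bas, T0_inv⟩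

theorem T0_ok : T0_L.Ok := ⟨T0_good, T0_fx, T0_io⟩

noncomputable def A1 : Nd where
  r := 1
  AL := [[2]]
  sg := [0]
  tab := 0xfffffffffffffffffffffffffffffffe00
  tbs := 0xfffffffffffffffffffffffffffffffe00
  n0 := 0x41
  RL := (List.map (unz 2) [0xa])
  K := 2
  rep := (unp 3 0x859)
  cod := (unp 3 0x7fa0f)
  nW := (unz 2 0xaa)
  XC := (List.map (unz 2) [0xaa, 0x5a])
  nu := (unz 2 0x273)
  b := 1
  B := 0x40000000000
  cas := [⟨[0], [0], (unp 3 0x85), (unz 2 0x5a)⟩]

theorem A1_good : A1.Good := Nd.good_of_full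
    [(List.map (unp 4) [0x1019, 0x1009])]
    (by decide +kernel)

noncomputable def A1_bas : List (List ℤ × ℤ) :=
    (List.map (fun l => (l, 1)) (List.map (unz 2) [0x1a, 0x51]))

noncomputable def A1_inv : List (ℤ × List (ℤ × ℕ)) :=
    (List.zip (unz 2 0xaa) (List.map (unv 2) [0x1a, 0x5a]))

noncomputable def A1_cf : List (List (ℤ × ℕ) × ℤ) :=
    (List.zip (List.map (unv 2) [0x2d1a, 0x169a]) (unz 2 0x273))

theorem A1_gen : FX A1
    (List.map (fun l => (l, 1)) (List.map (unz 2) [0xaa])) :=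
  FX.ofC A1_good
    (FC.delta A1 [0])
    _ (by decide +kernel)

theorem A1_fx : FX A1 A1_bas := FX.comb A1_good A1_gen (List.zipWith (fun a b => ⟨a, b, 1⟩)
    (List.map (fun n => List.map Prod.swap (unv 4 n)) [0x62, 0x31])
    (List.map (unv 2) [0x1a, 0x1a]))
    _ (by decide +kernel)

theorem A1_io : invOK A1 A1_bas A1_inv = true := by decide +kernel

theorem A1_fc : FC A1 A1_cf := FC.ofX A1_good A1_fx _ (by decide +kernel)

noncomputable def A1_L : Lat := ⟨A1, A1_bas, A1_inv⟩

theorem A1_ok : A1_L.Ok := ⟨A1_good, A1_fx, A1_io⟩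

noncomputable def G2 : Nd where
  r := 2
  AL := [[2, -3], [-1, 2]]
  sg := [0, 1]
  tab := 0xfffffffffffffffffffffffffffffe0108000000000000000000000000000002fe00
  tbs := 0xfffffffffffffffffffffffffffffe0108000000000000000000000000000002fe00
  n0 := 0x4141
  RL := (List.map (unz 2) [0x1a, 0x51, 0xaa, 0x15b, 0x153, 0x27b])
  K := 6
  rep := (unp 5 0x808080e6202118826058961)
  cod := (unp 4 0x3f3feed0bbc43e887fffa174141f)
  nW := (unz 2 0xa9cf7ba)
  XC := (List.map (unz 2) [0x273aaaa, 0x26daa, 0x26d5a, 0x16aada, 0x2daaaa, 0x4faada])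
  nu := (unz 3 0xc5c5c5c5c5c5)
  b := 2
  B := 0x400000000000
  cas := [⟨[0, 1], [1, 0, 1, 0, 1, 0], (unp 5 0x816020d8080856202035880b625), (unz 3 0x46e08e4)⟩]

theorem G2_good : G2.Good := Nd.good_of_full
    [(List.map (unp 5) [0x8126002d8081462003188136029, 0x801b6008d82a608981a6009, 0x8026006d802360a98226069,
    0x800b6020518800c6204d80a6049, 0x80814620031881360298126002d, 0x8800c6204d80a6049800b602051])]
    (by decide +kernel)

noncomputable def G2_bas : List (List ℤ × ℤ) :=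
    (List.map (fun l => (l, 1)) (List.map (unz 2) [0x1249a, 0x126d1, 0x154689, 0xb4689, 0x154d51, 0x13449]))

noncomputable def G2_inv : List (ℤ × List (ℤ × ℕ)) :=
    (List.zip (unz 3 0x479259e72) (List.map (unv 2) [0x1a, 0x13aeab3, 0x4ebaad, 0x17a, 0x27dd55bb3, 0x75aa]))

noncomputable def G2_cf : List (List (ℤ × ℕ) × ℤ) :=
    (List.zip (List.map (unv 3) [0xae51c7a8e59ce632, 0x25332, 0x5731eb5a967358d4, 0x2b991c7a8e59cd632,
    0x5728e3d7632, 0xae51c7a8e55cd632]) (unz 3 0x18b9317163c5))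

theorem G2_gen : FX G2
    (List.map (fun l => (l, 1)) (List.map (unz 2) [0x26daa, 0x16aada, 0x2a8d1a, 0xaa69a])) :=
  FX.ofC G2_good
    (FC.append (FC.delta G2 [1, 3])
    (FC.append (FC.ind G2_good A1_good (FC.pick A1_fc [0] (by decide +kernel)) ⟨[0], 0x2fe00, 0x1, (unp 4
    0x2053009)⟩ (by decide +kernel))
    (FC.ind G2_good A1_good (FC.pick A1_fc [0] (by decide +kernel)) ⟨[0], 0x2fe00, 0x110101, (unp 5 0x82a620031)⟩
    (by decide +kernel))))
    _ (by decide +kernel)

theorem G2_fx : FX G2 G2_bas := FX.comb G2_good G2_gen (List.zipWith (fun a b => ⟨a, b, 1⟩)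
    (List.map (fun n => List.map Prod.swap (unv 4 n)) [0x1c4, 0x21, 0x21, 0x21, 0x21, 0x1b4])
    (List.map (unv 2) [0x1a, 0x1a, 0xaa, 0x75, 0x2d, 0xd]))
    _ (by decide +kernel)

theorem G2_io : invOK G2 G2_bas G2_inv = true := by decide +kernel

noncomputable def G2_L : Lat := ⟨G2, G2_bas, G2_inv⟩

theorem G2_ok : G2_L.Ok := ⟨G2_good, G2_fx, G2_io⟩

noncomputable def G2_10 : Nd where
  r := 2
  AL := [[2, -3], [-1, 2]]
  sg := [1, 0]
  tab := 0xfffffffffffffffffffffffffffffe0108000000000000000000000000000002fe00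
  tbs := 0x2fe00fffffffffffffffffffffffffffffe0108
  n0 := 0x4141
  RL := (List.map (unz 2) [0x1a, 0x51, 0xaa, 0x15b, 0x153, 0x27b])
  K := 4
  rep := (unp 5 0x88080d6202d8961)
  cod := (unp 4 0x1e20f7687dfa174141f)
  nW := (unz 3 0x11c71e4)
  XC := (List.map (unz 2) [0x9aa, 0x555a, 0x38da, 0x2ada])
  nu := (unz 3 0x62c4c5c5)
  b := 2
  B := 0x400000000000
  cas := [⟨[0, 1], [1, 0, 1, 0, 1, 0], (unp 5 0x816020d8080856202035880b625), (unz 3 0x46e64)⟩]

theorem G2_10_good : G2_10.Good := Nd.good_of_full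
    [(List.map (unp 5) [0x800b6004d801b60698126029, 0x800360201180800562001188036009,
    0x808046020015880046200d8026000d, 0x808005620011880360098003602011])]
    (by decide +kernel)

noncomputable def G2_10_bas : List (List ℤ × ℤ) :=
    (List.map (fun l => (l, 1)) (List.map (unz 2) [0x49a, 0x4d1, 0x2a89, 0x2649]))

noncomputable def G2_10_inv : List (ℤ × List (ℤ × ℕ)) :=
    (List.zip (unz 2 0x273aa) (List.map (unv 2) [0x1a, 0x5a, 0xeb53, 0xea]))

noncomputable def G2_10_cf : List (List (ℤ × ℕ) × ℤ) :=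
    (List.zip (List.map (unv 2) [0x75555a3b, 0xeb56d3b, 0x3ad5b3, 0x75575a]) (unz 3 0x33cf264))

theorem G2_10_gen : FX G2_10
    (List.map (fun l => (l, 1)) (List.map (unz 2) [0x555a, 0x38da])) :=
  FX.ofC G2_10_good
    (FC.delta G2_10 [1, 2])
    _ (by decide +kernel)

theorem G2_10_fx : FX G2_10 G2_10_bas := FX.comb G2_10_good G2_10_gen (List.zipWith (fun a b => ⟨a, b, 1⟩)
    (List.map (fun n => List.map Prod.swap (unv 4 n)) [0x1c4, 0x1b4, 0x21, 0x21])
    (List.map (unv 2) [0x1a, 0xd, 0x1a, 0x2d]))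
    _ (by decide +kernel)

theorem G2_10_io : invOK G2_10 G2_10_bas G2_10_inv = true := by decide +kernel

noncomputable def G2_10_L : Lat := ⟨G2_10, G2_10_bas, G2_10_inv⟩

theorem G2_10_ok : G2_10_L.Ok := ⟨G2_10_good, G2_10_fx, G2_10_io⟩

noncomputable def B2_10 : Nd where
  r := 2
  AL := [[2, -1], [-2, 2]]
  sg := [1, 0]
  tab := 0xfffffffffffffffffffffffffffffe0208000000000000000000000000000000fe00
  tbs := 0xfe00fffffffffffffffffffffffffffffe0208
  n0 := 0x4141
  RL := (List.map (unz 2) [0x1a, 0x51, 0x13a, 0xaa])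
  K := 3
  rep := (unp 4 0x440762b1)
  cod := (unp 4 0x7c83dfa1f4141f)
  nW := (unz 3 0x471c4)
  XC := (List.map (unz 2) [0x1aa, 0x55a, 0x2da])
  nu := (unz 3 0x448585)
  b := 1
  B := 0x100000000000
  cas := [⟨[0, 1], [1, 0, 1, 0], (unp 4 0x82c0436203b15), (unz 3 0x3dc4)⟩]

theorem B2_10_good : B2_10.Good := Nd.good_of_full
    [(List.map (unp 5) [0x800b6004d8126029, 0x800360201188036009, 0x808046200d8026000d])]
    (by decide +kernel)

noncomputable def B2_10_bas : List (List ℤ × ℤ) :=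
    (List.map (fun l => (l, 1)) (List.map (unz 2) [0x9a, 0xd1, 0x289]))

noncomputable def B2_10_inv : List (ℤ × List (ℤ × ℕ)) :=
    (List.zip (unz 2 0xaaa) (List.map (unv 2) [0x1a, 0x5a, 0xaa]))

noncomputable def B2_10_cf : List (List (ℤ × ℕ) × ℤ) :=
    (List.zip (List.map (unv 2) [0x555a33, 0x156d33, 0x2ada]) (unz 3 0x8e244))

theorem B2_10_gen : FX B2_10
    (List.map (fun l => (l, 1)) (List.map (unz 2) [0x1aa, 0x55a])) :=
  FX.ofC B2_10_good
    (FC.delta B2_10 [0, 1])
    _ (by decide +kernel)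

theorem B2_10_fx : FX B2_10 B2_10_bas := FX.comb B2_10_good B2_10_gen (List.zipWith (fun a b => ⟨a, b, 1⟩)
    (List.map (fun n => List.map Prod.swap (unv 4 n)) [0x184, 0xf3, 0x21])
    (List.map (unv 2) [0x1a, 0x1a, 0x5a]))
    _ (by decide +kernel)

theorem B2_10_io : invOK B2_10 B2_10_bas B2_10_inv = true := by decide +kernel

theorem B2_10_fc : FC B2_10 B2_10_cf := FC.ofX B2_10_good B2_10_fx _ (by decide +kernel)

noncomputable def B2_10_L : Lat := ⟨B2_10, B2_10_bas, B2_10_inv⟩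

theorem B2_10_ok : B2_10_L.Ok := ⟨B2_10_good, B2_10_fx, B2_10_io⟩

noncomputable def A2 : Nd where
  r := 2
  AL := [[2, -1], [-1, 2]]
  sg := [0, 1]
  tab := 0xfffffffffffffffffffffffffffffe0108000000000000000000000000000000fe00
  tbs := 0xfffffffffffffffffffffffffffffe0108000000000000000000000000000000fe00
  n0 := 0x4141
  RL := (List.map (unz 2) [0x1a, 0x51, 0xaa])
  K := 3
  rep := (unp 4 0x40660b1)
  cod := (unp 4 0x104fbe11ffc141f)
  nW := (unz 2 0x27ba)
  XC := (List.map (unz 2) [0x13aa, 0xda, 0x5aa])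
  nu := (unz 3 0x193264)
  b := 2
  B := 0x200000000000
  cas := [⟨[0, 1], [0, 1, 0], (unp 4 0x456203b05), (unz 2 0x6fb)⟩]

theorem A2_good : A2.Good := Nd.good_of_full
    [(List.map (unp 5) [0x202031880b6029, 0x2004d8126009, 0x2202d80a602031])]
    (by decide +kernel)

noncomputable def A2_bas : List (List ℤ × ℤ) :=
    (List.map (fun l => (l, 1)) (List.map (unz 2) [0x9a, 0xd1, 0x289]))

noncomputable def A2_inv : List (ℤ × List (ℤ × ℕ)) :=
    (List.zip (unz 2 0xaaa) (List.map (unv 2) [0x1a, 0x5a, 0xaa]))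

noncomputable def A2_cf : List (List (ℤ × ℕ) × ℤ) :=
    (List.zip (List.map (unv 2) [0xa9dd9a, 0xa9db9a, 0x2a9a]) (unz 3 0xcf264))

theorem A2_gen : FX A2
    (List.map (fun l => (l, 1)) (List.map (unz 2) [0x13aa, 0x5aa])) :=
  FX.ofC A2_good
    (FC.delta A2 [0, 2])
    _ (by decide +kernel)

theorem A2_fx : FX A2 A2_bas := FX.comb A2_good A2_gen (List.zipWith (fun a b => ⟨a, b, 1⟩)
    (List.map (fun n => List.map Prod.swap (unv 4 n)) [0xe3, 0xd3, 0x21])
    (List.map (unv 2) [0x1a, 0x1a, 0x2d]))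
    _ (by decide +kernel)

theorem A2_io : invOK A2 A2_bas A2_inv = true := by decide +kernel

theorem A2_fc : FC A2 A2_cf := FC.ofX A2_good A2_fx _ (by decide +kernel)

noncomputable def A2_L : Lat := ⟨A2, A2_bas, A2_inv⟩

theorem A2_ok : A2_L.Ok := ⟨A2_good, A2_fx, A2_io⟩

noncomputable def A2_10 : Nd where
  r := 2
  AL := [[2, -1], [-1, 2]]
  sg := [1, 0]
  tab := 0xfffffffffffffffffffffffffffffe0108000000000000000000000000000000fe00
  tbs := 0xfe00fffffffffffffffffffffffffffffe0108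
  n0 := 0x4141
  RL := (List.map (unz 2) [0x1a, 0x51, 0xaa])
  K := 3
  rep := (unp 4 0x404360b1)
  cod := (unp 4 0xfcffa11ffc141f)
  nW := (unz 2 0x2a7b)
  XC := (List.map (unz 2) [0x1aa, 0x55a, 0x75a])
  nu := (unz 3 0x193264)
  b := 2
  B := 0x200000000000
  cas := [⟨[0, 1], [0, 1, 0], (unp 4 0x456203b05), (unz 2 0x6fb)⟩]

theorem A2_10_good : A2_10.Good := Nd.good_of_full
    [(List.map (unp 4) [0x40076053019, 0x44036001b009, 0x40036013100d])]
    (by decide +kernel)

noncomputable def A2_10_bas : List (List ℤ × ℤ) :=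
    (List.map (fun l => (l, 1)) (List.map (unz 2) [0x9a, 0xd1, 0x289]))

noncomputable def A2_10_inv : List (ℤ × List (ℤ × ℕ)) :=
    (List.zip (unz 2 0xaaa) (List.map (unv 2) [0x1a, 0x5a, 0xaa]))

theorem A2_10_gen : FX A2_10
    (List.map (fun l => (l, 1)) (List.map (unz 2) [0x1aa, 0x55a])) :=
  FX.ofC A2_10_good
    (FC.delta A2_10 [0, 1])
    _ (by decide +kernel)

theorem A2_10_fx : FX A2_10 A2_10_bas := FX.comb A2_10_good A2_10_gen (List.zipWith (fun a b => ⟨a, b, 1⟩)
    (List.map (fun n => List.map Prod.swap (unv 4 n)) [0xe3, 0xd3, 0x21])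
    (List.map (unv 2) [0x1a, 0x1a, 0x5a]))
    _ (by decide +kernel)

theorem A2_10_io : invOK A2_10 A2_10_bas A2_10_inv = true := by decide +kernel

noncomputable def A2_10_L : Lat := ⟨A2_10, A2_10_bas, A2_10_inv⟩

theorem A2_10_ok : A2_10_L.Ok := ⟨A2_10_good, A2_10_fx, A2_10_io⟩

noncomputable def A1A1 : Nd where
  r := 2
  AL := [[2, 0], [0, 2]]
  sg := [0, 1]
  tab := 0xfffffffffffffffffffffffffffffe0008fffffffffffffffffffffffffffffffe00
  tbs := 0xfffffffffffffffffffffffffffffe0008fffffffffffffffffffffffffffffffe00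
  n0 := 0x4141
  RL := (List.map (unz 2) [0x1a, 0x51])
  K := 4
  rep := (unp 4 0x80cc560b1)
  cod := (unp 4 0x3f3fefd07a09ffc141f)
  nW := (unz 2 0xaaaa)
  XC := (List.map (unz 2) [0xaaaa, 0x2daa, 0x2d5a, 0x2ada])
  nu := (unz 3 0x8912244)
  b := 1
  B := 0x80000000000
  cas := [⟨[0], [0], (unp 3 0x85), (unz 2 0x2daa)⟩, ⟨[1], [1], (unp 3 0x8d), (unz 2 0x2d5a)⟩]

theorem A1A1_good : A1A1.Good := Nd.good_of_full
    [(List.map (unp 4) [0x1019, 0x1009, 0x1039, 0x1029]), (List.map (unp 4) [0x1029, 0x1039, 0x1009, 0x1019])]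
    (by decide +kernel)

noncomputable def A1A1_bas : List (List ℤ × ℤ) :=
    (List.map (fun l => (l, 1)) (List.map (unz 2) [0x49a, 0x4d1, 0x689, 0x1449]))

noncomputable def A1A1_inv : List (ℤ × List (ℤ × ℕ)) :=
    (List.zip (unz 2 0xaaaa) (List.map (unv 2) [0x1a, 0x5a, 0xaa, 0xea]))

noncomputable def A1A1_cf : List (List (ℤ × ℕ) × ℤ) :=
    (List.zip (List.map (unv 2) [0x3aaaad1a, 0xeb56d1a, 0xeb5569a, 0xeaab69a]) (unz 3 0x8912244))

theorem A1A1_gen : FX A1A1
    (List.map (fun l => (l, 1)) (List.map (unz 2) [0xaaaa])) :=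
  FX.ofC A1A1_good
    (FC.delta A1A1 [0])
    _ (by decide +kernel)

theorem A1A1_fx : FX A1A1 A1A1_bas := FX.comb A1A1_good A1A1_gen (List.zipWith (fun a b => ⟨a, b, 1⟩)
    (List.map (fun n => List.map Prod.swap (unv 4 n)) [0x231062, 0x118862, 0x118831, 0x8c431])
    (List.map (unv 2) [0x1a, 0x1a, 0x1a, 0x1a]))
    _ (by decide +kernel)

theorem A1A1_io : invOK A1A1 A1A1_bas A1A1_inv = true := by decide +kernel

theorem A1A1_fc : FC A1A1 A1A1_cf := FC.ofX A1A1_good A1A1_fx _ (by decide +kernel)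

noncomputable def A1A1_L : Lat := ⟨A1A1, A1A1_bas, A1A1_inv⟩

theorem A1A1_ok : A1A1_L.Ok := ⟨A1A1_good, A1A1_fx, A1A1_io⟩

noncomputable def A1A1_10 : Nd where
  r := 2
  AL := [[2, 0], [0, 2]]
  sg := [1, 0]
  tab := 0xfffffffffffffffffffffffffffffe0008fffffffffffffffffffffffffffffffe00
  tbs := 0xfffffffffffffffffffffffffffffffe00fffffffffffffffffffffffffffffe0008
  n0 := 0x4141
  RL := (List.map (unz 2) [0x1a, 0x51])
  K := 2
  rep := (unp 3 0x8d9)
  cod := (unp 4 0x1fa0f4141f)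
  nW := (unz 2 0x273)
  XC := (List.map (unz 2) [0xaa, 0x5a])
  nu := (unz 3 0x2244)
  b := 1
  B := 0x80000000000
  cas := [⟨[0, 1], [1, 0], (unp 3 0x858d), (unz 2 0x1d3)⟩]

theorem A1A1_10_good : A1A1_10.Good := Nd.good_of_full
    [(List.map (unp 4) [0x2003b019, 0x2001b009])]
    (by decide +kernel)

noncomputable def A1A1_10_bas : List (List ℤ × ℤ) :=
    (List.map (fun l => (l, 1)) (List.map (unz 2) [0x1a, 0x51]))

noncomputable def A1A1_10_inv : List (ℤ × List (ℤ × ℕ)) :=
    (List.zip (unz 2 0xaa) (List.map (unv 2) [0x1a, 0x5a]))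

noncomputable def A1A1_10_cf : List (List (ℤ × ℕ) × ℤ) :=
    (List.zip (List.map (unv 2) [0x2d1a, 0x169a]) (unz 2 0x273))

theorem A1A1_10_gen : FX A1A1_10
    (List.map (fun l => (l, 1)) (List.map (unz 2) [0xaa])) :=
  FX.ofC A1A1_10_good
    (FC.delta A1A1_10 [0])
    _ (by decide +kernel)

theorem A1A1_10_fx : FX A1A1_10 A1A1_10_bas := FX.comb A1A1_10_good A1A1_10_gen (List.zipWith (fun a b => ⟨a, b, 1⟩)
    (List.map (fun n => List.map Prod.swap (unv 4 n)) [0xc3, 0x72])
    (List.map (unv 2) [0x1a, 0x1a]))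
    _ (by decide +kernel)

theorem A1A1_10_io : invOK A1A1_10 A1A1_10_bas A1A1_10_inv = true := by decide +kernel

theorem A1A1_10_fc : FC A1A1_10 A1A1_10_cf := FC.ofX A1A1_10_good A1A1_10_fx _ (by decide +kernel)

noncomputable def A1A1_10_L : Lat := ⟨A1A1_10, A1A1_10_bas, A1A1_10_inv⟩

theorem A1A1_10_ok : A1A1_10_L.Ok := ⟨A1A1_10_good, A1A1_10_fx, A1A1_10_io⟩

noncomputable def B2 : Nd where
  r := 2
  AL := [[2, -1], [-2, 2]]
  sg := [0, 1]
  tab := 0xfffffffffffffffffffffffffffffe0208000000000000000000000000000000fe00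
  tbs := 0xfffffffffffffffffffffffffffffe0208000000000000000000000000000000fe00
  n0 := 0x4141
  RL := (List.map (unz 2) [0x1a, 0x51, 0x13a, 0xaa])
  K := 5
  rep := (unp 5 0x2020318826058961)
  cod := (unp 4 0xfcffbe43e847fffa1f4141f)
  nW := (unz 2 0x54e73a)
  XC := (List.map (unz 2) [0x13aaaa, 0x6daa, 0x6d5a, 0x6ada, 0xeaaaa])
  nu := (unz 3 0x8585858585)
  b := 2
  B := 0x400000000000
  cas := [⟨[0, 1], [1, 0, 1, 0], (unp 4 0x82c0436203b15), (unz 3 0x3d88c4)⟩]

theorem B2_good : B2.Good := Nd.good_of_full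
    [(List.map (unp 4) [0x814c0076205b019, 0x801ec126073009, 0x804c00f6093039, 0x800ec40b6033029,
    0x8816c066053001d])]
    (by decide +kernel)

noncomputable def B2_bas : List (List ℤ × ℤ) :=
    (List.map (fun l => (l, 1)) (List.map (unz 2) [0x249a, 0x26d1, 0x14689, 0xa4d1, 0x3449]))

noncomputable def B2_inv : List (ℤ × List (ℤ × ℕ)) :=
    (List.zip (unz 2 0x4ea73a) (List.map (unv 2) [0x1a, 0x75555a, 0x3aaaad, 0x13a, 0x3ad55a]))

noncomputable def B2_L : Lat := ⟨B2, B2_bas, B2_inv⟩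

noncomputable def C3 : Nd where
  r := 3
  AL := [[2, -1, 0], [-1, 2, -2], [0, -1, 2]]
  sg := [0, 1, 2]
  tab :=
    0xfffffffffffffffffffffffffffe0100100000000000000000000000000001fe0108000000000000000000000000000000fe00
  tbs :=
    0xfffffffffffffffffffffffffffe0100100000000000000000000000000001fe0108000000000000000000000000000000fe00
  n0 := 0x414141
  RL := (List.map (unz 2) [0x9a, 0xd1, 0x289, 0x1aa, 0x551, 0xa99, 0xaaa, 0x2a73, 0x153a])
  K := 10
  rep := (unp 6 0x20204204252c8408559081b1026044c48491909311642c1)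
  cod := (unp 5 0x1f9f9fdbb4142b76868368a7c837fd0cfedf9fa25bd4242b433f42bfe848368282837)
  nW := (unz 3 0x25921617267932672)
  XC :=
    (List.map (unz 2) [0x37bdee73aaaa, 0x16d574edaa, 0x2d5a26d5a, 0x2ada26ada, 0x2db673aaaa, 0x2d5526ada,
    0x926daaaa, 0x49356daa, 0x2ad526d5a, 0x6f77bf4edaa])
  nu := (unz 3 0xc1f07c1f07c1f07c1f07c1f07)
  b := 3
  B := 0x2000000000000
  cas :=
    [⟨[0, 1, 2], [2, 1, 2, 0, 1, 2, 0, 1, 0], (unp 5 0x205880b62580908562420243d9080956242d9093645), (unz 3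
    0x15ca73af38dceb95)⟩]

theorem C3_good : C3.Good := Nd.good_of_full
    [(List.map (unp 5) [0x220051801360498080c6204055810146202d90136029, 0x20a98081c6206d802362420b5801b608981a6009,
    0x200cd83260098082c602040d98090356206d8226069, 0x200ed88103d6202d80436420f183a6404d80a6049,
    0x20211190436404d84a6210d84260298126202d, 0x20298103c640ed808446129803b6210d83a620051,
    0x2004d81262005188103d6410d8043640ed884360e9, 0x2006d8082c6200718090356420b181a640cd82a60c9,
    0x20240d5880246240d19082c640cd8226006d8033620ad, 0x22420b59082c60420b582260a9882b6008d8082c620091])]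
    (by decide +kernel)

noncomputable def A2A1 : Nd where
  r := 3
  AL := [[2, -1, 0], [-1, 2, 0], [0, 0, 2]]
  sg := [0, 1, 2]
  tab :=
    0xfffffffffffffffffffffffffffe000010fffffffffffffffffffffffffffffe0108000000000000000000000000000000fe00
  tbs :=
    0xfffffffffffffffffffffffffffe000010fffffffffffffffffffffffffffffe0108000000000000000000000000000000fe00
  n0 := 0x414141
  RL := (List.map (unz 2) [0x9a, 0xd1, 0x289, 0x1aa])
  K := 6
  rep := (unp 4 0x2025b02980cc960b1)
  cod := (unp 5 0x1fa09f5bf423fb41413ebfe8283682847f78282837)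
  nW := (unz 2 0x9ee75ba)
  XC := (List.map (unz 2) [0x273aaaa, 0x26daa, 0x74ed5a, 0x2daaaa, 0x26ada, 0x156d5a])
  nu := (unz 3 0xc5c5c5c5c5c5)
  b := 2
  B := 0x400000000000
  cas :=
    [⟨[0, 1], [0, 1, 0], (unp 4 0x456203b05), (unz 2 0x9bdf7b)⟩, ⟨[2], [2], (unp 3 0x95), (unz 2 0x16ad5a)⟩]

theorem A2A1_good : A2A1.Good := Nd.good_of_full
    [(List.map (unp 5) [0x202031880b6029, 0x2006d81a6009, 0x20209188236089, 0x2202d80a602031, 0x200ad82a6049,
    0x2208d822602091]), (List.map (unp 4) [0x1029, 0x1049, 0x1009, 0x1059, 0x1019, 0x1039])]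
    (by decide +kernel)

noncomputable def A2A1_bas : List (List ℤ × ℤ) :=
    (List.map (fun l => (l, 1)) (List.map (unz 2) [0x1249a, 0x124d1, 0x12689, 0x13449, 0x1a249, 0x51249]))

noncomputable def A2A1_inv : List (ℤ × List (ℤ × ℕ)) :=
    (List.zip (unz 2 0xaaaaaa) (List.map (unv 2) [0x1a, 0x5a, 0xaa, 0xea, 0x13a, 0x17a]))

noncomputable def A2A1_cf : List (List (ℤ × ℕ) × ℤ) :=
    (List.zip (List.map (unv 2) [0xbce7be9d55d9a, 0x2fd3bf4eadd9a, 0xbce77e9d55b9a, 0x2fd3df4eadb9a, 0x2f7ad51a,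
    0x2f5d6a9a]) (unz 3 0x3264c5c5c5c5))

theorem A2A1_gen : FX A2A1
    (List.map (fun l => (l, 1)) (List.map (unz 2) [0x273aaaa, 0x2daaaa])) :=
  FX.ofC A2A1_good
    (FC.delta A2A1 [0, 3])
    _ (by decide +kernel)

theorem A2A1_fx : FX A2A1 A2A1_bas := FX.comb A2A1_good A2A1_gen (List.zipWith (fun a b => ⟨a, b, 1⟩)
    (List.map (fun n => List.map Prod.swap (unv 4 n)) [0x4620e3, 0x2310e3, 0x4620d3, 0x2310d3, 0x118821, 0x8c421])
    (List.map (unv 2) [0x1a, 0x1a, 0x1a, 0x1a, 0x2d, 0x2d]))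
    _ (by decide +kernel)

theorem A2A1_io : invOK A2A1 A2A1_bas A2A1_inv = true := by decide +kernel

theorem A2A1_fc : FC A2A1 A2A1_cf := FC.ofX A2A1_good A2A1_fx _ (by decide +kernel)

noncomputable def A2A1_L : Lat := ⟨A2A1, A2A1_bas, A2A1_inv⟩

theorem A2A1_ok : A2A1_L.Ok := ⟨A2A1_good, A2A1_fx, A2A1_io⟩

noncomputable def A2A1_102 : Nd where
  r := 3
  AL := [[2, -1, 0], [-1, 2, 0], [0, 0, 2]]
  sg := [1, 0, 2]
  tab :=
    0xfffffffffffffffffffffffffffe000010fffffffffffffffffffffffffffffe0108000000000000000000000000000000fe00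
  tbs :=
    0xfffffffffffffffffffffffffffe000010000000000000000000000000000000fe00fffffffffffffffffffffffffffffe0108
  n0 := 0x414141
  RL := (List.map (unz 2) [0x9a, 0xd1, 0x289, 0x1aa])
  K := 6
  rep := (unp 5 0x808146049916020d8161)
  cod := (unp 5 0x1f9f9fdbf423fb7e82836827e7f782847f78282837)
  nW := (unz 2 0xa9eea7b)
  XC := (List.map (unz 2) [0x9aaaa, 0x2aadaa, 0x3badaa, 0x26d5a, 0x16aada, 0x4faada])
  nu := (unz 3 0xc5c5c5c5c5c5)
  b := 2
  B := 0x400000000000
  cas :=
    [⟨[0, 1], [0, 1, 0], (unp 4 0x456203b05), (unz 2 0x9bdf7b)⟩, ⟨[2], [2], (unp 3 0x95), (unz 2 0x16ad5a)⟩]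

theorem A2A1_102_good : A2A1_102.Good := Nd.good_of_full
    [(List.map (unp 4) [0x40076053019, 0x44036001b009, 0x40036013100d, 0x401360b3049, 0x440f6007b039,
    0x400f6073103d]), (List.map (unp 4) [0x1039, 0x1049, 0x1059, 0x1009, 0x1019, 0x1029])]
    (by decide +kernel)

noncomputable def A2A1_102_bas : List (List ℤ × ℤ) :=
    (List.map (fun l => (l, 1)) (List.map (unz 2) [0x1249a, 0x124d1, 0x12689, 0x13449, 0x1a249, 0x51249]))

noncomputable def A2A1_102_inv : List (ℤ × List (ℤ × ℕ)) :=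
    (List.zip (unz 2 0xaaaaaa) (List.map (unv 2) [0x1a, 0x5a, 0xaa, 0xea, 0x13a, 0x17a]))

noncomputable def A2A1_102_cf : List (List (ℤ × ℕ) × ℤ) :=
    (List.zip (List.map (unv 2) [0xbd4e7dbaab33b, 0x2f67dd7aab33b, 0xbd9f76eade3b, 0x2f539f5eade3b, 0x5eceaada,
    0x5ea76ada]) (unz 3 0x3264c5c5c5c5))

theorem A2A1_102_gen : FX A2A1_102
    (List.map (fun l => (l, 1)) (List.map (unz 2) [0x9aaaa, 0x2aadaa])) :=
  FX.ofC A2A1_102_good
    (FC.delta A2A1_102 [0, 1])
    _ (by decide +kernel)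

theorem A2A1_102_fx : FX A2A1_102 A2A1_102_bas := FX.comb A2A1_102_good A2A1_102_gen (List.zipWith (fun a b => ⟨a, b, 1⟩)
    (List.map (fun n => List.map Prod.swap (unv 4 n)) [0x4620e3, 0x2310e3, 0x4620d3, 0x2310d3, 0x118821, 0x8c421])
    (List.map (unv 2) [0x1a, 0x1a, 0x1a, 0x1a, 0x5a, 0x5a]))
    _ (by decide +kernel)

theorem A2A1_102_io : invOK A2A1_102 A2A1_102_bas A2A1_102_inv = true := by decide +kernel

theorem A2A1_102_fc : FC A2A1_102 A2A1_102_cf := FC.ofX A2A1_102_good A2A1_102_fx _ (by decide +kernel)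

noncomputable def A2A1_102_L : Lat := ⟨A2A1_102, A2A1_102_bas, A2A1_102_inv⟩

theorem A2A1_102_ok : A2A1_102_L.Ok := ⟨A2A1_102_good, A2A1_102_fx, A2A1_102_io⟩

noncomputable def B3 : Nd where
  r := 3
  AL := [[2, -1, 0], [-1, 2, -1], [0, -2, 2]]
  sg := [0, 1, 2]
  tab :=
    0xfffffffffffffffffffffffffffe0200100000000000000000000000000000fe0108000000000000000000000000000000fe00
  tbs :=
    0xfffffffffffffffffffffffffffe0200100000000000000000000000000000fe0108000000000000000000000000000000fe00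
  n0 := 0x414141
  RL := (List.map (unz 2) [0x9a, 0xd1, 0x289, 0x1aa, 0x9d1, 0x551, 0x13aa, 0xaaa, 0x273a])
  K := 10
  rep := (unp 6 0x20204204252c8408559081b1026044c48491909311642c1)
  cod := (unp 5 0x1f9f9fdbd4143b7a88836867c837fd10fedf9fa2dbe4342b423f42bfe868368282837)
  nW := (unz 3 0x25921617267932672)
  XC :=
    (List.map (unz 2) [0x37bdee73aaaa, 0x16d574edaa, 0x2d5a26d5a, 0x2ada26ada, 0x2db673aaaa, 0x2d5526ada,
    0x926daaaa, 0x49356daa, 0x2ad526d5a, 0x6f77bf4edaa])
  nu := (unz 3 0xc1f07c1f07c1f07c1f07c1f07)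
  b := 3
  B := 0x2000000000000
  cas :=
    [⟨[0, 1, 2], [2, 1, 2, 0, 1, 2, 0, 1, 0], (unp 5 0x205880b62580908562420243d9080956242d9093645), (unz 3
    0x15ca73af38dceb95)⟩]

theorem B3_good : B3.Good := Nd.good_of_full
    [(List.map (unp 5) [0x220051801360498080c6204055810146202d90136029, 0x20a98081c6206d802362420b5801b608981a6009,
    0x200cd83260098082c602040d98090356206d8226069, 0x200ed88103d6202d80436420f183a6404d80a6049,
    0x20211190436404d84a6210d84260298126202d, 0x20298103c640ed808446129803b6210d83a620051,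
    0x2004d81262005188103d6410d8043640ed884360e9, 0x2006d8082c6200718090356420b181a640cd82a60c9,
    0x20240d5880246240d19082c640cd8226006d8033620ad, 0x22420b59082c60420b582260a9882b6008d8082c620091])]
    (by decide +kernel)

noncomputable def A3 : Nd where
  r := 3
  AL := [[2, -1, 0], [-1, 2, -1], [0, -1, 2]]
  sg := [0, 1, 2]
  tab :=
    0xfffffffffffffffffffffffffffe0100100000000000000000000000000000fe0108000000000000000000000000000000fe00
  tbs :=
    0xfffffffffffffffffffffffffffe0100100000000000000000000000000000fe0108000000000000000000000000000000fe00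
  n0 := 0x414141
  RL := (List.map (unz 2) [0x9a, 0xd1, 0x289, 0x1aa, 0x551, 0xaaa])
  K := 5
  rep := (unp 4 0x1012d814c0660b1)
  cod := (unp 5 0x41413dbfe867f684827d782847f78282837)
  nW := (unz 3 0x193385c92)
  XC := (List.map (unz 2) [0x6f73aa, 0x168da, 0x4daa, 0x5b3aa, 0x154da])
  nu := (unz 3 0x186c361b0d86)
  b := 3
  B := 0x1000000000000
  cas := [⟨[0, 1, 2], [0, 1, 2, 0, 1, 0], (unp 5 0x916424d896420255880b605), (unz 3 0x1a8c6e64)⟩]

theorem A3_good : A3.Good := Nd.good_of_full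
    [(List.map (unp 5) [0x881080e60420358080c642031880b6029, 0x81a60405180136404d8126009,
    0x90236204095880b608980a602031, 0x80a60409180236408d82262042039, 0x901360207189014604981a6024055])]
    (by decide +kernel)

noncomputable def A3_bas : List (List ℤ × ℤ) :=
    (List.map (fun l => (l, 1)) (List.map (unz 2) [0x249a, 0x24d1, 0x2689, 0x3449, 0xa249]))

noncomputable def A3_inv : List (ℤ × List (ℤ × ℕ)) :=
    (List.zip (unz 2 0xaaaaa) (List.map (unv 2) [0x1a, 0x5a, 0xaa, 0xea, 0x13a]))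

theorem A3_gen : FX A3
    (List.map (fun l => (l, 1)) (List.map (unz 2) [0x6f73aa, 0x168da, 0x4daa])) :=
  FX.ofC A3_good
    (FC.delta A3 [0, 1, 2])
    _ (by decide +kernel)

theorem A3_fx : FX A3 A3_bas := FX.comb A3_good A3_gen (List.zipWith (fun a b => ⟨a, b, 1⟩)
    (List.map (fun n => List.map Prod.swap (unv 4 n)) [0x1c4, 0x1b4, 0x21, 0xc3, 0x72])
    (List.map (unv 2) [0x1a, 0x1a, 0x55, 0x5a, 0x2d]))
    _ (by decide +kernel)

theorem A3_io : invOK A3 A3_bas A3_inv = true := by decide +kernel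

noncomputable def A3_L : Lat := ⟨A3, A3_bas, A3_inv⟩

theorem A3_ok : A3_L.Ok := ⟨A3_good, A3_fx, A3_io⟩

noncomputable def A3_210 : Nd where
  r := 3
  AL := [[2, -1, 0], [-1, 2, -1], [0, -1, 2]]
  sg := [2, 1, 0]
  tab :=
    0xfffffffffffffffffffffffffffe0100100000000000000000000000000000fe0108000000000000000000000000000000fe00
  tbs := 0xfe000000000000000000000000000000fe0108fffffffffffffffffffffffffffe010010
  n0 := 0x414141
  RL := (List.map (unz 2) [0x9a, 0xd1, 0x289, 0x1aa, 0x551, 0xaaa])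
  K := 5
  rep := (unp 5 0x2020421980a6258161)
  cod := (unp 5 0x7e7e7f684827d7847e85782847f78282837)
  nW := (unz 3 0x1285c9933)
  XC := (List.map (unz 2) [0x13aaaa, 0x6daa, 0x6d5a, 0x1689a, 0x4eaf7a])
  nu := (unz 3 0x186c361b0d86)
  b := 3
  B := 0x1000000000000
  cas := [⟨[0, 1, 2], [0, 1, 2, 0, 1, 0], (unp 5 0x916424d896420255880b605), (unz 3 0x37351e4)⟩]

theorem A3_210_good : A3_210.Good := Nd.good_of_full
    [(List.map (unp 5) [0x800b620031812604051880b6029, 0x8003604071881b602007581a6009, 0x8801c6006d8026089881b6069,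
    0x80800d624051880b6004d80a6049, 0x880146004d8101460499013624051])]
    (by decide +kernel)

noncomputable def A3_210_bas : List (List ℤ × ℤ) :=
    (List.map (fun l => (l, 1)) (List.map (unz 2) [0x249a, 0x24d1, 0x2689, 0x3449, 0xa249]))

noncomputable def A3_210_inv : List (ℤ × List (ℤ × ℕ)) :=
    (List.zip (unz 2 0xaaaaa) (List.map (unv 2) [0x1a, 0x5a, 0xaa, 0xea, 0x13a]))

noncomputable def A3_210_cf : List (List (ℤ × ℕ) × ℤ) :=
    (List.zip (List.map (unv 3) [0x11cb50b2c939073, 0x4732d4c632, 0x47328e7432, 0x11cb50b2b937073, 0x8e5aec73])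
    (unz 3 0x3170d0b0b86))

theorem A3_210_gen : FX A3_210
    (List.map (fun l => (l, 1)) (List.map (unz 2) [0x13aaaa, 0x1689a])) :=
  FX.ofC A3_210_good
    (FC.delta A3_210 [0, 3])
    _ (by decide +kernel)

theorem A3_210_fx : FX A3_210 A3_210_bas := FX.comb A3_210_good A3_210_gen (List.zipWith (fun a b => ⟨a, b, 1⟩)
    (List.map (fun n => List.map Prod.swap (unv 4 n)) [0x1c4, 0xc3, 0x72, 0x1b4, 0x21])
    (List.map (unv 2) [0x1a, 0x1a, 0x1a, 0x1a, 0x2d]))
    _ (by decide +kernel)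

theorem A3_210_io : invOK A3_210 A3_210_bas A3_210_inv = true := by decide +kernel

theorem A3_210_fc : FC A3_210 A3_210_cf := FC.ofX A3_210_good A3_210_fx _ (by decide +kernel)

noncomputable def A3_210_L : Lat := ⟨A3_210, A3_210_bas, A3_210_inv⟩

theorem A3_210_ok : A3_210_L.Ok := ⟨A3_210_good, A3_210_fx, A3_210_io⟩

noncomputable def A1A1A1 : Nd where
  r := 3
  AL := [[2, 0, 0], [0, 2, 0], [0, 0, 2]]
  sg := [0, 1, 2]
  tab :=
    0xfffffffffffffffffffffffffffe000010fffffffffffffffffffffffffffffe0008fffffffffffffffffffffffffffffffe00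
  tbs :=
    0xfffffffffffffffffffffffffffe000010fffffffffffffffffffffffffffffe0008fffffffffffffffffffffffffffffffe00
  n0 := 0x414141
  RL := (List.map (unz 2) [0x9a, 0xd1, 0x289])
  K := 8
  rep := (unp 4 0x8096c4a605301992c560b1)
  cod := (unp 5 0xfcfcfedf9fa0dbf413fb413f3fbfe82836827e83782827f78282837)
  nW := (unz 2 0xaaaaaaaa)
  XC :=
    (List.map (unz 2) [0xaaaaaaaa, 0xb6daaaa, 0xb6aadaa, 0xb56ad5a, 0xaab6daa, 0xab56d5a, 0xab6aada, 0xb556ada])
  nu := (unz 3 0x8585858585858585)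
  b := 1
  B := 0x100000000000
  cas :=
    [⟨[0], [0], (unp 3 0x85), (unz 2 0xb6daaaa)⟩, ⟨[1], [1], (unp 3 0x8d), (unz 2 0xb6aadaa)⟩, ⟨[2], [2], (unp 3
    0x95), (unz 2 0xb56ad5a)⟩]

theorem A1A1A1_good : A1A1A1.Good := Nd.good_of_full
    [(List.map (unp 4) [0x1019, 0x1009, 0x1049, 0x1059, 0x1029, 0x1039, 0x1079, 0x1069]), (List.map (unp 4)
    [0x1029, 0x1049, 0x1009, 0x1069, 0x1019, 0x1079, 0x1039, 0x1059]), (List.map (unp 4) [0x1039, 0x1059, 0x1069,
    0x1009, 0x1079, 0x1019, 0x1029, 0x1049])]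
    (by decide +kernel)

noncomputable def A1A1A1_bas : List (List ℤ × ℤ) :=
    (List.map (fun l => (l, 1)) (List.map (unz 2) [0x49249a, 0x4924d1, 0x492689, 0x493449, 0x49a249, 0x4d1249,
    0x689249, 0x1449249]))

noncomputable def A1A1A1_inv : List (ℤ × List (ℤ × ℕ)) :=
    (List.zip (unz 2 0xaaaaaaaa) (List.map (unv 2) [0x1a, 0x5a, 0xaa, 0xea, 0x13a, 0x17a, 0x1ba, 0x1fa]))

theorem A1A1A1_gen : FX A1A1A1
    (List.map (fun l => (l, 1)) (List.map (unz 2) [0xaaaaaaaa])) :=
  FX.ofC A1A1A1_good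
    (FC.delta A1A1A1 [0])
    _ (by decide +kernel)

theorem A1A1A1_fx : FX A1A1A1 A1A1A1_bas := FX.comb A1A1A1_good A1A1A1_gen (List.zipWith (fun a b => ⟨a, b, 1⟩)
    (List.map (fun n => List.map Prod.swap (unv 4 n)) [0x228a31062, 0x114631062, 0x114518862, 0x8a318862,
    0x114518831, 0x8a318831, 0x8a28c431, 0x4518c431])
    (List.map (unv 2) [0x1a, 0x1a, 0x1a, 0x1a, 0x1a, 0x1a, 0x1a, 0x1a]))
    _ (by decide +kernel)

theorem A1A1A1_io : invOK A1A1A1 A1A1A1_bas A1A1A1_inv = true := by decide +kernel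

noncomputable def A1A1A1_L : Lat := ⟨A1A1A1, A1A1A1_bas, A1A1A1_inv⟩

theorem A1A1A1_ok : A1A1A1_L.Ok := ⟨A1A1A1_good, A1A1A1_fx, A1A1A1_io⟩

noncomputable def A1A1A1_021 : Nd where
  r := 3
  AL := [[2, 0, 0], [0, 2, 0], [0, 0, 2]]
  sg := [0, 2, 1]
  tab :=
    0xfffffffffffffffffffffffffffe000010fffffffffffffffffffffffffffffe0008fffffffffffffffffffffffffffffffe00
  tbs :=
    0xfffffffffffffffffffffffffffffe0008fffffffffffffffffffffffffffe000010fffffffffffffffffffffffffffffffe00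
  n0 := 0x414141
  RL := (List.map (unz 2) [0x9a, 0xd1, 0x289])
  K := 4
  rep := (unp 4 0x814c960b1)
  cod := (unp 5 0x3f413fb7e8283682827f78282837)
  nW := (unz 2 0x9ce73)
  XC := (List.map (unz 2) [0xaaaa, 0x2daa, 0x2d5a, 0x2ada])
  nu := (unz 3 0x85858585)
  b := 1
  B := 0x100000000000
  cas := [⟨[0], [0], (unp 3 0x85), (unz 2 0x2daa)⟩, ⟨[1, 2], [2, 1], (unp 3 0x8d95), (unz 2 0x3a7d3)⟩]

theorem A1A1A1_021_good : A1A1A1_021.Good := Nd.good_of_full
    [(List.map (unp 4) [0x1019, 0x1009, 0x1039, 0x1029]), (List.map (unp 4) [0x2205b029, 0x2207b039, 0x2201b009,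
    0x2203b019])]
    (by decide +kernel)

noncomputable def A1A1A1_021_bas : List (List ℤ × ℤ) :=
    (List.map (fun l => (l, 1)) (List.map (unz 2) [0x49a, 0x4d1, 0x689, 0x1449]))

noncomputable def A1A1A1_021_inv : List (ℤ × List (ℤ × ℕ)) :=
    (List.zip (unz 2 0xaaaa) (List.map (unv 2) [0x1a, 0x5a, 0xaa, 0xea]))

theorem A1A1A1_021_gen : FX A1A1A1_021
    (List.map (fun l => (l, 1)) (List.map (unz 2) [0xaaaa])) :=
  FX.ofC A1A1A1_021_good
    (FC.delta A1A1A1_021 [0])
    _ (by decide +kernel)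

theorem A1A1A1_021_fx : FX A1A1A1_021 A1A1A1_021_bas := FX.comb A1A1A1_021_good A1A1A1_021_gen (List.zipWith (fun a b => ⟨a, b, 1⟩)
    (List.map (fun n => List.map Prod.swap (unv 4 n)) [0x461862, 0x239062, 0x230c31, 0x11c831])
    (List.map (unv 2) [0x1a, 0x1a, 0x1a, 0x1a]))
    _ (by decide +kernel)

theorem A1A1A1_021_io : invOK A1A1A1_021 A1A1A1_021_bas A1A1A1_021_inv = true := by decide +kernel

noncomputable def A1A1A1_021_L : Lat := ⟨A1A1A1_021, A1A1A1_021_bas, A1A1A1_021_inv⟩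

theorem A1A1A1_021_ok : A1A1A1_021_L.Ok := ⟨A1A1A1_021_good, A1A1A1_021_fx, A1A1A1_021_io⟩

noncomputable def A1A1A1_120 : Nd where
  r := 3
  AL := [[2, 0, 0], [0, 2, 0], [0, 0, 2]]
  sg := [1, 2, 0]
  tab :=
    0xfffffffffffffffffffffffffffe000010fffffffffffffffffffffffffffffe0008fffffffffffffffffffffffffffffffe00
  tbs :=
    0xfffffffffffffffffffffffffffffffe00fffffffffffffffffffffffffffe000010fffffffffffffffffffffffffffffe0008
  n0 := 0x414141
  RL := (List.map (unz 2) [0x9a, 0xd1, 0x289])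
  K := 2
  rep := (unp 3 0x959)
  cod := (unp 5 0x7e828368282837)
  nW := (unz 3 0x2244)
  XC := (List.map (unz 2) [0xaa, 0x5a])
  nu := (unz 3 0x8585)
  b := 1
  B := 0x100000000000
  cas := [⟨[0, 1, 2], [2, 1, 0], (unp 3 0x858d95), (unz 2 0x2fb)⟩]

theorem A1A1A1_120_good : A1A1A1_120.Good := Nd.good_of_full
    [(List.map (unp 4) [0x48076203b019, 0x48036201b009])]
    (by decide +kernel)

noncomputable def A1A1A1_120_bas : List (List ℤ × ℤ) :=
    (List.map (fun l => (l, 1)) (List.map (unz 2) [0x1a, 0x51]))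

noncomputable def A1A1A1_120_inv : List (ℤ × List (ℤ × ℕ)) :=
    (List.zip (unz 2 0xaa) (List.map (unv 2) [0x1a, 0x5a]))

theorem A1A1A1_120_gen : FX A1A1A1_120
    (List.map (fun l => (l, 1)) (List.map (unz 2) [0xaa])) :=
  FX.ofC A1A1A1_120_good
    (FC.delta A1A1A1_120 [0])
    _ (by decide +kernel)

theorem A1A1A1_120_fx : FX A1A1A1_120 A1A1A1_120_bas := FX.comb A1A1A1_120_good A1A1A1_120_gen (List.zipWith (fun a b => ⟨a, b, 1⟩)
    (List.map (fun n => List.map Prod.swap (unv 4 n)) [0xe3, 0xd3])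
    (List.map (unv 2) [0x1a, 0x1a]))
    _ (by decide +kernel)

theorem A1A1A1_120_io : invOK A1A1A1_120 A1A1A1_120_bas A1A1A1_120_inv = true := by decide +kernel

noncomputable def A1A1A1_120_L : Lat := ⟨A1A1A1_120, A1A1A1_120_bas, A1A1A1_120_inv⟩

theorem A1A1A1_120_ok : A1A1A1_120_L.Ok := ⟨A1A1A1_120_good, A1A1A1_120_fx, A1A1A1_120_io⟩


end Cfsg.Agent.LV.W
end

-- part: LV/W/N4
section
prune_inst 0x80000000000000c010000
set_option linter.all false

/-! LV/W: generated data (helper25) -/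

set_option autoImplicit false
set_option maxRecDepth 100000

namespace Cfsg.Agent.LV.W

noncomputable def F4 : Nd where
  r := 4
  AL := [[2, -1, 0, 0], [-1, 2, -2, 0], [0, -1, 2, -1], [0, 0, -1, 2]]
  sg := [0, 1, 2, 3]
  tab :=
    0xfffffffffffffffffffffffffe0100001800000000000000000000000000fe0100100000000000000000000000000001fe0108000000000000000000000000000000fe00
  tbs :=
    0xfffffffffffffffffffffffffe0100001800000000000000000000000000fe0100100000000000000000000000000001fe0108000000000000000000000000000000fe00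
  n0 := 0x41414141
  RL :=
    (List.map (unz 3) [0x2232, 0x2321, 0x3211, 0x12111, 0x4652, 0x6521, 0xca31, 0x25211, 0xca52, 0x4a521, 0x328e3,
    0x94a31, 0x19472, 0x94a52, 0x2528e3, 0x128e31, 0x129472, 0x4a38e3, 0x251c72, 0x947123, 0x251e72, 0x967123,
    0x4a3ce3, 0x11e7123])
  K := 25
  rep :=
    (unp 7
    0x808108109190810919081091e189190810992989081190810919084181908109190810b9810990810990b18908109908299908109989908109219908118818d80810810925890919091a590810958108d8118d89909159908d880981098909119089990988598581)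
  cod :=
    (unp 5
    0x7e7e7e7fee514f11fd04f8f11ffaa0a19ffbb3b483bf4a393f45fee888285ed91cfd0bdd20a1a0fbf463e41f4a3f3f3fffe7e7e8fe92768285f887a887df827c887ffed10fd13de20a1217a0a29f20fe11fa19ffe29f9fa27e21ea1217fe414241f41433f42ffe848283e82828283f)
  nW := (unz 4 0x2280f03487c2c07904c0d81181185c2c8460460448460440790891a43c07c2e162)
  XC :=
    (List.map (unz 3) [0x20d8b2b2b2b2b0b0b0b0b9324489122448e38e394a52, 0x11aebcf3ec46208eb431c7a118e6652,
    0x11af3af31ee2088ea31d463a8c66532, 0x34222231ccc623296a528e66394a52, 0x2329990888ea38f43a8c44465332,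
    0xf7294a42223ad08c4118e38e394a52, 0x8ca66422231e84444444465332, 0x342222331c7223296a5298e3994a52,
    0x444444652223321990ca466532, 0x8ca53222222222223a118e6652, 0x444444664223291948ca466532,
    0x44444642322332329484666652, 0x8ca652222222222223a8c66532, 0x11af3af3189d888c7a18f43a8c66532,
    0x11aebcf38823d88c718eb5a118e6652, 0x444446446423290ccc84666652, 0x64222222233223211999994a52,
    0x11d62223ad6b59e71c728e3999994a52, 0x11994a44444444444444465332, 0x4622223a94b42333a998e66394a52,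
    0x62575d758888c7188c4118e38e394a52, 0x2329990888ea3d4631e844465332, 0xd5622231c71c79e7ad4b5a999994a52,
    0x46222232d6a42333a9998e3994a52, 0x1fb8b2b2b2b2bf3e7cf993277dc4efb8e38e394a52])
  nu :=
    (unz 4 0x900c900c900c900c900c900c900c900c900c900c900c900c900c900c900c900c900c900c900c900c900c900c900c900c900c)
  b := 16
  B := 0x800000000000000
  cas :=
    [⟨[0, 1, 2, 3], [3, 2, 1, 2, 0, 1, 2, 3, 2, 1, 2, 0, 1, 2, 3, 2, 1, 2, 0, 1, 2, 0, 1, 0], (unp 6
    0x80b1013622c0484158908090bb21012562426c848d90b2123012103212d6246024206436c048c4840484c843d8918908090990eb23012103296462420242656c8c484c9d990918090819091fb3012103766242024272cc84048dd98909ab32123566466cc5),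
    (unz 3 0x23f04616e5cc99046f444716f6f71716fc2386)⟩]

theorem F4_good : F4.Good := Fs.good_of
    [(List.map (unp 6)
    [0x88012300236044c04c8059881012b02024626402ac808d9900a321021201862042402ec04840c80a58908190143021201664206404ec848055990810900cb0120156206404cc0c80958900a33202464026c049,
    0x918323123065602460ccc0480d588109823b0213046624068c84c1159019b21032102103b620460acc0484c841a589099083430230556426420cec8c151908190810901e3010346204608cc08c1158819b230446064c009,
    0x8039b0726004c04191808103b301207562086c149821321021306860204206092c04840c1618908109903d3012103048642042640f2c840848c1a59908109834b0130656020640eec04c81d9898223305366086c048c199,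
    0x9051b0108462106c048255890811908045b0213086624128c84c2159009b121023210209c624246420134c0484c842a58909908543032095624264204114cc82518909908104d30093624246420114c020d84930826024cc8051,
    0x8593120b4626402ac030d90805ab00b364046cc805181130121021308a60204204112c04840c826589091909185db01210308864264246172c84c21599081186430121008762464246172cc848c2dd8904233209466106c209,
    0x80862320c364046c3898861b0c2664028c08989900ab01210309860204204132c0484035d899091864301210209866424618ecc24d99091873b012100976464246190cc84084c3258904a30d264126c249,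
    0x9900a320b362166c0431187130b262186c02cd88012310210210a9620420424154c04084084c83f188108109907db032100876642012ccc840219990806b302321008864642012ec0c83d591908043b320f46144c828d,
    0x8011b022620048c482d19061b00c362166c430d8059b12102120f96204204246176c04840848c32d881081091865b0121021230bb64204246192c840848c2e58990810907d31320b5664188c0c3118985a3130c4606168c3c9,
    0x8081b0110462066c048449988109883b03211562042460d0c48480d99821b121021321212c62042642252c048c4d98908119088533210126664220ac0c848c1a1811908109895b01236224c409918223032602460ccc109,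
    0x808923010125646088c084d18908109894b210213128624206ac840848c1a59081a321023213862286c04855589909093b1426642424ccc14d9899b21213562246c4898193012306662066c149,
    0x9019b0103106620620ac04c49590809ab03104626248cc40d918323315364642aac058d8b13021125624268c8449190a9b02321127620626ac0841191908933210360c4cc18d,
    0x8213010045620c6c081d1810832b0626240e8c010d8039b0121021310a62042420ec0840c84a1881091908095b02103107606424acc845199080bb30121156246420250c0c8449989082303210127606208c040d,
    0x80903ab100546240e8c841919039b05260086c01cd8831b0210312762042424ec840c5d98818a2b2102131286262e8cc48d99090ab3010212660202eac509890892b21736042024cc489,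
    0x8090bab2131756460a8c04c55598b9b1317460642460d0cc14d8819091834b21021157620422acc609890ba3021155642e6c048c19980918ab30115462e4c45cd81091833b05262042460d0c840848c1a5,
    0x890832b2106460420cac14983131063600a6c041918802a3210135620268c04c555898aa30133662a6c4c98c13021346462a8c48c5559099b0123156624268c8484d5,
    0x891832b01230666460c8c04c4158081893303124620620ac4c4919881b021016664262eac048455988108ab3021746422a8c485d19098b2b01104602024ac048d88082311236204c1c9,
    0x8041b0120a5620108c0483d580810853b0121030886204246170cc8402198185a321321021320fc602042641f2c040840c842ad919081090553321230b76642414ccc83d191908107c3010230b764246420112c20981185ab20a361e4c02cd,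
    0x8109190804531212321008a64246420112c048408c2e58081081044b0210208762042046172c4840821d9081185bb21021232120bc62464246172c40c84084c22d9908109844b0102321230bb6026420426116c08c848c2e5990805b310230b66104c402119185a3010846024616cc8402d5,
    0x8081185bb100946204616cc0408482a188108107c30121020986242010cc4840848c2e989190804430102102132120ae6204246190c8c84084c83ed9908104bb32102130c96642041eecc30d990852b2123210089604616ac2498041b00f3624148c309,
    0x80908533010210a76042046420116c04840c2619908043313210087604128c04829588104ab30936426420130c848c840842ad9085231213210099624214ac3899091873301230e660204642042415ac048c8408482b1908104b32102120a862420412ec048c840265,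
    0x9091863301032102130cc6204618cc848c84026580810811865332102130c96242064130c0840848c32989190804c302321020996042464204136c08c3158190811864b092602618ac04c840826581904ab21009560424618ec3098909908104d3012130c76020412cc048408261,
    0x8909908104d30102321020fb6204642041f4c040840c842ad8810918743321021320fa620420642154c0c84084c83ed88190810855332100d66420642042156c8c84083e1811908107cb13210a6661c6c04c8429d9051b21230c6642012ac483d181091863b0120f56201a8c40840842a5,
    0x80909909055301021032120ac604642042154c484c84084c83f59908109054b1023210210ab60642041f0c040c842a1881091908107e31320f56464241eec484c8482a585131210321020fb62042414ec04083d990907ab01232102120fc64206424152c484084c842ad81081907c30210210a862042042641f6c840848c84083f5,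
    0x80909186432321230c8646188c0484084c83ed881081091865b2100d560464246172c4848c31d909907b3210212321020fd664241ecc4c84035d89862302102321020fc6206420426196c048c2d989907ab12321020f961a4c48c3158107a320c362042046172c8483d5,
    0x890990806cb2132100d8604264201b2cc848c39d990806b3132100d760642461d0c04c8403618819091874b30e36461c8c3498069b1230e56201a8c048c399871321230e664201aac484035981091873b012100d762042461d0c840848c3a5])]
    (by delta F4; rewrite [Fast.unz_eq, Fast.unp_eq]; decide +kernel)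

noncomputable def F4_bas : List (List ℤ × ℤ) :=
    (List.map (fun l => (l, 1)) (List.map (unz 2) [0x249249249249249249a, 0x49249249269a24926d1,
    0x49aa4924924924926d1, 0x49aa4924934d1249249, 0x14924924924da2492689, 0xd1249249a36d1249249,
    0x144924924926d2492689, 0x9344924da2492492689, 0x49b4924924924924d51, 0xaa268924d124d1249249,
    0x1549a4926924d1249249, 0xf1349249a24924924d1, 0x2492492492492493449, 0x249249249249a4d1249,
    0x49249249249249aa249, 0x249249249249a49a249, 0x249249249a492689249, 0x4924924924926a89249,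
    0x249249249a493449249, 0x2492493449249249249, 0x249249a249249249249, 0x24924d1249249249249,
    0x2492689249249249249, 0x2493449249249249249, 0x2689249249249249249]))

noncomputable def F4_inv : List (ℤ × List (ℤ × ℕ)) :=
    (List.zip (unz 3 0x8986942c2ca5294b3c58e242c48e38e38e50b0b2) (List.map (unv 3) [0x32,
    0x152664a247dc79cabd472d6a51cc4, 0x2a4cc9448fb8f3957a8e5a8e5a, 0xc92, 0x7c97496c9, 0x7c9e92d92, 0x25663650b2,
    0x25651b2859, 0x3e4f496c9, 0x15253259cc72, 0xa93325123ee3cebaf51d7a8e5a, 0x5494c96731cb5a9473a, 0x12b31b2859,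
    0x2e44a93325dc79d75e48ebd6a7b, 0x5c9549992ee75299, 0x13b2, 0x14b2, 0x15b2, 0x16b2, 0x17b2,
    0x54999289aee3ce55ea396b52d4c4, 0x2a4cc944d771e72af51cb51ca3, 0x18b2, 0xb9f2a4cc944c9dc79d75e48ebd6a5927b,
    0x15253259ca39]))

noncomputable def F4_cf : List (List (ℤ × ℕ) × ℤ) :=
    (List.zip (List.map (unv 4)
    [0x1858aeb01ecb0355643d170b3580f25904c560682e047a60472617530b8921169811498112921109811ce03e3908a7234390f94078b0b1c2862,
    0x7247522c4b4b481a531213eb1538e3, 0x7a427247522c4b4b484a4e7298909ce28a31,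
    0xf4f4e494d4a4c4b4b482d2416531213d228a31,
    0x185c755c2d16eb25befe9fdf92eba985c4c1a9202252f6e70118ef6a71b438ef940445ce308194,
    0xc2f25d603d97d2ab21e8b859ac078afa416fbfa5fc725eda9835a60452604425fc7380f8e3e29d9c4390f94078af68e0c1e4,
    0x30b2975808aac77a2dd66b01125befc909a9cf1306b4fef297b4240463bda9c6d0f0b16163750e3,
    0x185a4bac0d6582d5643d16eb3581a2b0582e07f4befc97b6a60d697de9303c2607e70363d7cd391a1c87ca068b068dec1a4,
    0x30b1bac25961d17126b09258ef158705c2f384ca1031,
    0x30bc97580f65fef558ef4590f3580f25904c56023d2fe3930ba975c4908b4c08a4c08948f884bf8e7fb63908a76710ecf397ed17778f870de7,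
    0x30b75eeb01ecbfdeab689a2c779ac0792c7e62b011e97f1c9ddf53c3e247c5a604526044a484425fc73fdb1c7c53b488721f2fda2c2c6ea1d4,
    0xc2e56eb03596822ab21e8b759ac0d258fcc568220b7f1e981f92eba985c48f8b4c0f497de5242212fbf381b1c7c53d8f0e43e50345858dd4395,
    0x1858aeb01ecb0355643d170b3580f25904c560682e047a5fc725d752eb891f1697f1497f1291f1097f1ce03e3908a7234390f94078aeb1ba862,
    0xc2e3bae07b2c16ab21e8b858aded05befe981f930ba983624845a5f784bf8e7035391a1c77cbf68dd431,
    0x6162bac16cbe945c2cd60b15f482df7f4bdb931353131243da5ed497b4a48784bdb9c169c8d94162c48e2062,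
    0x185c76582d5643d170b35c0f15bda0b7df9306d4c2da5fc526079490884befcff6a723438ef940d15d431,
    0xc2e3bae07b2c16ab21e8b858aded05befe97df92eba97b6247c5a60784c08e7035391a1c77cbf68e1431,
    0x6162bac16cbe945c2cd60b15f482df7f4c1b92d352d3123bda60d49834a47784c1b9c169c8d94162b48da062,
    0x185c76582d5643d170b35c0f15bda0b7df92f6d4bada604525f7948f884c0fcff6a723438ef940d161431,
    0xc2c6eb0965849afa4579fa61792d2d2ebcf9e5058e2062, 0x1858dd7d2cb0935848af3d4b4a4c2c25d79c172e7162062,
    0x1858dd7d2cb0935848af3d4c4a4bac26179c172e715a062, 0xc2c6eb0965849afa4579fa5d79312d30bcf9e5058da062,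
    0x1858aab0945e725faf2426a42627a4a7a6382d3870e122848c2062,
    0x6162aac25179c97ebc9cf539e2416520b8e0b4e1c3848b9c79862]) (unz 4
    0x4026013209904c826413202e40a9017202e40a90172019202e40324032422405e015202f00ac0f83607900c))

theorem F4_gen : FX F4
    (List.map (fun l => (l, 1)) (List.map (unz 2) [0x49249aa49b46d1aa6d5a, 0x9aab492492493c4cedaa,
    0x49249b449aa6a9aa6d5a, 0x68924926d2689b6daaaa, 0x136aa924924924926ada, 0x5249354d1346d1a368d1a,
    0x144926d1a4d369a368d1a, 0x1269aa4d55249249269a, 0x36933ab54d3554935449a, 0xaa99a353268d1344d13449,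
    0x5a99a3789a349a4d13449])) :=
  FX.ofC F4_good
    (FC.append (FC.delta F4 [8, 9, 10, 16, 18])
    (FC.append (FC.ind F4_good A1_good (FC.pick A1_fc [0] (by decide +kernel)) ⟨[0], 0xfe00, 0x123, (unp 4
    0x2153203d)⟩ (by decide +kernel))
    (FC.append (FC.ind F4_good A1_good (FC.pick A1_fc [0] (by decide +kernel)) ⟨[0], 0xfe00, 0x1102102123, (unp 6
    0x242026ac4840c840229)⟩ (by decide +kernel))
    (FC.append (FC.ind F4_good A2_good (FC.pick A2_fc [0] (by decide +kernel)) ⟨[0, 1],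
    0x1fe0108000000000000000000000000000000fe00, 0x13, (unp 5 0x201ed918346029)⟩ (by decide +kernel))
    (FC.append (FC.ind F4_good A1A1_good (FC.pick A1A1_fc [0] (by decide +kernel)) ⟨[0, 2],
    0xfe010010000000000000000000000000000000fe00, 0x11021021, (unp 5 0x87262420d58802c6204055)⟩
    (by decide +kernel))
    (FC.append (FC.ind F4_good A2A1_good (FC.pick A2A1_fc [3] (by decide +kernel)) ⟨[0, 1, 3],
    0xfffffffffffffffffffffffffe010000180000000000000000000000000001fe0108000000000000000000000000000000fe00, 0x1,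
    (unp 5 0x807b6460d1803b6029880146009)⟩ (by decide +kernel))
    (FC.ind F4_good A2A1_102_good (FC.pick A2A1_102_fc [3] (by decide +kernel)) ⟨[0, 1, 3],
    0xfffffffffffffffffffffffffe010000180000000000000000000000000001fe0108000000000000000000000000000000fe00,
    0x121021232102123210212, (unp 6 0x2304c848c8405e590990806c321021230e964204246420178c840848c841ad)⟩
    (by decide +kernel))))))))
    _ (Fs.ofC_of (by delta F4 A1_cf A2_cf A1A1_cf A2A1_cf A2A1_102_cf; rewrite [Fast.unz_eq, Fast.unv_eq, Fast.unp_eq]; decide +kernel))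

theorem F4_fx : FX F4 F4_bas := FX.comb F4_good F4_gen (List.zipWith (fun a b => ⟨a, b, 1⟩)
    (List.map (fun n => List.map Prod.swap (unv 4 n)) [0x706, 0x21, 0x21, 0x21, 0x21, 0x21, 0x21, 0x21, 0x21, 0x21,
    0x21, 0x21, 0x6f6, 0x385, 0x385, 0x385, 0x375, 0x375, 0x375, 0x1c4, 0x1c4, 0x1b4, 0x1b4, 0x305, 0x1f4])
    (List.map (unv 3) [0x32, 0x19, 0x132, 0x4a532, 0x572, 0x449, 0x672, 0x3b9, 0x239, 0x992, 0x549,
    0x1125dcc73a919, 0x19, 0x19, 0x1a9, 0x6a652, 0x32, 0x1a9, 0x35329, 0x572, 0x19, 0x32, 0x3b9, 0x99, 0x132]))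
    _ (Fs.comb_of (by delta F4 F4_bas; rewrite [Fast.unz_eq, Fast.unv_eq, Fast.unp_eq]; decide +kernel))

theorem F4_io : invOK F4 F4_bas F4_inv = true := Fs.invOK_of (by delta F4_bas F4_inv; rewrite [Fast.unz_eq, Fast.unv_eq]; decide +kernel)

noncomputable def F4_L : Lat := ⟨F4, F4_bas, F4_inv⟩

theorem F4_ok : F4_L.Ok := ⟨F4_good, F4_fx, F4_io⟩

noncomputable def F4_3210 : Nd where
  r := 4
  AL := [[2, -1, 0, 0], [-1, 2, -2, 0], [0, -1, 2, -1], [0, 0, -1, 2]]
  sg := [3, 2, 1, 0]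
  tab :=
    0xfffffffffffffffffffffffffe0100001800000000000000000000000000fe0100100000000000000000000000000001fe0108000000000000000000000000000000fe00
  tbs :=
    0xfe000000000000000000000000000001fe010800000000000000000000000000fe010010fffffffffffffffffffffffffe01000018
  n0 := 0x41414141
  RL :=
    (List.map (unz 3) [0x2232, 0x2321, 0x3211, 0x12111, 0x4652, 0x6521, 0xca31, 0x25211, 0xca52, 0x4a521, 0x328e3,
    0x94a31, 0x19472, 0x94a52, 0x2528e3, 0x128e31, 0x129472, 0x4a38e3, 0x251c72, 0x947123, 0x251e72, 0x967123,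
    0x4a3ce3, 0x11e7123])
  K := 11
  rep := (unp 7 0x909190810919081091c991909199908190810919318908190811a988190810a199091199099090d90598581)
  cod :=
    (unp 5 0x1d1ea0a1fbc3f4244f7e6c8e83e88827491fdd28f507dda120a1fbe414241f453d4143fc23f4241ffe848283e82828283f)
  nW := (unz 4 0x185c2e0d811211809c08904c82640a908)
  XC :=
    (List.map (unz 3) [0x444638e394a52, 0x44444466652, 0x119484466532, 0x46644466532, 0x252994cca4232,
    0x4888cca64232, 0x4622318ea5332, 0x12994ccca4232, 0x1d888c7a8e55d72, 0x1aef51c7dea59e72, 0x35123d47dea59e72])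
  nu := (unz 4 0x12019202e405c80b900c900c900c900c900c900c900c)
  b := 4
  B := 0x80000000000000
  cas :=
    [⟨[0, 1, 2, 3], [3, 2, 1, 2, 0, 1, 2, 3, 2, 1, 2, 0, 1, 2, 3, 2, 1, 2, 0, 1, 2, 0, 1, 0], (unp 6
    0x80b1013622c0484158908090bb21012562426c848d90b2123012103212d6246024206436c048c4840484c843d8918908090990eb23012103296462420242656c8c484c9d990918090819091fb3012103766242024272cc84048dd98909ab32123566466cc5),
    (unz 3 0x237b8a2237e85f986)⟩]

theorem F4_3210_good : F4_3210.Good := Fs.good_of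
    [(List.map (unp 6)
    [0x8009b01302562046c04c8408c0a98908100bb121021302962066c0c98113121021303962420426424038c04c8408c0e989081181c301321201862420426420403ac484805980990810981db01303560264204032c0c0d1890811814301321021302b606048c049,
    0x8001b01304562086c04c1558183230305462420aac48481599082230210207762420410ec048408c81e9909183b3012120676104c4c84819d8909903bb0132105760c4c48c81598829b0526084c009,
    0x9821b01004562006c0c825588108023b213045624008c800d801321032057620464240b2c04c840841a98908119082d303205564206420b0c48481198099081034b0321205762046420b0c0c84159890223092642088c109,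
    0x89182ab01021057624008c4c19190982ab305364006c0098801b0210076620460ecc0c82959039b01074620e6c48481598513030746264200eec04c1d58902a3132120676420a8c149,
    0x9811b01002562026c4084084c0a98810800bb0321023029624028c4840c09d818123102102321201c6204264030c084c84084c807588108190800db032101660464204032c084c84084c0b18119081080d30232100286204246420056c0c8055881181330230256024c089,
    0x8990810981530102102302a6204604cc04084084806d8810801bb210212018624202ac484805990811813b1210212303a62042042642003ac0c840848c0ed88108109190900f33210212019606420424034c04c84084c0ad990801b3321020176642002ccc0cd811812b01262026c0c9,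
    0x89908100c33210016604246420054c04c84084806d890810990900e32102132101a62426420032c4848c0dd9081900bb121021321003c60264204032c040c8400e5809190810900e301032102101b64204642042038c848c848065808190800cb130346024c40c80598090811814b0102102302a6204246420056c4840805d,
    0x8090981bb0102132101a604264204034c04840c84806d990900b3121321021201c606068c40c0d588109908100db121303664264202ec48408c8400ed8819b012132102303c62420606ec400d189081181c30102321003a64204264204038c04c84084c0ed8108100bb1021021201a62042042642403ac40c84084806d,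
    0x80908109908100f30102103201a620464204034c04084084c84075881081190900e30321021201a62420642042403ac0484c848069808190800cb023210201962042464204203ac84c840840698108190800d3132120176024c0484805d9081900bb2123210213201d64204642042038c484c840618108109190900eb21021201862042002ec484084c8408075,
    0x8108118143012302660206420426058c0484009d88109181431210212302a62042642042605ac084c84084c0b1809908109815b23210212302b6020426420056c04840c848c0b1909908014313210212302b6642004cc08c09599091813b01212321002b624246420054c48c8400a190811813b022620604ac4840c09d,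
    0x80909190801db01021321003b62042642042607ac04840c848c0f191908109181db13210212303b60426420426078c04c84084c0ed808190810981e332100366426420070cc848c0dd81181ab123210038620606ac048c0d981931212321003a64204606ec4840c0dd81081181c3012100376204246070c4840848c0e9])]
    (by delta F4_3210; rewrite [Fast.unz_eq, Fast.unp_eq]; decide +kernel)

noncomputable def F4_3210_bas : List (List ℤ × ℤ) :=
    (List.map (fun l => (l, 1)) (List.map (unz 2) [0x9249249a, 0x924924d1, 0x92492689, 0x92493449, 0x249aaa249,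
    0xa24d5a249, 0x344daa249, 0x1a4daa249, 0xe24d5a249, 0x93449249, 0x9a249249]))

noncomputable def F4_3210_inv : List (ℤ × List (ℤ × ℕ)) :=
    (List.zip (unz 3 0xce394a264c594a52) (List.map (unv 3) [0x32, 0x132, 0x252, 0x352, 0x2247de79e75c4,
    0x224d7a8f3, 0xee7398e3, 0x992, 0xa92, 0x1dce72, 0x224d72]))

noncomputable def F4_3210_cf : List (List (ℤ × ℕ) × ℤ) :=
    (List.zip (List.map (unv 3) [0x5494c9448fb85cf257068e1758b2c59c30e4, 0x5494c944d67ad772ee61463,
    0xa9299289acf5a892893f063, 0x5494c9448fb85cf257068e1757b2bd9bf0e4, 0xa9332624bbd57dc7a195,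
    0xa92992891f70b9e4affd1c28e4, 0x99dc49ef59dcae2479073, 0xa9dc49ef26772b891e873, 0x1523991c4e9deb3b95f71e873,
    0xa93325df71c4d5c964, 0xa92993dc48fbd5c964]) (unz 4 0x18360d8360d83607c1b02203c07c08))

theorem F4_3210_gen : FX F4_3210
    (List.map (fun l => (l, 1)) (List.map (unz 2) [0x4d5126d5a, 0xa49b5689a, 0x926aa89aa, 0x3893568f5a,
    0x69aab4d1a, 0x68dab4d1a])) :=
  FX.ofC F4_3210_good
    (FC.append (FC.delta F4_3210 [2, 5])
    (FC.append (FC.ind F4_3210_good A1A1_10_good (FC.pick A1A1_10_fc [0] (by decide +kernel)) ⟨[0, 2],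
    0xfe010010000000000000000000000000000000fe00, 0x13210, (unp 5 0x9900c664011)⟩ (by decide +kernel))
    (FC.append (FC.ind F4_3210_good A1A1_10_good (FC.pick A1A1_10_fc [0] (by decide +kernel)) ⟨[0, 2],
    0xfe010010000000000000000000000000000000fe00, 0x110210213210, (unp 6 0x264108c4084c840848075)⟩
    (by decide +kernel))
    (FC.append (FC.ind F4_3210_good B2_10_good (FC.pick B2_10_fc [0] (by decide +kernel)) ⟨[2, 1],
    0x1fe010800000000000000000000000000fe010010, 0x101210, (unp 6 0x130636020612cc04c8408c0a9)⟩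
    (by decide +kernel))
    (FC.ind F4_3210_good B2_10_good (FC.pick B2_10_fc [0] (by decide +kernel)) ⟨[2, 1],
    0x1fe010800000000000000000000000000fe010010, 0x1012103210213210, (unp 6 0x101030a660206420420d6c04c8408c0e9)⟩
    (by decide +kernel))))))
    _ (Fs.ofC_of (by delta F4_3210 A1A1_10_cf B2_10_cf; rewrite [Fast.unz_eq, Fast.unv_eq, Fast.unp_eq]; decide +kernel))

theorem F4_3210_fx : FX F4_3210 F4_3210_bas := FX.comb F4_3210_good F4_3210_gen (List.zipWith (fun a b => ⟨a, b, 1⟩)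
    (List.map (fun n => List.map Prod.swap (unv 4 n)) [0x706, 0x1f4, 0x305, 0x6f6, 0x21, 0x21, 0x21, 0x21, 0x21,
    0x385, 0x375])
    (List.map (unv 2) [0x5a, 0xaa, 0x13a, 0x5a, 0xaa, 0x2d, 0x9d, 0xbd, 0xea, 0x13a, 0x1a]))
    _ (Fs.comb_of (by delta F4_3210 F4_3210_bas; rewrite [Fast.unz_eq, Fast.unv_eq, Fast.unp_eq]; decide +kernel))

theorem F4_3210_io : invOK F4_3210 F4_3210_bas F4_3210_inv = true := Fs.invOK_of (by delta F4_3210_bas F4_3210_inv; rewrite [Fast.unz_eq, Fast.unv_eq]; decide +kernel)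

noncomputable def F4_3210_L : Lat := ⟨F4_3210, F4_3210_bas, F4_3210_inv⟩

theorem F4_3210_ok : F4_3210_L.Ok := ⟨F4_3210_good, F4_3210_fx, F4_3210_io⟩

noncomputable def D4_2130 : Nd where
  r := 4
  AL := [[2, -1, 0, 0], [-1, 2, -1, -1], [0, -1, 2, 0], [0, -1, 0, 2]]
  sg := [2, 1, 3, 0]
  tab :=
    0xfffffffffffffffffffffffffe00010018fffffffffffffffffffffffffffe0100100000000000000000000000000100fe0108000000000000000000000000000000fe00
  tbs :=
    0xfe00fffffffffffffffffffffffffe000100180000000000000000000000000100fe0108fffffffffffffffffffffffffffe010010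
  n0 := 0x41414141
  RL :=
    (List.map (unz 2) [0x49a, 0x4d1, 0x689, 0x1449, 0x9aa, 0xd51, 0x28d1, 0x1aaa, 0x51aa, 0x5551, 0xaaaa, 0x1553a])
  K := 7
  rep := (unp 6 0x10213102186062042cc8c491989311662c1)
  cod := (unp 5 0x7a7a887beed050cffde9fa121fbe424142f42423f42ffe828483e82828283f)
  nW := (unz 3 0x858342e0f83e0f06)
  XC := (List.map (unz 2) [0x673aaaa, 0x126daa, 0x126d5a, 0xaa689a, 0x2f7aa73a, 0xcfaada, 0x17b3aeea])
  nu := (unz 4 0x6027013809c04e027013809)
  b := 3
  B := 0x8000000000000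
  cas :=
    [⟨[0, 1, 2, 3], [3, 1, 2, 0, 1, 3, 0, 1, 2, 0, 1, 0], (unp 6
    0x80b1013622c8404959091b2162642024632cc84048dd98809ab32123566266cc5), (unz 3 0x446f6e64c5)⟩]

theorem D4_2130_good : D4_2130.Good := Fs.good_of
    [(List.map (unp 6) [0x9809b130146044c08c40598900a320136204604cc08c0958118900bb0213101762026c049,
    0x9801b01004562066c08c0d58901a320036240a8c08c40d989881ab0426064c009,
    0x8981a330336004cc14d89081ab21034620c6c1898082a3012305662066c0c9,
    0x89880ab0102101762026c48400998901232101460620404ecc400959811b01310166024c089,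
    0x81080ab01001560206202ec04084c0618109880bb013101664262402ecc480558918900bb012642028c48051,
    0x8918900bb0103026620604ac8c40809d88109813b3100256462004ccc08d9080a303024604202ac40091,
    0x89890133231020276204604ccc4009580989013b0103026604604ac089909812b01202560420604ec4840099])]
    (by delta D4_2130; rewrite [Fast.unz_eq, Fast.unp_eq]; decide +kernel)

noncomputable def D4_2130_bas : List (List ℤ × ℤ) :=
    (List.map (fun l => (l, 1)) (List.map (unz 2) [0x9249a, 0x924d1, 0x92689, 0x93449, 0x2d1249, 0x1aa249,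
    0xda249]))

noncomputable def D4_2130_inv : List (ℤ × List (ℤ × ℕ)) :=
    (List.zip (unz 2 0x4e73aaaa) (List.map (unv 2) [0x1a, 0x5a, 0xaa, 0xea, 0x3757a, 0x1bb7a, 0x376f53e]))

noncomputable def D4_2130_cf : List (List (ℤ × ℕ) × ℤ) :=
    (List.zip (List.map (unv 3) [0x672ae38e5ac92c939063, 0x19cd731ca55ce632, 0x19cd731ca59cd632,
    0x672ae38e5ac92b937063, 0xce55c71cb57063, 0x6728ebd5c185, 0x679d7f239d64]) (unz 3 0xc361b170d8b8b86))

theorem D4_2130_gen : FX D4_2130
    (List.map (fun l => (l, 1)) (List.map (unz 2) [0x673aaaa, 0xaa689a, 0x6a8d1a, 0x1aa69a])) :=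
  FX.ofC D4_2130_good
    (FC.append (FC.delta D4_2130 [0, 3])
    (FC.append (FC.ind D4_2130_good A1_good (FC.pick A1_fc [0] (by decide +kernel)) ⟨[0], 0xfe00, 0x11021, (unp 5
    0x88014620011)⟩ (by decide +kernel))
    (FC.ind D4_2130_good A1_good (FC.pick A1_fc [0] (by decide +kernel)) ⟨[0], 0xfe00, 0x110210, (unp 5
    0x982b62462039)⟩ (by decide +kernel))))
    _ (Fs.ofC_of (by delta D4_2130 A1_cf; rewrite [Fast.unz_eq, Fast.unv_eq, Fast.unp_eq]; decide +kernel))

theorem D4_2130_fx : FX D4_2130 D4_2130_bas := FX.comb D4_2130_good D4_2130_gen (List.zipWith (fun a b => ⟨a, b, 1⟩)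
    (List.map (fun n => List.map Prod.swap (unv 4 n)) [0x385, 0x1c4, 0x1b4, 0x375, 0x21, 0x21, 0x21])
    (List.map (unv 2) [0x5a, 0x1a, 0x1a, 0x1a, 0x2d, 0xaa, 0x75]))
    _ (Fs.comb_of (by delta D4_2130 D4_2130_bas; rewrite [Fast.unz_eq, Fast.unv_eq, Fast.unp_eq]; decide +kernel))

theorem D4_2130_io : invOK D4_2130 D4_2130_bas D4_2130_inv = true := Fs.invOK_of (by delta D4_2130_bas D4_2130_inv; rewrite [Fast.unz_eq, Fast.unv_eq]; decide +kernel)

noncomputable def D4_2130_L : Lat := ⟨D4_2130, D4_2130_bas, D4_2130_inv⟩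

theorem D4_2130_ok : D4_2130_L.Ok := ⟨D4_2130_good, D4_2130_fx, D4_2130_io⟩

noncomputable def A4 : Nd where
  r := 4
  AL := [[2, -1, 0, 0], [-1, 2, -1, 0], [0, -1, 2, -1], [0, 0, -1, 2]]
  sg := [0, 1, 2, 3]
  tab :=
    0xfffffffffffffffffffffffffe0100001800000000000000000000000000fe0100100000000000000000000000000000fe0108000000000000000000000000000000fe00
  tbs :=
    0xfffffffffffffffffffffffffe0100001800000000000000000000000000fe0100100000000000000000000000000000fe0108000000000000000000000000000000fe00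
  n0 := 0x41414141
  RL := (List.map (unz 2) [0x49a, 0x4d1, 0x689, 0x1449, 0x9aa, 0xd51, 0x2a89, 0x1aaa, 0x5551, 0xaaaa])
  K := 7
  rep := (unp 5 0x202471809b6024d81260298161)
  cod := (unp 5 0x4141413cffe86827de8482827bf847e867ff8284827df8282847ff82828283f)
  nW := (unz 3 0x186a379bd68d4b2)
  XC :=
    (List.map (unz 3) [0x192a54891252, 0x332d4732, 0x19994a52, 0x1a9484652, 0x6522332, 0xcca5332, 0x48466652])
  nu := (unz 4 0xf08f08f08f08f08f08f08)
  b := 6
  B := 0x20000000000000
  cas :=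
    [⟨[0, 1, 2, 3], [0, 1, 2, 3, 0, 1, 2, 0, 1, 0], (unp 5 0x996646d91664247590936259908091f6420255880b605), (unz 3
    0x3a8e6549da5)⟩]

theorem A4_good : A4.Good := Fs.good_of
    [(List.map (unp 6) [0x2420642030c40c8405d881080b30321016604202ac0405199080ab2101462026c049,
    0x246068cc0cd8193032025604048c008d99012320236044c009, 0x20a4cc81119021b1032046620408ac404d9821b0426024c04051,
    0x220420640b2c4084c81618093032055604088c010d9902a320436084c4084059,
    0x260c6c840c1999011b012065602068c4809183130226064c048095,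
    0x2044c40c1958803230130656020c8c48c0d59831b062646068c048c0d9,
    0x26086cc8151918223012055642640acc48c115821305262042640b0c048c119])]
    (by delta A4; rewrite [Fast.unz_eq, Fast.unp_eq]; decide +kernel)

noncomputable def A4_bas : List (List ℤ × ℤ) :=
    (List.map (fun l => (l, 1)) (List.map (unz 2) [0x9249a, 0x924d1, 0x92689, 0x93449, 0x9a249, 0xd1249,
    0x289249]))

noncomputable def A4_inv : List (ℤ × List (ℤ × ℕ)) :=
    (List.zip (unz 2 0xaaaaaaa) (List.map (unv 2) [0x1a, 0x5a, 0xaa, 0xea, 0x13a, 0x17a, 0x1ba]))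

theorem A4_gen : FX A4
    (List.map (fun l => (l, 1)) (List.map (unz 3) [0x192a54891252, 0x19994a52, 0x48466652])) :=
  FX.ofC A4_good
    (FC.delta A4 [0, 2, 6])
    _ (Fs.ofC_of (by delta A4; rewrite [Fast.unz_eq, Fast.unp_eq]; decide +kernel))

theorem A4_fx : FX A4 A4_bas := FX.comb A4_good A4_gen (List.zipWith (fun a b => ⟨a, b, 1⟩)
    (List.map (fun n => List.map Prod.swap (unv 4 n)) [0x345, 0x335, 0x1a4, 0x194, 0xc3, 0x72, 0x21])
    (List.map (unv 2) [0x1a, 0x1a, 0x5a, 0x5a, 0x2d, 0x2d, 0xaa]))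
    _ (Fs.comb_of (by delta A4 A4_bas; rewrite [Fast.unz_eq, Fast.unv_eq, Fast.unp_eq]; decide +kernel))

theorem A4_io : invOK A4 A4_bas A4_inv = true := Fs.invOK_of (by delta A4_bas A4_inv; rewrite [Fast.unz_eq, Fast.unv_eq]; decide +kernel)

noncomputable def A4_L : Lat := ⟨A4, A4_bas, A4_inv⟩

theorem A4_ok : A4_L.Ok := ⟨A4_good, A4_fx, A4_io⟩

noncomputable def A4_3210 : Nd where
  r := 4
  AL := [[2, -1, 0, 0], [-1, 2, -1, 0], [0, -1, 2, -1], [0, 0, -1, 2]]
  sg := [3, 2, 1, 0]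
  tab :=
    0xfffffffffffffffffffffffffe0100001800000000000000000000000000fe0100100000000000000000000000000000fe0108000000000000000000000000000000fe00
  tbs :=
    0xfe000000000000000000000000000000fe010800000000000000000000000000fe010010fffffffffffffffffffffffffe01000018
  n0 := 0x41414141
  RL := (List.map (unz 2) [0x49a, 0x4d1, 0x689, 0x1449, 0x9aa, 0xd51, 0x2a89, 0x1aaa, 0x5551, 0xaaaa])
  K := 7
  rep := (unp 6 0x10102103210a602428c0498909b11602c1)
  cod := (unp 5 0x7e7e7e7fe867e847bf8284827df867e7e87f82847e85f8282847ff82828283f)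
  nW := (unz 3 0x12a361a968de6f5)
  XC :=
    (List.map (unz 3) [0x46394a52, 0x4466652, 0x94866532, 0xd6866532, 0x4ca64232, 0x4a465332, 0x89ddc954a92])
  nu := (unz 4 0xf08f08f08f08f08f08f08)
  b := 6
  B := 0x20000000000000
  cas :=
    [⟨[0, 1, 2, 3], [0, 1, 2, 3, 0, 1, 2, 0, 1, 0], (unp 5 0x996646d91664247590936259908091f6420255880b605), (unz 3
    0x132a0cec7aa5)⟩]

theorem A4_3210_good : A4_3210.Good := Fs.good_of
    [(List.map (unp 5) [0x800b602605588136242003981a60498181c6242035818146029,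
    0x8003602009590236060b19082c606091810802e60a98226009, 0x80236420095900362040958803600980982d62046099818246089,
    0x90802d6200b18803600ad8026400d8326420b1882b60a9, 0x80136426055900b602640399080c60605180800d620605580a6049,
    0x8090800f60204039881815624607589080d624031801b6029900b6069,
    0x90801d62007188181d6006d8181c604607581a6606d9181c6246075])]
    (by delta A4_3210; rewrite [Fast.unz_eq, Fast.unp_eq]; decide +kernel)

noncomputable def A4_3210_bas : List (List ℤ × ℤ) :=
    (List.map (fun l => (l, 1)) (List.map (unz 2) [0x9249a, 0x924d1, 0x92689, 0x93449, 0x9a249, 0xd1249,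
    0x289249]))

noncomputable def A4_3210_inv : List (ℤ × List (ℤ × ℕ)) :=
    (List.zip (unz 2 0xaaaaaaa) (List.map (unv 2) [0x1a, 0x5a, 0xaa, 0xea, 0x13a, 0x17a, 0x1ba]))

noncomputable def A4_3210_cf : List (List (ℤ × ℕ) × ℤ) :=
    (List.zip (List.map (unv 3) [0x19caba34786d52ca8d3e61f5, 0x19cabef5a97739073, 0x672afbd4728937073,
    0x19caba34786d4eca7d3de1f5, 0x19cc7d8d4, 0xce6b991e4d4c954, 0x19caba91dcd4c954]) (unz 4 0x3c6f1a86f08c1b06f08))

theorem A4_3210_gen : FX A4_3210
    (List.map (fun l => (l, 1)) (List.map (unz 2) [0x133aaaa, 0xb5689a])) :=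
  FX.ofC A4_3210_good
    (FC.delta A4_3210 [0, 4])
    _ (Fs.ofC_of (by delta A4_3210; rewrite [Fast.unz_eq, Fast.unp_eq]; decide +kernel))

theorem A4_3210_fx : FX A4_3210 A4_3210_bas := FX.comb A4_3210_good A4_3210_gen (List.zipWith (fun a b => ⟨a, b, 1⟩)
    (List.map (fun n => List.map Prod.swap (unv 4 n)) [0x345, 0x72, 0xc3, 0x335, 0x21, 0x1a4, 0x194])
    (List.map (unv 2) [0x1a, 0x1a, 0x1a, 0x1a, 0x2d, 0x5a, 0x2d]))
    _ (Fs.comb_of (by delta A4_3210 A4_3210_bas; rewrite [Fast.unz_eq, Fast.unv_eq, Fast.unp_eq]; decide +kernel))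

theorem A4_3210_io : invOK A4_3210 A4_3210_bas A4_3210_inv = true := Fs.invOK_of (by delta A4_3210_bas A4_3210_inv; rewrite [Fast.unz_eq, Fast.unv_eq]; decide +kernel)

theorem A4_3210_fc : FC A4_3210 A4_3210_cf := FC.ofX A4_3210_good A4_3210_fx _ (Fs.ofX_of (by delta A4_3210 A4_3210_cf A4_3210_bas; rewrite [Fast.unz_eq, Fast.unv_eq, Fast.unp_eq]; decide +kernel))

noncomputable def A4_3210_L : Lat := ⟨A4_3210, A4_3210_bas, A4_3210_inv⟩

theorem A4_3210_ok : A4_3210_L.Ok := ⟨A4_3210_good, A4_3210_fx, A4_3210_io⟩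

noncomputable def A2A1A1 : Nd where
  r := 4
  AL := [[2, -1, 0, 0], [-1, 2, 0, 0], [0, 0, 2, 0], [0, 0, 0, 2]]
  sg := [0, 1, 2, 3]
  tab :=
    0xfffffffffffffffffffffffffe00000018fffffffffffffffffffffffffffe000010fffffffffffffffffffffffffffffe0108000000000000000000000000000000fe00
  tbs :=
    0xfffffffffffffffffffffffffe00000018fffffffffffffffffffffffffffe000010fffffffffffffffffffffffffffffe0108000000000000000000000000000000fe00
  n0 := 0x41414141
  RL := (List.map (unz 2) [0x49a, 0x4d1, 0x689, 0x1449, 0x9aa])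
  K := 12
  rep := (unp 5 0x8091c6046d809b6024d91a60698126029996458161)
  cod :=
    (unp 5
    0x3f3f413ef7e7e847fefd0504fbd04fd04fbff9fa0a0fbf41423ff413f423ffc141413effe828283e827e8283f8282847ff82828283f)
  nW := (unz 2 0x9ee73adee755ba)
  XC :=
    (List.map (unz 2) [0x9ce73aaaaaaaa, 0x249b6daaaa, 0x3ba73b6aadaa, 0x3a7d3b56ad5a, 0xb6daaaaaaaa, 0x249aab6daa,
    0x249ab56d5a, 0x27dd3ab6aada, 0x2aadb6aadaa, 0x2ad5b56ad5a, 0x249b556ada, 0x2d55ab6aada])
  nu := (unz 3 0xc361b0d86c361b0d86c361b0d86)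
  b := 2
  B := 0x800000000000
  cas :=
    [⟨[0, 1], [0, 1, 0], (unp 4 0x456203b05), (unz 2 0x249bdef7def7b)⟩, ⟨[2], [2], (unp 3 0x95), (unz 2
    0x2daab6aadaa)⟩, ⟨[3], [3], (unp 3 0x9d), (unz 2 0x2d5ab56ad5a)⟩]

theorem A2A1A1_good : A2A1A1.Good := Fs.good_of
    [(List.map (unp 5) [0x202031880b6029, 0x2008d8226009, 0x2020b1882b60a9, 0x2020d1883360c9, 0x2202d80a602031,
    0x2010d8426049, 0x2012d84a6069, 0x20215188536149, 0x220ad82a6020b1, 0x220cd8326020d1, 0x2016d85a60e9,
    0x2214d852602151]), (List.map (unp 4) [0x1029, 0x1059, 0x1009, 0x1079, 0x1089, 0x1019, 0x10a9, 0x1039, 0x1049,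
    0x10b9, 0x1069, 0x1099]), (List.map (unp 4) [0x1039, 0x1069, 0x1079, 0x1009, 0x1099, 0x10a9, 0x1019, 0x1029,
    0x10b9, 0x1049, 0x1059, 0x1089])]
    (by delta A2A1A1; rewrite [Fast.unz_eq, Fast.unp_eq]; decide +kernel)

noncomputable def A2A1A1_bas : List (List ℤ × ℤ) :=
    (List.map (fun l => (l, 1)) (List.map (unz 2) [0x49249249a, 0x4924924d1, 0x492492689, 0x492493449, 0x49249a249,
    0x4924d1249, 0x492689249, 0x493449249, 0x49a249249, 0x4d1249249, 0x689249249, 0x1449249249]))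

noncomputable def A2A1A1_inv : List (ℤ × List (ℤ × ℕ)) :=
    (List.zip (unz 2 0xaaaaaaaaaaaa) (List.map (unv 3) [0x32, 0x132, 0x252, 0x352, 0x472, 0x572, 0x672, 0x772,
    0x892, 0x992, 0xa92, 0xb92]))

theorem A2A1A1_gen : FX A2A1A1
    (List.map (fun l => (l, 1)) (List.map (unz 2) [0x9ce73aaaaaaaa, 0xb6daaaaaaaa])) :=
  FX.ofC A2A1A1_good
    (FC.delta A2A1A1 [0, 4])
    _ (Fs.ofC_of (by delta A2A1A1; rewrite [Fast.unz_eq, Fast.unp_eq]; decide +kernel))

theorem A2A1A1_fx : FX A2A1A1 A2A1A1_bas := FX.comb A2A1A1_good A2A1A1_gen (List.zipWith (fun a b => ⟨a, b, 1⟩)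
    (List.map (fun n => List.map Prod.swap (unv 4 n)) [0x4514620e3, 0x228c620e3, 0x228a310e3, 0x1146310e3,
    0x4514620d3, 0x228c620d3, 0x228a310d3, 0x1146310d3, 0x114518821, 0x8a318821, 0x8a28c421, 0x4518c421])
    (List.map (unv 2) [0x1a, 0x1a, 0x1a, 0x1a, 0x1a, 0x1a, 0x1a, 0x1a, 0x2d, 0x2d, 0x2d, 0x2d]))
    _ (Fs.comb_of (by delta A2A1A1 A2A1A1_bas; rewrite [Fast.unz_eq, Fast.unv_eq, Fast.unp_eq]; decide +kernel))

theorem A2A1A1_io : invOK A2A1A1 A2A1A1_bas A2A1A1_inv = true := Fs.invOK_of (by delta A2A1A1_bas A2A1A1_inv; rewrite [Fast.unz_eq, Fast.unv_eq]; decide +kernel)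

noncomputable def A2A1A1_L : Lat := ⟨A2A1A1, A2A1A1_bas, A2A1A1_inv⟩

theorem A2A1A1_ok : A2A1A1_L.Ok := ⟨A2A1A1_good, A2A1A1_fx, A2A1A1_io⟩

noncomputable def A2A1A1_0132 : Nd where
  r := 4
  AL := [[2, -1, 0, 0], [-1, 2, 0, 0], [0, 0, 2, 0], [0, 0, 0, 2]]
  sg := [0, 1, 3, 2]
  tab :=
    0xfffffffffffffffffffffffffe00000018fffffffffffffffffffffffffffe000010fffffffffffffffffffffffffffffe0108000000000000000000000000000000fe00
  tbs :=
    0xfffffffffffffffffffffffffffe000010fffffffffffffffffffffffffe00000018fffffffffffffffffffffffffffffe0108000000000000000000000000000000fe00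
  n0 := 0x41414141
  RL := (List.map (unz 2) [0x49a, 0x4d1, 0x689, 0x1449, 0x9aa])
  K := 6
  rep := (unp 4 0x2027b03980ccd60b1)
  cod := (unp 5 0x1fa0a09f7bf41423ff4141413effe828283e8282847ff82828283f)
  nW := (unz 3 0x8992247923)
  XC := (List.map (unz 2) [0x273aaaa, 0x26daa, 0x74ed5a, 0x2daaaa, 0x26ada, 0x156d5a])
  nu := (unz 3 0x30d86c361b0d86)
  b := 2
  B := 0x800000000000
  cas :=
    [⟨[0, 1], [0, 1, 0], (unp 4 0x456203b05), (unz 2 0x9bdf7b)⟩, ⟨[2, 3], [3, 2], (unp 3 0x959d), (unz 2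
    0x74fa7d3)⟩]

theorem A2A1A1_0132_good : A2A1A1_0132.Good := Fs.good_of
    [(List.map (unp 5) [0x202031880b6029, 0x2006d81a6009, 0x20209188236089, 0x2202d80a602031, 0x200ad82a6049,
    0x2208d822602091]), (List.map (unp 4) [0x2405b029, 0x2409b049, 0x2401b009, 0x240bb059, 0x2403b019,
    0x2407b039])]
    (by delta A2A1A1_0132; rewrite [Fast.unz_eq, Fast.unp_eq]; decide +kernel)

noncomputable def A2A1A1_0132_bas : List (List ℤ × ℤ) :=
    (List.map (fun l => (l, 1)) (List.map (unz 2) [0x1249a, 0x124d1, 0x12689, 0x13449, 0x1a249, 0x51249]))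

noncomputable def A2A1A1_0132_inv : List (ℤ × List (ℤ × ℕ)) :=
    (List.zip (unz 2 0xaaaaaa) (List.map (unv 2) [0x1a, 0x5a, 0xaa, 0xea, 0x13a, 0x17a]))

theorem A2A1A1_0132_gen : FX A2A1A1_0132
    (List.map (fun l => (l, 1)) (List.map (unz 2) [0x273aaaa, 0x2daaaa])) :=
  FX.ofC A2A1A1_0132_good
    (FC.delta A2A1A1_0132 [0, 3])
    _ (Fs.ofC_of (by delta A2A1A1_0132; rewrite [Fast.unz_eq, Fast.unp_eq]; decide +kernel))

theorem A2A1A1_0132_fx : FX A2A1A1_0132 A2A1A1_0132_bas := FX.comb A2A1A1_0132_good A2A1A1_0132_gen (List.zipWith (fun a b => ⟨a, b, 1⟩)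
    (List.map (fun n => List.map Prod.swap (unv 4 n)) [0x8c30e3, 0x4720e3, 0x8c30d3, 0x4720d3, 0x230c21, 0x11c821])
    (List.map (unv 2) [0x1a, 0x1a, 0x1a, 0x1a, 0x2d, 0x2d]))
    _ (Fs.comb_of (by delta A2A1A1_0132 A2A1A1_0132_bas; rewrite [Fast.unz_eq, Fast.unv_eq, Fast.unp_eq]; decide +kernel))

theorem A2A1A1_0132_io : invOK A2A1A1_0132 A2A1A1_0132_bas A2A1A1_0132_inv = true := Fs.invOK_of (by delta A2A1A1_0132_bas A2A1A1_0132_inv; rewrite [Fast.unz_eq, Fast.unv_eq]; decide +kernel)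

noncomputable def A2A1A1_0132_L : Lat := ⟨A2A1A1_0132, A2A1A1_0132_bas, A2A1A1_0132_inv⟩

theorem A2A1A1_0132_ok : A2A1A1_0132_L.Ok := ⟨A2A1A1_0132_good, A2A1A1_0132_fx, A2A1A1_0132_io⟩

noncomputable def A2A1A1_1023 : Nd where
  r := 4
  AL := [[2, -1, 0, 0], [-1, 2, 0, 0], [0, 0, 2, 0], [0, 0, 0, 2]]
  sg := [1, 0, 2, 3]
  tab :=
    0xfffffffffffffffffffffffffe00000018fffffffffffffffffffffffffffe000010fffffffffffffffffffffffffffffe0108000000000000000000000000000000fe00
  tbs :=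
    0xfffffffffffffffffffffffffe00000018fffffffffffffffffffffffffffe000010000000000000000000000000000000fe00fffffffffffffffffffffffffffffe0108
  n0 := 0x41414141
  RL := (List.map (unz 2) [0x49a, 0x4d1, 0x689, 0x1449, 0x9aa])
  K := 12
  rep := (unp 5 0x80811d6046d91a602071808146069812665916020d8161)
  cod :=
    (unp 5
    0x3f3f3f3ff7e7e847fefcfd0507dfa09f9ffa09f9f9ffff41423ff413f423fffe828283e827e8283f82827e7ff8282847ff82828283f)
  nW := (unz 2 0xa9eeaa73deea7b)
  XC :=
    (List.map (unz 2) [0x249aaaaaaaa, 0xaaaab6daaaa, 0xeeeeb6daaaa, 0x249b6aadaa, 0x249b56ad5a, 0x2daaaab6daa,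
    0x2d5aab56d5a, 0x273eeaab6daa, 0x27d3eab56d5a, 0x249ab6aada, 0x2adab556ada, 0x3a73eb556ada])
  nu := (unz 3 0xc361b0d86c361b0d86c361b0d86)
  b := 2
  B := 0x800000000000
  cas :=
    [⟨[0, 1], [0, 1, 0], (unp 4 0x456203b05), (unz 2 0x249bdef7def7b)⟩, ⟨[2], [2], (unp 3 0x95), (unz 2
    0x2daab6aadaa)⟩, ⟨[3], [3], (unp 3 0x9d), (unz 2 0x2d5ab56ad5a)⟩]

theorem A2A1A1_1023_good : A2A1A1_1023.Good := Fs.good_of
    [(List.map (unp 4) [0x40076053019, 0x44036001b009, 0x40036013100d, 0x401760f3059, 0x401b6113069,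
    0x440f6007b039, 0x44136009b049, 0x400f6073103d, 0x40136093104d, 0x402b61730a9, 0x44276013b099,
    0x40276133109d]), (List.map (unp 4) [0x1039, 0x1059, 0x1079, 0x1009, 0x1099, 0x1019, 0x10a9, 0x1029, 0x10b9,
    0x1049, 0x1069, 0x1089]), (List.map (unp 4) [0x1049, 0x1069, 0x1089, 0x1099, 0x1009, 0x10a9, 0x1019, 0x10b9,
    0x1029, 0x1039, 0x1059, 0x1079])]
    (by delta A2A1A1_1023; rewrite [Fast.unz_eq, Fast.unp_eq]; decide +kernel)

noncomputable def A2A1A1_1023_bas : List (List ℤ × ℤ) :=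
    (List.map (fun l => (l, 1)) (List.map (unz 2) [0x49249249a, 0x4924924d1, 0x492492689, 0x492493449, 0x49249a249,
    0x4924d1249, 0x492689249, 0x493449249, 0x49a249249, 0x4d1249249, 0x689249249, 0x1449249249]))

noncomputable def A2A1A1_1023_inv : List (ℤ × List (ℤ × ℕ)) :=
    (List.zip (unz 2 0xaaaaaaaaaaaa) (List.map (unv 3) [0x32, 0x132, 0x252, 0x352, 0x472, 0x572, 0x672, 0x772,
    0x892, 0x992, 0xa92, 0xb92]))

theorem A2A1A1_1023_gen : FX A2A1A1_1023
    (List.map (fun l => (l, 1)) (List.map (unz 2) [0x249aaaaaaaa, 0xaaaab6daaaa])) :=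
  FX.ofC A2A1A1_1023_good
    (FC.delta A2A1A1_1023 [0, 1])
    _ (Fs.ofC_of (by delta A2A1A1_1023; rewrite [Fast.unz_eq, Fast.unp_eq]; decide +kernel))

theorem A2A1A1_1023_fx : FX A2A1A1_1023 A2A1A1_1023_bas := FX.comb A2A1A1_1023_good A2A1A1_1023_gen (List.zipWith (fun a b => ⟨a, b, 1⟩)
    (List.map (fun n => List.map Prod.swap (unv 4 n)) [0x4514620e3, 0x228c620e3, 0x228a310e3, 0x1146310e3,
    0x4514620d3, 0x228c620d3, 0x228a310d3, 0x1146310d3, 0x114518821, 0x8a318821, 0x8a28c421, 0x4518c421])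
    (List.map (unv 2) [0x1a, 0x1a, 0x1a, 0x1a, 0x1a, 0x1a, 0x1a, 0x1a, 0x5a, 0x5a, 0x5a, 0x5a]))
    _ (Fs.comb_of (by delta A2A1A1_1023 A2A1A1_1023_bas; rewrite [Fast.unz_eq, Fast.unv_eq, Fast.unp_eq]; decide +kernel))

theorem A2A1A1_1023_io : invOK A2A1A1_1023 A2A1A1_1023_bas A2A1A1_1023_inv = true := Fs.invOK_of (by delta A2A1A1_1023_bas A2A1A1_1023_inv; rewrite [Fast.unz_eq, Fast.unv_eq]; decide +kernel)

noncomputable def A2A1A1_1023_L : Lat := ⟨A2A1A1_1023, A2A1A1_1023_bas, A2A1A1_1023_inv⟩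

theorem A2A1A1_1023_ok : A2A1A1_1023_L.Ok := ⟨A2A1A1_1023_good, A2A1A1_1023_fx, A2A1A1_1023_io⟩

noncomputable def A2A1A1_1032 : Nd where
  r := 4
  AL := [[2, -1, 0, 0], [-1, 2, 0, 0], [0, 0, 2, 0], [0, 0, 0, 2]]
  sg := [1, 0, 3, 2]
  tab :=
    0xfffffffffffffffffffffffffe00000018fffffffffffffffffffffffffffe000010fffffffffffffffffffffffffffffe0108000000000000000000000000000000fe00
  tbs :=
    0xfffffffffffffffffffffffffffe000010fffffffffffffffffffffffffe00000018000000000000000000000000000000fe00fffffffffffffffffffffffffffffe0108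
  n0 := 0x41414141
  RL := (List.map (unz 2) [0x49a, 0x4d1, 0x689, 0x1449, 0x9aa])
  K := 6
  rep := (unp 5 0x8081c6069996020d8161)
  cod := (unp 5 0x1fa09f9ffbf41423ff7e828283e82827e7ff8282847ff82828283f)
  nW := (unz 3 0x8e2648e264)
  XC := (List.map (unz 2) [0x9aaaa, 0x2aadaa, 0x3badaa, 0x26d5a, 0x16aada, 0x4faada])
  nu := (unz 3 0x30d86c361b0d86)
  b := 2
  B := 0x800000000000
  cas :=
    [⟨[0, 1], [0, 1, 0], (unp 4 0x456203b05), (unz 2 0x9bdf7b)⟩, ⟨[2, 3], [3, 2], (unp 3 0x959d), (unz 2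
    0x74fa7d3)⟩]

theorem A2A1A1_1032_good : A2A1A1_1032.Good := Fs.good_of
    [(List.map (unp 4) [0x40076053019, 0x44036001b009, 0x40036013100d, 0x401360b3049, 0x440f6007b039,
    0x400f6073103d]), (List.map (unp 4) [0x2407b039, 0x2409b049, 0x240bb059, 0x2401b009, 0x2403b019, 0x2405b029])]
    (by delta A2A1A1_1032; rewrite [Fast.unz_eq, Fast.unp_eq]; decide +kernel)

noncomputable def A2A1A1_1032_bas : List (List ℤ × ℤ) :=
    (List.map (fun l => (l, 1)) (List.map (unz 2) [0x1249a, 0x124d1, 0x12689, 0x13449, 0x1a249, 0x51249]))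

noncomputable def A2A1A1_1032_inv : List (ℤ × List (ℤ × ℕ)) :=
    (List.zip (unz 2 0xaaaaaa) (List.map (unv 2) [0x1a, 0x5a, 0xaa, 0xea, 0x13a, 0x17a]))

theorem A2A1A1_1032_gen : FX A2A1A1_1032
    (List.map (fun l => (l, 1)) (List.map (unz 2) [0x9aaaa, 0x2aadaa])) :=
  FX.ofC A2A1A1_1032_good
    (FC.delta A2A1A1_1032 [0, 1])
    _ (Fs.ofC_of (by delta A2A1A1_1032; rewrite [Fast.unz_eq, Fast.unp_eq]; decide +kernel))

theorem A2A1A1_1032_fx : FX A2A1A1_1032 A2A1A1_1032_bas := FX.comb A2A1A1_1032_good A2A1A1_1032_gen (List.zipWith (fun a b => ⟨a, b, 1⟩)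
    (List.map (fun n => List.map Prod.swap (unv 4 n)) [0x8c30e3, 0x4720e3, 0x8c30d3, 0x4720d3, 0x230c21, 0x11c821])
    (List.map (unv 2) [0x1a, 0x1a, 0x1a, 0x1a, 0x5a, 0x5a]))
    _ (Fs.comb_of (by delta A2A1A1_1032 A2A1A1_1032_bas; rewrite [Fast.unz_eq, Fast.unv_eq, Fast.unp_eq]; decide +kernel))

theorem A2A1A1_1032_io : invOK A2A1A1_1032 A2A1A1_1032_bas A2A1A1_1032_inv = true := Fs.invOK_of (by delta A2A1A1_1032_bas A2A1A1_1032_inv; rewrite [Fast.unz_eq, Fast.unv_eq]; decide +kernel)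

noncomputable def A2A1A1_1032_L : Lat := ⟨A2A1A1_1032, A2A1A1_1032_bas, A2A1A1_1032_inv⟩

theorem A2A1A1_1032_ok : A2A1A1_1032_L.Ok := ⟨A2A1A1_1032_good, A2A1A1_1032_fx, A2A1A1_1032_io⟩

noncomputable def A3A1 : Nd where
  r := 4
  AL := [[2, -1, 0, 0], [-1, 2, -1, 0], [0, -1, 2, 0], [0, 0, 0, 2]]
  sg := [0, 1, 2, 3]
  tab :=
    0xfffffffffffffffffffffffffe00000018fffffffffffffffffffffffffffe0100100000000000000000000000000000fe0108000000000000000000000000000000fe00
  tbs :=
    0xfffffffffffffffffffffffffe00000018fffffffffffffffffffffffffffe0100100000000000000000000000000000fe0108000000000000000000000000000000fe00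
  n0 := 0x41414141
  RL := (List.map (unz 2) [0x49a, 0x4d1, 0x689, 0x1449, 0x9aa, 0xd51, 0x1aaa])
  K := 10
  rep := (unp 5 0x8091c6046d809b6024d81a604980a6658161)
  cod := (unp 5 0x7e82827befcfd0cffdfa1209f7a0a0a09efff41423ff413f433ffc142413effe828283e8282847ff82828283f)
  nW := (unz 3 0x32670b932670b2c92)
  XC :=
    (List.map (unz 2) [0x37bdee73aaaa, 0x2daa26daa, 0x5f77df4ed5a, 0x926daaaa, 0x2db673aaaa, 0x2ada26ada,
    0x2aad26daa, 0x49356d5a, 0x156af4ed5a, 0x2d5526ada])
  nu := (unz 3 0xc1f07c1f07c1f07c1f07c1f07)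
  b := 3
  B := 0x2000000000000
  cas :=
    [⟨[0, 1, 2], [0, 1, 2, 0, 1, 0], (unp 5 0x916424d896420255880b605), (unz 3 0x35a8e311b973264)⟩, ⟨[3], [3], (unp
    3 0x9d), (unz 2 0x5ab56ad5a)⟩]

theorem A3A1_good : A3A1.Good := Fs.good_of
    [(List.map (unp 5) [0x881080e60420358080c642031880b6029, 0x822604071801b6406d81a6009,
    0x881082e60420b58082c6420b1882b60a9, 0x903362040d5880b60c980a602031, 0x80a6040d18033640cd83262042039,
    0x8426040f1803b640ed83a6049, 0x901b6020918901c60698226024075, 0x904b6204135882b612982a6020b1,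
    0x82a604131804b6412d84a620420b9, 0x903b6021118903c60e984260240f5]), (List.map (unp 4) [0x1029, 0x1059, 0x1009,
    0x1079, 0x1089, 0x1019, 0x1099, 0x1039, 0x1049, 0x1069])]
    (by delta A3A1; rewrite [Fast.unz_eq, Fast.unp_eq]; decide +kernel)

noncomputable def A3A1_bas : List (List ℤ × ℤ) :=
    (List.map (fun l => (l, 1)) (List.map (unz 2) [0x1249249a, 0x124924d1, 0x12492689, 0x12493449, 0x1249a249,
    0x124d1249, 0x12689249, 0x13449249, 0x1a249249, 0x51249249]))

noncomputable def A3A1_inv : List (ℤ × List (ℤ × ℕ)) :=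
    (List.zip (unz 2 0xaaaaaaaaaa) (List.map (unv 3) [0x32, 0x132, 0x252, 0x352, 0x472, 0x572, 0x672, 0x772, 0x892,
    0x992]))

theorem A3A1_gen : FX A3A1
    (List.map (fun l => (l, 1)) (List.map (unz 2) [0x37bdee73aaaa, 0x2daa26daa, 0x926daaaa])) :=
  FX.ofC A3A1_good
    (FC.delta A3A1 [0, 1, 3])
    _ (Fs.ofC_of (by delta A3A1; rewrite [Fast.unz_eq, Fast.unp_eq]; decide +kernel))

theorem A3A1_fx : FX A3A1 A3A1_bas := FX.comb A3A1_good A3A1_gen (List.zipWith (fun a b => ⟨a, b, 1⟩)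
    (List.map (fun n => List.map Prod.swap (unv 4 n)) [0x8c41c4, 0x4621c4, 0x8c41b4, 0x4621b4, 0x118821, 0x8c421,
    0x4620c3, 0x2310c3, 0x231072, 0x118872])
    (List.map (unv 2) [0x1a, 0x1a, 0x1a, 0x1a, 0x55, 0x55, 0x5a, 0x5a, 0x2d, 0x2d]))
    _ (Fs.comb_of (by delta A3A1 A3A1_bas; rewrite [Fast.unz_eq, Fast.unv_eq, Fast.unp_eq]; decide +kernel))

theorem A3A1_io : invOK A3A1 A3A1_bas A3A1_inv = true := Fs.invOK_of (by delta A3A1_bas A3A1_inv; rewrite [Fast.unz_eq, Fast.unv_eq]; decide +kernel)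

noncomputable def A3A1_L : Lat := ⟨A3A1, A3A1_bas, A3A1_inv⟩

theorem A3A1_ok : A3A1_L.Ok := ⟨A3A1_good, A3A1_fx, A3A1_io⟩

noncomputable def A3A1_2103 : Nd where
  r := 4
  AL := [[2, -1, 0, 0], [-1, 2, -1, 0], [0, -1, 2, 0], [0, 0, 0, 2]]
  sg := [2, 1, 0, 3]
  tab :=
    0xfffffffffffffffffffffffffe00000018fffffffffffffffffffffffffffe0100100000000000000000000000000000fe0108000000000000000000000000000000fe00
  tbs :=
    0xfffffffffffffffffffffffffe00000018000000000000000000000000000000fe000000000000000000000000000000fe0108fffffffffffffffffffffffffffe010010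
  n0 := 0x41414141
  RL := (List.map (unz 2) [0x49a, 0x4d1, 0x689, 0x1449, 0x9aa, 0xd51, 0x1aaa])
  K := 10
  rep := (unp 5 0x8081081f6026d89a6020421981a6029996258161)
  cod := (unp 5 0x7e7e7e7fefd0904fbdfa11fa17a09f9f9ffff41423ff4142413effe828283e82847e85f8282847ff82828283f)
  nW := (unz 3 0x250b92592173c9933)
  XC :=
    (List.map (unz 2) [0x273aaaaaaaa, 0x9b6daaaa, 0x9b6aadaa, 0x1d3b56ad5a, 0x2daa249aa, 0x9ab56d5a,
    0x273aabdef7aa, 0x9ab6aada, 0x156d124da, 0x74ed6efbbda])
  nu := (unz 3 0xc1f07c1f07c1f07c1f07c1f07)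
  b := 3
  B := 0x2000000000000
  cas :=
    [⟨[0, 1, 2], [0, 1, 2, 0, 1, 0], (unp 5 0x916424d896420255880b605), (unz 3 0x46e5cd6a38f264)⟩, ⟨[3], [3], (unp
    3 0x9d), (unz 2 0x5ab56ad5a)⟩]

theorem A3A1_2103_good : A3A1_2103.Good := Fs.good_of
    [(List.map (unp 5) [0x800b620031812604051880b6029, 0x8003604091882360200958226009, 0x880246008d80260c988236089,
    0x802b6200b183a6040f1882b60a9, 0x80800d624051880b6004d80a6049, 0x801b604111884360201158426069,
    0x880146004d8101460499013624051, 0x880446010d81a612988436109, 0x80802d6240f1882b600ed82a60e9,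
    0x8803c600ed8103c60e9903b6240f1]), (List.map (unp 4) [0x1039, 0x1059, 0x1079, 0x1009, 0x1089, 0x1019, 0x1099,
    0x1029, 0x1049, 0x1069])]
    (by delta A3A1_2103; rewrite [Fast.unz_eq, Fast.unp_eq]; decide +kernel)

noncomputable def A3A1_2103_bas : List (List ℤ × ℤ) :=
    (List.map (fun l => (l, 1)) (List.map (unz 2) [0x1249249a, 0x124924d1, 0x12492689, 0x12493449, 0x1249a249,
    0x124d1249, 0x12689249, 0x13449249, 0x1a249249, 0x51249249]))

noncomputable def A3A1_2103_inv : List (ℤ × List (ℤ × ℕ)) :=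
    (List.zip (unz 2 0xaaaaaaaaaa) (List.map (unv 3) [0x32, 0x132, 0x252, 0x352, 0x472, 0x572, 0x672, 0x772, 0x892,
    0x992]))

theorem A3A1_2103_gen : FX A3A1_2103
    (List.map (fun l => (l, 1)) (List.map (unz 2) [0x273aaaaaaaa, 0x2daa249aa])) :=
  FX.ofC A3A1_2103_good
    (FC.delta A3A1_2103 [0, 4])
    _ (Fs.ofC_of (by delta A3A1_2103; rewrite [Fast.unz_eq, Fast.unp_eq]; decide +kernel))

theorem A3A1_2103_fx : FX A3A1_2103 A3A1_2103_bas := FX.comb A3A1_2103_good A3A1_2103_gen (List.zipWith (fun a b => ⟨a, b, 1⟩)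
    (List.map (fun n => List.map Prod.swap (unv 4 n)) [0x8c41c4, 0x4621c4, 0x4620c3, 0x2310c3, 0x231072, 0x118872,
    0x8c41b4, 0x4621b4, 0x118821, 0x8c421])
    (List.map (unv 2) [0x1a, 0x1a, 0x1a, 0x1a, 0x1a, 0x1a, 0x1a, 0x1a, 0x2d, 0x2d]))
    _ (Fs.comb_of (by delta A3A1_2103 A3A1_2103_bas; rewrite [Fast.unz_eq, Fast.unv_eq, Fast.unp_eq]; decide +kernel))

theorem A3A1_2103_io : invOK A3A1_2103 A3A1_2103_bas A3A1_2103_inv = true := Fs.invOK_of (by delta A3A1_2103_bas A3A1_2103_inv; rewrite [Fast.unz_eq, Fast.unv_eq]; decide +kernel)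

noncomputable def A3A1_2103_L : Lat := ⟨A3A1_2103, A3A1_2103_bas, A3A1_2103_inv⟩

theorem A3A1_2103_ok : A3A1_2103_L.Ok := ⟨A3A1_2103_good, A3A1_2103_fx, A3A1_2103_io⟩

noncomputable def D4 : Nd where
  r := 4
  AL := [[2, -1, 0, 0], [-1, 2, -1, -1], [0, -1, 2, 0], [0, -1, 0, 2]]
  sg := [0, 1, 2, 3]
  tab :=
    0xfffffffffffffffffffffffffe00010018fffffffffffffffffffffffffffe0100100000000000000000000000000100fe0108000000000000000000000000000000fe00
  tbs :=
    0xfffffffffffffffffffffffffe00010018fffffffffffffffffffffffffffe0100100000000000000000000000000100fe0108000000000000000000000000000000fe00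
  n0 := 0x41414141
  RL :=
    (List.map (unz 2) [0x49a, 0x4d1, 0x689, 0x1449, 0x9aa, 0xd51, 0x28d1, 0x1aaa, 0x51aa, 0x5551, 0xaaaa, 0x1553a])
  K := 13
  rep := (unp 6 0x4040840c4084f1918810b33102460466c408d9881b31236064c8c98113312662c1)
  cod :=
    (unp 5
    0x3f3f3f3ff767e8683ef109050bdf9fa21ffa2211ea17fd434141f7a828287efd050cffdf9fa1a0fa09fa19fffe424142f7e828483e82828283f)
  nW := (unz 3 0x258b03e2e1b0d86c993240f8b2)
  XC :=
    (List.map (unz 3) [0x10b92244cf3cf3cf38e52, 0x8ea399994a4332, 0x91948444446652, 0x3a1199ce6738e52,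
    0x3a119ce67398e52, 0x3a11ce673998e52, 0x111194ca652332, 0x1111994a532332, 0x111194a6664332, 0x8c7a99994a4332,
    0x48664444446652, 0x63119999998e52, 0x3e64efbcf3cf3cf38e52])
  nu := (unz 4 0x1809c04e027013809c04e027013809c04e027013809)
  b := 8
  B := 0x40000000000000
  cas :=
    [⟨[0, 1, 2, 3], [3, 1, 2, 0, 1, 3, 0, 1, 2, 0, 1, 0], (unp 6
    0x80b1013622c8404959091b2162642024632cc84048dd98809ab32123566266cc5), (unz 3 0x2373277df7122441bdc5)⟩]

theorem D4_good : D4.Good := Fs.good_of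
    [(List.map (unp 5) [0x881880e60620359880c6046203991880d62462039881080e60420358080c642031880b6029,
    0x82a60205188136042055908146089881881e60405180136404d8126009,
    0x803b62060f5880b60246119891835640cd80988047602611583a60c980a662031,
    0x891880e6010d8426210d904362062039881084e6621118184464611198436129,
    0x84a6060d1983360460d5918346029891884e6040d18033640cd83262462039,
    0x80a6060f1983b60460f59183c6129881884e6040f1803b640ed83a62062039,
    0x805360201758901464206159908246404d989055616985260498226624055,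
    0x80136020b188014602461599085c6414d9880556016d812614982a6620055,
    0x8189016662405581a6206d988015646200598811856604215580805d64217198536149,
    0x822606151985360461559185460a986260415180536414d8526069,
    0x8033602040f9984360421358908036640ed9884c62611183260e984a6109,
    0x80984560200d58903c602420f990803562611198904560c9903b600ed81034624111,
    0x891884e6462135811884e66213181884d6206213984a6212d9084c60213181084d62042139])]
    (by delta D4; rewrite [Fast.unz_eq, Fast.unp_eq]; decide +kernel)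

noncomputable def D4_bas : List (List ℤ × ℤ) :=
    (List.map (fun l => (l, 1)) (List.map (unz 2) [0x249249249a, 0x24924924d1, 0x14492492689, 0x3492492689,
    0xb449249249, 0x2492493449, 0x249249a249, 0x24924d1249, 0x2492689249, 0x2493449249, 0x249a249249, 0x24d1249249,
    0x2689249249]))

noncomputable def D4_inv : List (ℤ × List (ℤ × ℕ)) :=
    (List.zip (unz 2 0x4e7555555553aa) (List.map (unv 3) [0x32, 0x132, 0x472d4a52, 0x572, 0x672, 0x772, 0x892,
    0x992, 0xa92, 0xb92, 0xc92, 0x2396a652, 0x11cea652]))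

theorem D4_gen : FX D4
    (List.map (fun l => (l, 1)) (List.map (unz 2) [0x53544924daa, 0x28da4924daa, 0x6dab6899d1a, 0x34926ad9d1a,
    0x349b664d551, 0x349a2676d1a, 0x3499db44d51, 0x349346ced1a, 0x349b3a68d51])) :=
  FX.ofC D4_good
    (FC.append (FC.delta D4 [2, 10])
    (FC.append (FC.ind D4_good A1_good (FC.pick A1_fc [0] (by decide +kernel)) ⟨[0], 0xfe00, 0x12, (unp 5
    0x81a62462039)⟩ (by decide +kernel))
    (FC.append (FC.ind D4_good A1A1_10_good (FC.pick A1A1_10_fc [0, 1] (by decide +kernel)) ⟨[0, 2],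
    0xfffffffffffffffffffffffffffe010010000000000000000000000000000000fe00, 0x11021, (unp 5 0x890446206d)⟩
    (by decide +kernel))
    (FC.append (FC.ind D4_good A1A1_10_good (FC.pick A1A1_10_fc [0, 1] (by decide +kernel)) ⟨[0, 3],
    0xfffffffffffffffffffffffffe00010018000000000000000000000000000000fe00, 0x11031, (unp 4 0x220fb105d)⟩
    (by decide +kernel))
    (FC.ind D4_good A1A1_10_good (FC.pick A1A1_10_fc [0, 1] (by decide +kernel)) ⟨[2, 3],
    0xfffffffffffffffffffffffffe00010018fffffffffffffffffffffffffffe010010, 0x11231, (unp 4 0x220db104d)⟩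
    (by decide +kernel))))))
    _ (Fs.ofC_of (by delta D4 A1_cf A1A1_10_cf; rewrite [Fast.unz_eq, Fast.unv_eq, Fast.unp_eq]; decide +kernel))

theorem D4_fx : FX D4 D4_bas := FX.comb D4_good D4_gen (List.zipWith (fun a b => ⟨a, b, 1⟩)
    (List.map (fun n => List.map Prod.swap (unv 4 n)) [0x385, 0x375, 0x21, 0x21, 0x21, 0x184, 0x184, 0x184, 0xf3,
    0xf3, 0xf3, 0x1c4, 0x1b4])
    (List.map (unv 3) [0x32, 0x32, 0x19, 0x252, 0x12999, 0x472, 0x892, 0x672, 0x352, 0x772, 0x572, 0x32, 0x32]))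
    _ (Fs.comb_of (by delta D4 D4_bas; rewrite [Fast.unz_eq, Fast.unv_eq, Fast.unp_eq]; decide +kernel))

theorem D4_io : invOK D4 D4_bas D4_inv = true := Fs.invOK_of (by delta D4_bas D4_inv; rewrite [Fast.unz_eq, Fast.unv_eq]; decide +kernel)

noncomputable def D4_L : Lat := ⟨D4, D4_bas, D4_inv⟩

theorem D4_ok : D4_L.Ok := ⟨D4_good, D4_fx, D4_io⟩

noncomputable def D4_0132 : Nd where
  r := 4
  AL := [[2, -1, 0, 0], [-1, 2, -1, -1], [0, -1, 2, 0], [0, -1, 0, 2]]
  sg := [0, 1, 3, 2]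
  tab :=
    0xfffffffffffffffffffffffffe00010018fffffffffffffffffffffffffffe0100100000000000000000000000000100fe0108000000000000000000000000000000fe00
  tbs :=
    0xfffffffffffffffffffffffffffe010010fffffffffffffffffffffffffe000100180000000000000000000000000100fe0108000000000000000000000000000000fe00
  n0 := 0x41414141
  RL :=
    (List.map (unz 2) [0x49a, 0x4d1, 0x689, 0x1449, 0x9aa, 0xd51, 0x28d1, 0x1aaa, 0x51aa, 0x5551, 0xaaaa, 0x1553a])
  K := 9
  rep := (unp 5 0x22420625d988362098909896604998a6259961)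
  cod := (unp 5 0x84787e85ff50d0507d0d0cf907ff9f9fa2fa09fa19fffe424142f42423f42ffe828483e82828283f)
  nW := (unz 3 0x3170781e261a07c362c4)
  XC :=
    (List.map (unz 3) [0xc4cf38e38e52, 0x46332d0c732, 0x6866422332, 0x191194ca52, 0x119918c652, 0x1ef3cf51ea52,
    0xc84666652, 0x465222332, 0x463328c7532])
  nu := (unz 4 0x1809c04e027013809c04e027013809)
  b := 4
  B := 0x10000000000000
  cas :=
    [⟨[0, 1, 2, 3], [3, 1, 2, 0, 1, 3, 0, 1, 2, 0, 1, 0], (unp 6
    0x80b1013622c8404959091b2162642024632cc84048dd98809ab32123566266cc5), (unz 3 0x8f712e0e4bdc5)⟩]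

theorem D4_0132_good : D4_0132.Good := Fs.good_of
    [(List.map (unp 6) [0x88012300236044c0480558900a320136204604cc08c0958080a32302462026c049,
    0x9021b0103462066c08c0d59181a320036246208cc08c40d98019b2310356064c009,
    0x8031b0626004c041119819b210346020460cec048c199809022b05262066c0c9,
    0x8039b0107462026c0481d58901232101460262040f0c04c401dd839330236024c089,
    0x9009b03074660e6c4c1d190803ab10024620108c081d1818803b3207366200eac840095,
    0x8904232083646048c2099811b13024626108cc20d91842302264046c48091,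
    0x8011b022620048c40c1d59839b21007564106c0c2118083a3130846200e8c1c9,
    0x8019b012045620068c04819580810823b210035662040cccc41118193306364086c189,
    0x89081833b210306660462408ec149818323103065640c6c4819190802ab01044626240cccc48195])]
    (by delta D4_0132; rewrite [Fast.unz_eq, Fast.unp_eq]; decide +kernel)

noncomputable def D4_0132_bas : List (List ℤ × ℤ) :=
    (List.map (fun l => (l, 1)) (List.map (unz 2) [0x249249a, 0x24924d1, 0x2492689, 0x6893449, 0x14493449,
    0x15449249, 0x249a249, 0x24d1249, 0x2689249]))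

noncomputable def D4_0132_inv : List (ℤ × List (ℤ × ℕ)) :=
    (List.zip (unz 2 0x4e75553aaa) (List.map (unv 3) [0x32, 0x132, 0x252, 0x5731cb52, 0x672, 0x772, 0x892,
    0x5728e752, 0x5728e5a9]))

noncomputable def D4_0132_cf : List (List (ℤ × ℕ) × ℤ) :=
    (List.zip (List.map (unv 3) [0x1133ef17385ae51e4d42cb24e632, 0x112beef7385ae51e4d42cae4d632,
    0x22579f75cea24e632, 0x15cc7935f073, 0x44cf3eeb947935dcae4e632, 0x899e712bd6bb95c9cc63, 0x22679f75cea24d632,
    0x44977dd728f528e6432, 0x1127b895ca3d4b53232]) (unz 3 0x41a0d86c361b0d86c1f07))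

theorem D4_0132_gen : FX D4_0132
    (List.map (fun l => (l, 1)) (List.map (unz 2) [0x266d719da, 0x1a4d5aaa, 0xd136daa, 0x51a6d51a])) :=
  FX.ofC D4_0132_good
    (FC.append (FC.delta D4_0132 [1, 3, 6])
    (FC.ind D4_0132_good A1_good (FC.pick A1_fc [0] (by decide +kernel)) ⟨[0], 0xfe00, 0x12, (unp 4 0x2093201d)⟩
    (by decide +kernel)))
    _ (Fs.ofC_of (by delta D4_0132 A1_cf; rewrite [Fast.unz_eq, Fast.unv_eq, Fast.unp_eq]; decide +kernel))

theorem D4_0132_fx : FX D4_0132 D4_0132_bas := FX.comb D4_0132_good D4_0132_gen (List.zipWith (fun a b => ⟨a, b, 1⟩)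
    (List.map (fun n => List.map Prod.swap (unv 4 n)) [0x385, 0x375, 0x1c4, 0x21, 0x21, 0x21, 0x1b4, 0x184, 0xf3])
    (List.map (unv 2) [0x5a, 0x5a, 0x5a, 0x2d, 0xea, 0xeaaa, 0x5a, 0x1a, 0xd]))
    _ (Fs.comb_of (by delta D4_0132 D4_0132_bas; rewrite [Fast.unz_eq, Fast.unv_eq, Fast.unp_eq]; decide +kernel))

theorem D4_0132_io : invOK D4_0132 D4_0132_bas D4_0132_inv = true := Fs.invOK_of (by delta D4_0132_bas D4_0132_inv; rewrite [Fast.unz_eq, Fast.unv_eq]; decide +kernel)

theorem D4_0132_fc : FC D4_0132 D4_0132_cf := FC.ofX D4_0132_good D4_0132_fx _ (Fs.ofX_of (by delta D4_0132 D4_0132_cf D4_0132_bas; rewrite [Fast.unz_eq, Fast.unv_eq, Fast.unp_eq]; decide +kernel))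

noncomputable def D4_0132_L : Lat := ⟨D4_0132, D4_0132_bas, D4_0132_inv⟩

theorem D4_0132_ok : D4_0132_L.Ok := ⟨D4_0132_good, D4_0132_fx, D4_0132_io⟩

noncomputable def A2A2 : Nd where
  r := 4
  AL := [[2, -1, 0, 0], [-1, 2, 0, 0], [0, 0, 2, -1], [0, 0, -1, 2]]
  sg := [0, 1, 2, 3]
  tab :=
    0xfffffffffffffffffffffffffe0100001800000000000000000000000000fe000010fffffffffffffffffffffffffffffe0108000000000000000000000000000000fe00
  tbs :=
    0xfffffffffffffffffffffffffe0100001800000000000000000000000000fe000010fffffffffffffffffffffffffffffe0108000000000000000000000000000000fe00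
  n0 := 0x41414141
  RL := (List.map (unz 2) [0x49a, 0x4d1, 0x689, 0x1449, 0x9aa, 0x2a89])
  K := 9
  rep := (unp 5 0x202471811b6024d91a604980a6458161)
  cod := (unp 5 0x827c827df827c847ff847e827df827c8283f847e847ff8282827df847e8283f8282847ff82828283f)
  nW := (unz 3 0x2264c91cac79e72)
  XC :=
    (List.map (unz 3) [0x448e38e394a52, 0x3a118e6652, 0x23a8c66532, 0x1a8e66394a52, 0x444465332, 0x1a98e3994a52,
    0x8ca466532, 0xc84666652, 0x12999994a52])
  nu := (unz 3 0x24791e4791e4791e4791e47)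
  b := 4
  B := 0x4000000000000
  cas :=
    [⟨[0, 1], [0, 1, 0], (unp 4 0x456203b05), (unz 2 0x1b93bbdf7b)⟩, ⟨[2, 3], [2, 3, 2], (unp 4 0x4d6647b25), (unz
    2 0x137d9beefb)⟩]

theorem A2A2_good : A2A2.Good := Fs.good_of
    [(List.map (unp 5) [0x202031880b6029, 0x2006d81a6009, 0x20209188236089, 0x2202d80a602031, 0x200cd8326049,
    0x2020f1883b60e9, 0x2208d822602091, 0x2010d84260a9, 0x220ed83a6020f1]), (List.map (unp 5) [0x24605198136049,
    0x24609198236089, 0x240ad82a6009, 0x2460d1983360c9, 0x240ed83a6029, 0x2604d812646051, 0x2410d8426069,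
    0x2608d822646091, 0x260cd8326460d1])]
    (by delta A2A2; rewrite [Fast.unz_eq, Fast.unp_eq]; decide +kernel)

noncomputable def A2A2_bas : List (List ℤ × ℤ) :=
    (List.map (fun l => (l, 1)) (List.map (unz 2) [0x249249a, 0x24924d1, 0x2492689, 0x2493449, 0x249a249,
    0x24d1249, 0x2689249, 0x3449249, 0xa249249]))

noncomputable def A2A2_inv : List (ℤ × List (ℤ × ℕ)) :=
    (List.zip (unz 2 0xaaaaaaaaa) (List.map (unv 3) [0x32, 0x132, 0x252, 0x352, 0x472, 0x572, 0x672, 0x772,
    0x892]))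

theorem A2A2_gen : FX A2A2
    (List.map (fun l => (l, 1)) (List.map (unz 3) [0x448e38e394a52, 0x1a8e66394a52, 0x1a98e3994a52,
    0x12999994a52])) :=
  FX.ofC A2A2_good
    (FC.delta A2A2 [0, 3, 5, 8])
    _ (Fs.ofC_of (by delta A2A2; rewrite [Fast.unz_eq, Fast.unp_eq]; decide +kernel))

theorem A2A2_fx : FX A2A2 A2A2_bas := FX.comb A2A2_good A2A2_gen (List.zipWith (fun a b => ⟨a, b, 1⟩)
    (List.map (fun n => List.map Prod.swap (unv 4 n)) [0x8e30e3, 0x8d30e3, 0x8e30d3, 0x8d30d3, 0x2210e3, 0x238c21,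
    0x234c21, 0x2210d3, 0x88421])
    (List.map (unv 2) [0x1a, 0x1a, 0x1a, 0x1a, 0x55, 0x2d, 0x2d, 0x55, 0xea]))
    _ (Fs.comb_of (by delta A2A2 A2A2_bas; rewrite [Fast.unz_eq, Fast.unv_eq, Fast.unp_eq]; decide +kernel))

theorem A2A2_io : invOK A2A2 A2A2_bas A2A2_inv = true := Fs.invOK_of (by delta A2A2_bas A2A2_inv; rewrite [Fast.unz_eq, Fast.unv_eq]; decide +kernel)

noncomputable def A2A2_L : Lat := ⟨A2A2, A2A2_bas, A2A2_inv⟩

theorem A2A2_ok : A2A2_L.Ok := ⟨A2A2_good, A2A2_fx, A2A2_io⟩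

noncomputable def A2A2_0132 : Nd where
  r := 4
  AL := [[2, -1, 0, 0], [-1, 2, 0, 0], [0, 0, 2, -1], [0, 0, -1, 2]]
  sg := [0, 1, 3, 2]
  tab :=
    0xfffffffffffffffffffffffffe0100001800000000000000000000000000fe000010fffffffffffffffffffffffffffffe0108000000000000000000000000000000fe00
  tbs :=
    0xfe000010fffffffffffffffffffffffffe01000018fffffffffffffffffffffffffffffe0108000000000000000000000000000000fe00
  n0 := 0x41414141
  RL := (List.map (unz 2) [0x49a, 0x4d1, 0x689, 0x1449, 0x9aa, 0x2a89])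
  K := 9
  rep := (unp 5 0x20246558093604651812602991936458161)
  cod := (unp 5 0x1f9fa09f7a11fa09f7ff3f423ff423f423ffc141413effe7e8283e847e8283f8282847ff82828283f)
  nW := (unz 3 0x23899e4c928e573)
  XC :=
    (List.map (unz 2) [0x12673aaaa, 0x4926daa, 0xaa9f4ed5a, 0xeeff4ed5a, 0x126daaaa, 0x2d126ada, 0x9f126ada,
    0xaab56d5a, 0x3ba756d5a])
  nu := (unz 3 0x24791e4791e4791e4791e47)
  b := 4
  B := 0x4000000000000
  cas :=
    [⟨[0, 1], [0, 1, 0], (unp 4 0x456203b05), (unz 2 0x5f649bdf7b)⟩, ⟨[2, 3], [2, 3, 2], (unp 4 0x4d6647b25), (unz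
    2 0x126fbbeefb)⟩]

theorem A2A2_0132_good : A2A2_0132.Good := Fs.good_of
    [(List.map (unp 5) [0x202031880b6029, 0x2008d8226009, 0x2020b1882b60a9, 0x2020d1883360c9, 0x2202d80a602031,
    0x200ed83a6049, 0x2010d8426069, 0x220ad82a6020b1, 0x220cd8326020d1]), (List.map (unp 4) [0x480b6073029,
    0x481760d3059, 0x4c036401b009, 0x48036013300d, 0x481f6113079, 0x4c076403b019, 0x48076033301d, 0x4c136409b049,
    0x48136093304d])]
    (by delta A2A2_0132; rewrite [Fast.unz_eq, Fast.unp_eq]; decide +kernel)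

noncomputable def A2A2_0132_bas : List (List ℤ × ℤ) :=
    (List.map (fun l => (l, 1)) (List.map (unz 2) [0x249249a, 0x24924d1, 0x2492689, 0x2493449, 0x249a249,
    0x24d1249, 0x2689249, 0x3449249, 0xa249249]))

noncomputable def A2A2_0132_inv : List (ℤ × List (ℤ × ℕ)) :=
    (List.zip (unz 2 0xaaaaaaaaa) (List.map (unv 3) [0x32, 0x132, 0x252, 0x352, 0x472, 0x572, 0x672, 0x772,
    0x892]))

theorem A2A2_0132_gen : FX A2A2_0132
    (List.map (fun l => (l, 1)) (List.map (unz 2) [0x12673aaaa, 0x126daaaa, 0xaab56d5a])) :=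
  FX.ofC A2A2_0132_good
    (FC.delta A2A2_0132 [0, 4, 7])
    _ (Fs.ofC_of (by delta A2A2_0132; rewrite [Fast.unz_eq, Fast.unp_eq]; decide +kernel))

theorem A2A2_0132_fx : FX A2A2_0132 A2A2_0132_bas := FX.comb A2A2_0132_good A2A2_0132_gen (List.zipWith (fun a b => ⟨a, b, 1⟩)
    (List.map (fun n => List.map Prod.swap (unv 4 n)) [0x8e30e3, 0x8d30e3, 0x8e30d3, 0x8d30d3, 0x238c21, 0x234c21,
    0x88421, 0x2210e3, 0x2210d3])
    (List.map (unv 2) [0x1a, 0x1a, 0x1a, 0x1a, 0x2d, 0x2d, 0x55, 0xaa, 0xaa]))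
    _ (Fs.comb_of (by delta A2A2_0132 A2A2_0132_bas; rewrite [Fast.unz_eq, Fast.unv_eq, Fast.unp_eq]; decide +kernel))

theorem A2A2_0132_io : invOK A2A2_0132 A2A2_0132_bas A2A2_0132_inv = true := Fs.invOK_of (by delta A2A2_0132_bas A2A2_0132_inv; rewrite [Fast.unz_eq, Fast.unv_eq]; decide +kernel)

noncomputable def A2A2_0132_L : Lat := ⟨A2A2_0132, A2A2_0132_bas, A2A2_0132_inv⟩

theorem A2A2_0132_ok : A2A2_0132_L.Ok := ⟨A2A2_0132_good, A2A2_0132_fx, A2A2_0132_io⟩

noncomputable def A2A2_1032 : Nd where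
  r := 4
  AL := [[2, -1, 0, 0], [-1, 2, 0, 0], [0, 0, 2, -1], [0, 0, -1, 2]]
  sg := [1, 0, 3, 2]
  tab :=
    0xfffffffffffffffffffffffffe0100001800000000000000000000000000fe000010fffffffffffffffffffffffffffffe0108000000000000000000000000000000fe00
  tbs :=
    0xfe000010fffffffffffffffffffffffffe01000018000000000000000000000000000000fe00fffffffffffffffffffffffffffffe0108
  n0 := 0x41414141
  RL := (List.map (unz 2) [0x49a, 0x4d1, 0x689, 0x1449, 0x9aa, 0x2a89])
  K := 9
  rep := (unp 5 0x20204659808146046518126464d916020d8161)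
  cod := (unp 5 0x1f9f9f9ffa11f9f9ffff3f423ff423f423fffe7e8283e847e8283f82827e7ff8282847ff82828283f)
  nW := (unz 3 0x251c7133c99e495)
  XC :=
    (List.map (unz 3) [0x1111194a52, 0x11194a6652, 0x111d6a6652, 0x1948466532, 0x1d68466532, 0x12994ca5332,
    0x6a3d4ca5332, 0x6a651ea5332, 0x448f51ea5332])
  nu := (unz 3 0x24791e4791e4791e4791e47)
  b := 4
  B := 0x4000000000000
  cas :=
    [⟨[0, 1], [0, 1, 0], (unp 4 0x456203b05), (unz 2 0x1bec9bdf7b)⟩, ⟨[2, 3], [2, 3, 2], (unp 4 0x4d6647b25), (unz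
    2 0x126fbbeefb)⟩]

theorem A2A2_1032_good : A2A2_1032.Good := Fs.good_of
    [(List.map (unp 4) [0x40076053019, 0x44036001b009, 0x40036013100d, 0x401760f3059, 0x401b6113069,
    0x440f6007b039, 0x44136009b049, 0x400f6073103d, 0x40136093104d]), (List.map (unp 4) [0x480f6093039,
    0x481760d3059, 0x481f6113079, 0x4c036401b009, 0x48036013300d, 0x4c076403b019, 0x48076033301d, 0x4c0b6405b029,
    0x480b6053302d])]
    (by delta A2A2_1032; rewrite [Fast.unz_eq, Fast.unp_eq]; decide +kernel)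

noncomputable def A2A2_1032_bas : List (List ℤ × ℤ) :=
    (List.map (fun l => (l, 1)) (List.map (unz 2) [0x249249a, 0x24924d1, 0x2492689, 0x2493449, 0x249a249,
    0x24d1249, 0x2689249, 0x3449249, 0xa249249]))

noncomputable def A2A2_1032_inv : List (ℤ × List (ℤ × ℕ)) :=
    (List.zip (unz 2 0xaaaaaaaaa) (List.map (unv 3) [0x32, 0x132, 0x252, 0x352, 0x472, 0x572, 0x672, 0x772,
    0x892]))

theorem A2A2_1032_gen : FX A2A2_1032
    (List.map (fun l => (l, 1)) (List.map (unz 2) [0x1249aaaa, 0x126aadaa, 0x1aa26d5a, 0xab56aada])) :=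
  FX.ofC A2A2_1032_good
    (FC.delta A2A2_1032 [0, 1, 3, 5])
    _ (Fs.ofC_of (by delta A2A2_1032; rewrite [Fast.unz_eq, Fast.unp_eq]; decide +kernel))

theorem A2A2_1032_fx : FX A2A2_1032 A2A2_1032_bas := FX.comb A2A2_1032_good A2A2_1032_gen (List.zipWith (fun a b => ⟨a, b, 1⟩)
    (List.map (fun n => List.map Prod.swap (unv 4 n)) [0x8e30e3, 0x8d30e3, 0x8e30d3, 0x8d30d3, 0x238c21, 0x234c21,
    0x2210e3, 0x2210d3, 0x88421])
    (List.map (unv 2) [0x1a, 0x1a, 0x1a, 0x1a, 0x5a, 0x5a, 0xaa, 0xaa, 0xea]))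
    _ (Fs.comb_of (by delta A2A2_1032 A2A2_1032_bas; rewrite [Fast.unz_eq, Fast.unv_eq, Fast.unp_eq]; decide +kernel))

theorem A2A2_1032_io : invOK A2A2_1032 A2A2_1032_bas A2A2_1032_inv = true := Fs.invOK_of (by delta A2A2_1032_bas A2A2_1032_inv; rewrite [Fast.unz_eq, Fast.unv_eq]; decide +kernel)

noncomputable def A2A2_1032_L : Lat := ⟨A2A2_1032, A2A2_1032_bas, A2A2_1032_inv⟩

theorem A2A2_1032_ok : A2A2_1032_L.Ok := ⟨A2A2_1032_good, A2A2_1032_fx, A2A2_1032_io⟩

noncomputable def A2A2_2301 : Nd where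
  r := 4
  AL := [[2, -1, 0, 0], [-1, 2, 0, 0], [0, 0, 2, -1], [0, 0, -1, 2]]
  sg := [2, 3, 0, 1]
  tab :=
    0xfffffffffffffffffffffffffe0100001800000000000000000000000000fe000010fffffffffffffffffffffffffffffe0108000000000000000000000000000000fe00
  tbs :=
    0xfffffffffffffffffffffffffffffe0108000000000000000000000000000000fe00fffffffffffffffffffffffffe0100001800000000000000000000000000fe000010
  n0 := 0x41414141
  RL := (List.map (unz 2) [0x49a, 0x4d1, 0x689, 0x1449, 0x9aa, 0x2a89])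
  K := 3
  rep := (unp 4 0x48e64b1)
  cod := (unp 5 0x827c8283f847e8283f82828283f)
  nW := (unz 3 0xc59364)
  XC := (List.map (unz 2) [0x13aa, 0xda, 0x5aa])
  nu := (unz 3 0x24791e47)
  b := 2
  B := 0x1000000000000
  cas := [⟨[0, 1, 2, 3], [2, 3, 2, 0, 1, 0], (unp 4 0x22b101d82cd6647b25), (unz 3 0x6e64)⟩]

theorem A2A2_2301_good : A2A2_2301.Good := Fs.good_of
    [(List.map (unp 5) [0x8081180f6206035800b602460398980c6029, 0x8813602405580036260518126009,
    0x880b604603580980d62603180a60246039])]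
    (by delta A2A2_2301; rewrite [Fast.unz_eq, Fast.unp_eq]; decide +kernel)

noncomputable def A2A2_2301_bas : List (List ℤ × ℤ) :=
    (List.map (fun l => (l, 1)) (List.map (unz 2) [0x9a, 0xd1, 0x289]))

noncomputable def A2A2_2301_inv : List (ℤ × List (ℤ × ℕ)) :=
    (List.zip (unz 2 0xaaa) (List.map (unv 2) [0x1a, 0x5a, 0xaa]))

theorem A2A2_2301_gen : FX A2A2_2301
    (List.map (fun l => (l, 1)) (List.map (unz 2) [0x13aa, 0x5aa])) :=
  FX.ofC A2A2_2301_good
    (FC.delta A2A2_2301 [0, 2])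
    _ (Fs.ofC_of (by delta A2A2_2301; rewrite [Fast.unz_eq, Fast.unp_eq]; decide +kernel))

theorem A2A2_2301_fx : FX A2A2_2301 A2A2_2301_bas := FX.comb A2A2_2301_good A2A2_2301_gen (List.zipWith (fun a b => ⟨a, b, 1⟩)
    (List.map (fun n => List.map Prod.swap (unv 4 n)) [0x1c4, 0x1b4, 0x21])
    (List.map (unv 2) [0x1a, 0x1a, 0x2d]))
    _ (Fs.comb_of (by delta A2A2_2301 A2A2_2301_bas; rewrite [Fast.unz_eq, Fast.unv_eq, Fast.unp_eq]; decide +kernel))

theorem A2A2_2301_io : invOK A2A2_2301 A2A2_2301_bas A2A2_2301_inv = true := Fs.invOK_of (by delta A2A2_2301_bas A2A2_2301_inv; rewrite [Fast.unz_eq, Fast.unv_eq]; decide +kernel)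

noncomputable def A2A2_2301_L : Lat := ⟨A2A2_2301, A2A2_2301_bas, A2A2_2301_inv⟩

theorem A2A2_2301_ok : A2A2_2301_L.Ok := ⟨A2A2_2301_good, A2A2_2301_fx, A2A2_2301_io⟩

noncomputable def A2A2_2310 : Nd where
  r := 4
  AL := [[2, -1, 0, 0], [-1, 2, 0, 0], [0, 0, 2, -1], [0, 0, -1, 2]]
  sg := [2, 3, 1, 0]
  tab :=
    0xfffffffffffffffffffffffffe0100001800000000000000000000000000fe000010fffffffffffffffffffffffffffffe0108000000000000000000000000000000fe00
  tbs :=
    0xfe00fffffffffffffffffffffffffffffe0108fffffffffffffffffffffffffe0100001800000000000000000000000000fe000010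
  n0 := 0x41414141
  RL := (List.map (unz 2) [0x49a, 0x4d1, 0x689, 0x1449, 0x9aa, 0x2a89])
  K := 3
  rep := (unp 4 0x48cb64b1)
  cod := (unp 5 0x7e7e8283e847e8283f82828283f)
  nW := (unz 3 0xc98b26)
  XC := (List.map (unz 2) [0x1aa, 0x55a, 0x75a])
  nu := (unz 3 0x24791e47)
  b := 2
  B := 0x1000000000000
  cas := [⟨[0, 1, 2, 3], [2, 3, 2, 0, 1, 0], (unp 4 0x22b101d82cd6647b25), (unz 3 0x6e64)⟩]

theorem A2A2_2310_good : A2A2_2310.Good := Fs.good_of
    [(List.map (unp 5) [0x900b6020055800b6060318126029, 0x900360260158003606011890046009,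
    0x8818056020015809005624011802606011])]
    (by delta A2A2_2310; rewrite [Fast.unz_eq, Fast.unp_eq]; decide +kernel)

noncomputable def A2A2_2310_bas : List (List ℤ × ℤ) :=
    (List.map (fun l => (l, 1)) (List.map (unz 2) [0x9a, 0xd1, 0x289]))

noncomputable def A2A2_2310_inv : List (ℤ × List (ℤ × ℕ)) :=
    (List.zip (unz 2 0xaaa) (List.map (unv 2) [0x1a, 0x5a, 0xaa]))

theorem A2A2_2310_gen : FX A2A2_2310
    (List.map (fun l => (l, 1)) (List.map (unz 2) [0x1aa, 0x55a])) :=
  FX.ofC A2A2_2310_good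
    (FC.delta A2A2_2310 [0, 1])
    _ (Fs.ofC_of (by delta A2A2_2310; rewrite [Fast.unz_eq, Fast.unp_eq]; decide +kernel))

theorem A2A2_2310_fx : FX A2A2_2310 A2A2_2310_bas := FX.comb A2A2_2310_good A2A2_2310_gen (List.zipWith (fun a b => ⟨a, b, 1⟩)
    (List.map (fun n => List.map Prod.swap (unv 4 n)) [0x1c4, 0x1b4, 0x21])
    (List.map (unv 2) [0x1a, 0x1a, 0x5a]))
    _ (Fs.comb_of (by delta A2A2_2310 A2A2_2310_bas; rewrite [Fast.unz_eq, Fast.unv_eq, Fast.unp_eq]; decide +kernel))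

theorem A2A2_2310_io : invOK A2A2_2310 A2A2_2310_bas A2A2_2310_inv = true := Fs.invOK_of (by delta A2A2_2310_bas A2A2_2310_inv; rewrite [Fast.unz_eq, Fast.unv_eq]; decide +kernel)

noncomputable def A2A2_2310_L : Lat := ⟨A2A2_2310, A2A2_2310_bas, A2A2_2310_inv⟩

theorem A2A2_2310_ok : A2A2_2310_L.Ok := ⟨A2A2_2310_good, A2A2_2310_fx, A2A2_2310_io⟩


end Cfsg.Agent.LV.W
end

-- part: LV/W/N5
section
prune_inst 0x80000000000000c010000
set_option linter.all false

/-! LV/W: generated data (helper25) -/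

set_option autoImplicit false
set_option maxRecDepth 100000

namespace Cfsg.Agent.LV.W

noncomputable def D5 : Nd where
  r := 5
  AL := [[2, -1, 0, 0, 0], [-1, 2, -1, 0, 0], [0, -1, 2, -1, -1], [0, 0, -1, 2, 0], [0, 0, -1, 0, 2]]
  sg := [0, 1, 2, 3, 4]
  tab :=
    0xfffffffffffffffffffffffe0001000020fffffffffffffffffffffffffe0100001800000000000000000000000100fe0100100000000000000000000000000000fe0108000000000000000000000000000000fe00
  tbs :=
    0xfffffffffffffffffffffffe0001000020fffffffffffffffffffffffffe0100001800000000000000000000000100fe0100100000000000000000000000000000fe0108000000000000000000000000000000fe00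
  n0 := 0x4141414141
  RL :=
    (List.map (unz 2) [0x249a, 0x24d1, 0x2689, 0x3449, 0xa249, 0x49aa, 0x4d51, 0x6a89, 0x14689, 0x9aaa, 0xd551,
    0x28d51, 0x2aa89, 0x1aaaa, 0x51aaa, 0x55551, 0xaaaaa, 0xaa9d1, 0x1553aa, 0x2aa73a])
  K := 18
  rep :=
    (unp 6
    0x22428420642847acc841085d990822b121321421324c620688cc84118211a33214216664288c4d0d8821b321366486cd098a13322662c1)
  cod :=
    (unp 6
    0x1da19f9fa1cd04e50d0506786768284833fe7e7e7e8f37e7e8a7c833443c4141419fd4141443f9bf3b4341439a11e20a1214ff9fa21fa14dfa0a21f20cd0cf505050a7827a8286833fe7e86828337e82867e853423e4142419e09fa120a0cf05050505067)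
  nW := (unz 4 0x286a04f8269282300af08f0f409f0f409f04f87a2f87a08a1a2)
  XC :=
    (List.map (unz 3) [0x146a37afad2d2d2d2d2e4a952a54891252, 0xd475e7de8638835ccb3d4732, 0x13223296a5218e66394a52,
    0x8ccc7a8f51ea529484652, 0x1df79e7ad47ad64954a92891252, 0x11ea651888e866652d4732, 0x1194888888cca642332,
    0x252233219908cc865332, 0x1a8e52318e8465329d4732, 0x25211991991199194a52, 0x8ccea38e3d6a529484652,
    0x1194847423a994a44652, 0x88888888c844466652, 0x991194a39487533a94a52, 0x22448d8d8e3b91c792ba952b891252,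
    0x1199088888ca5322332, 0x264232919488cc865332, 0x8f59d7aec624639ccabd4732])
  nu := (unz 4 0xf00cf00cf00cf00cf00cf00cf00cf00cf00cf00cf00cf00cf00cf00cf00cf00cf00cf00c)
  b := 20
  B := 0x1000000000000000
  cas :=
    [⟨[0, 1, 2, 3, 4], [3, 2, 4, 1, 2, 3, 0, 1, 2, 4, 0, 1, 2, 3, 0, 1, 2, 0, 1, 0], (unp 6
    0x80b1013622c8404959091b2168420248ed084915a121b4162486420246843ac90c84048d0ada1908091a4b3210123764864246852d0c848d1d99091ab43234566466cc5),
    (unz 3 0x6a3ee27cec62428def7131676967d46)⟩]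

theorem D5_good : D5.Good := Fs.good_of
    [(List.map (unp 7)
    [0x88109900a181099009d90990099809900998990095990091809a1009d89a100999a1009591a100998810a100a1810a1009d80a10099809009590a100998a10095890091a100919008d8089,
    0x91a10801a1891a10801a58091a10801a980901158901119010d80a101198a10115a10111820988109901a181099019d80a0115808111909901998a01118810da010d81098009,
    0x9a108190a103b18083118830d8109831990983159008d8810992108033180810992108033591a0295a028d88109903a18810990821081833d8810992108183358030d8081099082108183418081099210818339830982898089990091,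
    0x8038d838991a1009990821039d80811a108183318091a1081832d90a1039980811a108032d8091a10803299099009990992109903ad909921081903b1990a1039d99082103a190a1041980811921080331808119210818335809192108032d809192108183318409,
    0x8804118040d840980982958982919828d809a029989a02959a029180898811a10421811a1041d80a029580829191a104198a02918828da028d828991a10099,
    0x9a05918084918848d80908519890851592011182109849da1098499990211a010d891a1085a1819204998050d8048d992049585098489810982099920115,
    0x8060d8086118810d8090615808109a10801b190811189a108190a0631891a0499990511a048d890a108190a063589a10992062989a108192062d860999084958850d810984898091a10801a99908115,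
    0x8018d81898801918990821099206358190821099206358119082108192063d899082108192063981908210819206398119082108190a0641908190812190821085a180908210985ad89082108192063589082109920631908210985a58108210819206358108210992063181081a108190a063d81081a10819206398689,
    0x8068d8689820980a05958984919848d80859189a04959a04918091a10801a980811a106a58091a106a18098595809a059987098a04918848da048d84898189,
    0x8078d8087918828d80908819890a03198091921081833180921079d8a10415990a0299a030d809099082107b1809190807a58080d87899904118090992108183358289830984098091a1081832d,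
    0x80a081580808158081099210818339890819088258908295920311890821081882d892103199190a029d8090992108183358990a10821990a1088218a08118809809190a10803318289a030d8830d8a029180909a108032d,
    0x9a02918119079991907958098815898811908190a103a981a07959a0791880411a108190a103ad88089181210799891881581190807a19210795a10881591908079d8810a103a19908041988190a103a5,
    0x8030d809a108190a103b98803119190a108190a103bd88109a108190a103c190803158091a079d88109a10882992108819a078d881099207a589921188218208118309990807998880d9a108190a103b187898908190a108190a103c999080319,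
    0x8040d8409880411809879588187959878d88119079d91907959a07918908190a108190a103c99208918118895881187998087918918895918791880791a078d87898389,
    0x892089592089191a10419a088d9a1041589a10419888999041189904159099041989188959188919888d9a089184099040da104118904118a1041590a10419,
    0x8048d809a0599880491809082062199082061d81081a108192063980a1069988210985a199082049da060d919082106a59190859989099082062984899906918081a10819206359a0591860986898119082108192063d,
    0x8909908206298080515809a10819206318090a061d89080499891908206258081210985a98921061989099080525809099082062d990821062199085958081a10819206358509881081a1099206398048d8206118860d8985918811908210992063d,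
    0x8921081906a9921081906a58119210985a9a1081906a1819210985a58819210985a9870981906958819069990819069da106918a1069590a1069999080719808591810859589190a106a5881085999190a106a1990a1069d])]
    (by delta D5; rewrite [Fast.unz_eq, Fast.unp_eq]; decide +kernel)

noncomputable def D5_bas : List (List ℤ × ℤ) :=
    (List.map (fun l => (l, 1)) (List.map (unz 2) [0x1249249249249a, 0x124924924924d1, 0x12492492492689,
    0x12492492493449, 0x1249249249a249, 0x124926924d1249, 0x24d124924d1249, 0x12692689249249, 0x1249a492689249,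
    0x26892492689249, 0x1349a249249249, 0x12492493449249, 0x1249249a249249, 0x12493449249249, 0x124924d1249249,
    0x124d1249249249, 0x1a249249249249, 0x51249249249249]))

noncomputable def D5_inv : List (ℤ × List (ℤ × ℕ)) :=
    (List.zip (unz 2 0x2aa73a9d4eaaa73aaaaa) (List.map (unv 3) [0x32, 0x132, 0x252, 0x352, 0x472, 0x1dcb39572,
    0xa92992892, 0xb92, 0xc92, 0xe92, 0xee59cab9, 0xd92, 0x5494c9449, 0xf92, 0x7739cab9, 0x2a4cc9449, 0x10b2,
    0x11b2]))

noncomputable def D5_cf : List (List (ℤ × ℕ) × ℤ) :=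
    (List.zip (List.map (unv 4)
    [0x22b43416813e9e09e4a4d4a08c4c02ad3c2293c3ca502613c3f3a04e3f04d3f0f0e8b97878a822343062,
    0x22b3b4167f3e9df9e4a4d4a08c4c02ad3c2293c3ca502613bbf39fce3efcd3eef0e8b97878a82233b062,
    0x115a2c167bf2526a50d897f12941e13c6e73de9f8d0e8b150d1a2862,
    0x1159ac1683f2526a50d897f12941e13b6e741e9f6d0e8b150d19a862,
    0x456ebe97df929ea7ed697b5261612eb8f03d3c2c3879616280f1c2862,
    0x8add7d2fbf263d4fdad306a4bac2487e70118efbd3c2c3e2e521e2fda3cc31,
    0x22b94160bc91d4e7698594f4e705c77b53c487091738c2062,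
    0x115e1a0b01fd2fbf25975206b4bda9243ca7ed0975e7fb63c0f4eeb0e6b95d6281a3cc31,
    0x8ae17d303f263d4fdad306a4bac2477e7fdf1e07a77587c5ca43c5fb461031,
    0x8ac382fa7247539da61653d39fa63c1a9da43848b9c79862,
    0x22bbb417f6f4c0fc965d481ad2f6a490f29fb426179c07c77de9e161cd72bac503461031,
    0x4570be981f929ea7ed697b52616130b8efbd3bac3879616280f1ba862, 0xe4a4c4808b49ef493b43a2e53b062,
    0x7253d481ad2f6a4c2c38796162fa862, 0x1158482fd7922d482d25d653ebce06a77587965858a0b182862,
    0x4579c1606e48b520b497594faf3fad3c2c3cb2c2c5058fa062, 0x22b94160bc916a739482c26273f4a7690f28b9c61862,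
    0x22b0e0be9c916a739482c25a7382d3c487945ce39062]) (unz 4
    0x1811811809c04e02680ac02b00ac08c02b00ac08c02b00af02bc0af00cf00c))

theorem D5_gen : FX D5
    (List.map (fun l => (l, 1)) (List.map (unz 2) [0x5a4d575519db3aaaa, 0x4fad4c93c6daae9da, 0xaa26d369369aaaa,
    0x49249268926daa, 0x349354d1aa6a89a])) :=
  FX.ofC D5_good
    (FC.append (FC.delta D5 [2, 5, 9, 12])
    (FC.ind D5_good A1_good (FC.pick A1_fc [0] (by decide +kernel)) ⟨[0], 0xfe00, 0x123, (unp 6
    0x28420642840f6c808d)⟩ (by decide +kernel)))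
    _ (Fs.ofC_of (by delta D5 A1_cf; rewrite [Fast.unz_eq, Fast.unv_eq, Fast.unp_eq]; decide +kernel))

theorem D5_fx : FX D5 D5_bas := FX.comb D5_good D5_gen (List.zipWith (fun a b => ⟨a, b, 1⟩)
    (List.map (fun n => List.map Prod.swap (unv 4 n)) [0x686, 0x676, 0x345, 0x335, 0x385, 0x184, 0x184, 0x184,
    0xf3, 0xf3, 0xf3, 0x375, 0x21, 0x21, 0x305, 0x1f4, 0xc3, 0x72])
    (List.map (unv 2) [0x1a, 0x1a, 0x1a, 0x1a, 0x5a, 0xd, 0x5a, 0x156d, 0xd, 0x2d, 0x2ada, 0x2d, 0xea, 0x9d, 0x1a,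
    0x1a, 0xd, 0xd]))
    _ (Fs.comb_of (by delta D5 D5_bas; rewrite [Fast.unz_eq, Fast.unv_eq, Fast.unp_eq]; decide +kernel))

theorem D5_io : invOK D5 D5_bas D5_inv = true := Fs.invOK_of (by delta D5_bas D5_inv; rewrite [Fast.unz_eq, Fast.unv_eq]; decide +kernel)

theorem D5_fc : FC D5 D5_cf := FC.ofX D5_good D5_fx _ (Fs.ofX_of (by delta D5 D5_cf D5_bas; rewrite [Fast.unz_eq, Fast.unv_eq, Fast.unp_eq]; decide +kernel))

noncomputable def D5_L : Lat := ⟨D5, D5_bas, D5_inv⟩

theorem D5_ok : D5_L.Ok := ⟨D5_good, D5_fx, D5_io⟩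

noncomputable def D5_01243 : Nd where
  r := 5
  AL := [[2, -1, 0, 0, 0], [-1, 2, -1, 0, 0], [0, -1, 2, -1, -1], [0, 0, -1, 2, 0], [0, 0, -1, 0, 2]]
  sg := [0, 1, 2, 4, 3]
  tab :=
    0xfffffffffffffffffffffffe0001000020fffffffffffffffffffffffffe0100001800000000000000000000000100fe0100100000000000000000000000000000fe0108000000000000000000000000000000fe00
  tbs :=
    0xfffffffffffffffffffffffffe01000018fffffffffffffffffffffffe000100002000000000000000000000000100fe0100100000000000000000000000000000fe0108000000000000000000000000000000fe00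
  n0 := 0x4141414141
  RL :=
    (List.map (unz 2) [0x249a, 0x24d1, 0x2689, 0x3449, 0xa249, 0x49aa, 0x4d51, 0x6a89, 0x14689, 0x9aaa, 0xd551,
    0x28d51, 0x2aa89, 0x1aaaa, 0x51aaa, 0x55551, 0xaaaaa, 0xaa9d1, 0x1553aa, 0x2aa73a])
  K := 18
  rep :=
    (unp 7
    0x80810819082108190a11d19a108190a12992108192219908119080d81192119d8818d92109921d8210d9908d81099089919211998a09990990598581)
  cod :=
    (unp 6
    0x3f3f3f3f3f9b93f4242419bb433f42439a21e20a0a0cf1110f505067fcfcfd18fe6827e887c833f8847e848937c8482867f3433d4141429e1211fa19fcf0d0cf9050a7fcfcfd15066fd050cfd0a6847c8284833c2423f42419e09fa120a0cf05050505067)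
  nW := (unz 4 0x22f0f411805782686a04f87a04f827c3d0268be11411e1e86a4)
  XC :=
    (List.map (unz 3) [0x25657264a95224489133ce38e38e52, 0xaf311996b51c75e7dea38932, 0x13211996a3d47328c47532,
    0x23a19994cca38e5294a52, 0x1331ea521111948444652, 0x2baf592a5489df712675ad6a52, 0x4446665294846666652,
    0x252d6a52111199d471ea52, 0x9488ca4444664222332, 0x444665299488ca65332, 0x12911996b51c72918f4332,
    0x444665294c88cca6532, 0xceb11996a3d479d7aee24732, 0x9908ca4444652222332, 0x88c846446444444652,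
    0x118c6665332d6a5294a52, 0x252d6a521111998f5a8e52, 0x1dbdb3b92a548946a34499329696969652])
  nu := (unz 4 0xf00cf00cf00cf00cf00cf00cf00cf00cf00cf00cf00cf00cf00cf00cf00cf00cf00cf00c)
  b := 20
  B := 0x1000000000000000
  cas :=
    [⟨[0, 1, 2, 3, 4], [3, 2, 4, 1, 2, 3, 0, 1, 2, 4, 0, 1, 2, 3, 0, 1, 2, 0, 1, 0], (unp 6
    0x80b1013622c8404959091b2168420248ed084915a121b4162486420246843ac90c84048d0ada1908091a4b3210123764864246852d0c848d1d99091ab43234566466cc5),
    (unz 3 0x771047b893b1ea96f717bf90b127d46)⟩]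

theorem D5_01243_good : D5_01243.Good := Fs.good_of
    [(List.map (unp 6)
    [0x88108133021025642048c040918811b0226024602cc48c0559180a330136204268050c084d009d809a01330120156426804cc4d00958900a33402464026c049,
    0x881822b0304466086c0480d58901a320336026806cc4d00d59a01a330036204684090c08d0811d809a101bb010346468408cc4d080d98819b3420356064c009,
    0x839301064620c6c018d8313002602408ac481119819b4203462042680f0c0484d01a18091a033b01230466242680cec48d0199891822b05264066c0c9,
    0x9904a30108462106c04821589042320136024810cc4902159201232320156246842130c048c850225809190844300836246428110c48c8421d841330236024c089,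
    0x8185a330b366026c0482558984233083602128c8c211a10842b2102460204684172c048d082e1809a104bb0134096642148c50211899084334083664210acc84095,
    0x86130240a5648148c10291a051b3402460146c2899811b230246246842190c08c2958185230340a5646148cc28d9a052302268046c90091,
    0x8069b1020d562046c3498113210246024616cc84c2159841b4210856024206841b4c048d083618091a06bb0120b568146c4c291890423230a4642108c209,
    0x8113020d4641a6c034d8693102102660204212ec40842599049b0926204218cc0c908c361811921186cb102140976648461aec8c908c36188109904c30c268126cc8251,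
    0x8071b010e462066c048395891822b21034602481ccc49019590a11823b321420376020426842061dac048c84103a98091908074b0e2664280cccc81118193306366086c189,
    0xa101a30230e56461c8c0840c39d9081873321004562461cad0840399880223072620421ecc4d084c83a5821072b02324230e96464842061d4d08391919211874340736460e8cc840119,
    0x8079b01021066484260cec0484041da10983331342304761e4c1498983232130656284261eec840d88131321040f8680c6c9019199082ab12044646480cccc90195,
    0x8182233043620608ac4108c39da11872b2100e5602681ccc40d03999a072332100666420820cc0484d0842588119073b010e464268420ec8c8395880723342100e761c4c840195,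
    0x82930240f56481e8c103d1a079b34074601e6c3c99839b230746224c08c3d58187a30340f56461e8cc3cd9a07a3072680e6c901d1,
    0x8031b010746200c8c1898393210065602484201d2c840c3999871b42100e6642081ecc10841580987ab0120e5681e6c4c841592118733230f464201cac389,
    0x8041b0132096620108c0482d588109904c3210085602481acc4085082e19082109904d332104210896020428461b4c4c84108c2e999084ab082664841acc8c82d59904a330d36164c349,
    0x8051b01023240d96468461aec04840c903699a1186b31034213209a6144c3099906a32320d5684218ac48d08c3618909a1186cb03210c6681a6c9035189190805431021096646481accc90355,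
    0x80909a1186d3010213420ba6042842064176c084029989099206c3213420b766481aac0c29180811905c32130d5684261acc4d082d98513012132140da6028416cc0903559908053310230b660464284172c484d08c365,
    0x891a108643234210c76046842190cd08431981a10863b1034210c8664218ac0c8431988190863b2103210c86184c430d9086234210c5602188c0843158210863310210c662084218ec841084321])]
    (by delta D5_01243; rewrite [Fast.unz_eq, Fast.unp_eq]; decide +kernel)

noncomputable def D5_01243_bas : List (List ℤ × ℤ) :=
    (List.map (fun l => (l, 1)) (List.map (unz 2) [0x1249249249249a, 0x124924924924d1, 0x1249a492492689,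
    0x1a49a249249249, 0x34492492492689, 0x12492492493449, 0x1249249249a249, 0x124d24924d1249, 0x524d1249249249,
    0xa24924924d1249, 0x12492492689249, 0x12492493449249, 0x1249249a249249, 0x124924d1249249, 0x12492689249249,
    0x12493449249249, 0x12689249249249, 0x13449249249249]))

noncomputable def D5_01243_inv : List (ℤ × List (ℤ × ℕ)) :=
    (List.zip (unz 2 0x273aa9ceaaaaaa7553aa) (List.map (unv 3) [0x32, 0x132, 0x472d4a52, 0x572, 0x672, 0x4c9449772,
    0xa92, 0xb92, 0xc92, 0xd92, 0xe92, 0xf92, 0x2396a529, 0x264a24bb9, 0x10b2, 0x11b2, 0x11cb5329, 0x1325127b9]))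

noncomputable def D5_01243_cf : List (List (ℤ × ℕ) × ℤ) :=
    (List.zip (List.map (unv 4)
    [0x22b1417c3fa504726015a9e09c4a1ad281349e1e5281309e09e7e1f1d0269d161f846541117878d0c1a4,
    0x22b1417c3fa504726015a9df9c49dad27f349dde527f309df9e7e1f1d0269d161f846541117778cec1a4,
    0x1158a0b85f480fa981f121292eb29fde1303f38ef4f6b0ef6ca03c51de3850d3,
    0x22b17a73d4bdb1212d20b49892905c7e94e121e172e71c831,
    0x1158c1643fa40da981f139da407a4baca7ed097df9dd71fed4e6b0ef6ca068aeb1e18365,
    0x456282dd7d20b8905b4fad25d65206e785c7f5a7965058c2062, 0x1158a0b75f482e27a5a40d498594faf3c2e3fad3cb282c79862,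
    0x1158a0b85f480fa97df139d26165202212fbf38ef4f6b0ef6ca03c521e3750d3,
    0x8ac5e9cf5306c4e769e9496929e98fd29c243c2e5ce30c31,
    0x22b182c87f481b52fbe2425a7ed49859480f0981f9dd71fed4e6b0ef6ca068b0b1dd8365,
    0x22b182dd7d3f6d4bef8975a4bac2607e775a7943c1b280f16163850e3,
    0x22b182dd7d3f6d4c0f8985a4c2c25f7e775a7943c1b280f15d63750e3,
    0x4562f4a1b92fe3128b693de93c6949ef8e83d3a2e54345e3468a1a4, 0x8ac5e9cf132b4f4a4c49482e382d3cb2e715a461862,
    0x8ac5e9cf121da41692d253d31c169e59738b1239062, 0x4562f4a1b92fe3126b6941e93b694a0f8e83d3a2e54345db466a1a4,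
    0x22b141676e4808e73b53a2c39ee1a4, 0x456305bafa40dceeb4f2878365f50e3]) (unz 4
    0x1809a02bc0ac08c08f02b00ac02b00ac08c02b013809c02b02300af00cf00c))

theorem D5_01243_gen : FX D5_01243
    (List.map (fun l => (l, 1)) (List.map (unz 2) [0x13c6dab6a73aaaaaa, 0x5b3eaa249aa249aa, 0x249b6aaa89b6daa,
    0x49a269349249aa, 0x269a6a93554689a])) :=
  FX.ofC D5_01243_good
    (FC.append (FC.delta D5_01243 [3, 4, 6, 14])
    (FC.ind D5_01243_good A1_good (FC.pick A1_fc [0] (by decide +kernel)) ⟨[0], 0xfe00, 0x123, (unp 4 0x2813b203d)⟩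
    (by decide +kernel)))
    _ (Fs.ofC_of (by delta D5_01243 A1_cf; rewrite [Fast.unz_eq, Fast.unv_eq, Fast.unp_eq]; decide +kernel))

theorem D5_01243_fx : FX D5_01243 D5_01243_bas := FX.comb D5_01243_good D5_01243_gen (List.zipWith (fun a b => ⟨a, b, 1⟩)
    (List.map (fun n => List.map Prod.swap (unv 4 n)) [0x686, 0x676, 0x184, 0x184, 0x184, 0x305, 0x1f4, 0xf3, 0xf3,
    0xf3, 0x385, 0x375, 0x345, 0x72, 0xc3, 0x335, 0x21, 0x21])
    (List.map (unv 2) [0x1a, 0x1a, 0x1a, 0x5a, 0x156d, 0x1a, 0x1a, 0x1a, 0x5a, 0x156d, 0x5a, 0x5a, 0x1a, 0xd, 0xd,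
    0x1a, 0xea, 0x9d]))
    _ (Fs.comb_of (by delta D5_01243 D5_01243_bas; rewrite [Fast.unz_eq, Fast.unv_eq, Fast.unp_eq]; decide +kernel))

theorem D5_01243_io : invOK D5_01243 D5_01243_bas D5_01243_inv = true := Fs.invOK_of (by delta D5_01243_bas D5_01243_inv; rewrite [Fast.unz_eq, Fast.unv_eq]; decide +kernel)

theorem D5_01243_fc : FC D5_01243 D5_01243_cf := FC.ofX D5_01243_good D5_01243_fx _ (Fs.ofX_of (by delta D5_01243 D5_01243_cf D5_01243_bas; rewrite [Fast.unz_eq, Fast.unv_eq, Fast.unp_eq]; decide +kernel))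

noncomputable def D5_01243_L : Lat := ⟨D5_01243, D5_01243_bas, D5_01243_inv⟩

theorem D5_01243_ok : D5_01243_L.Ok := ⟨D5_01243_good, D5_01243_fx, D5_01243_io⟩

noncomputable def A4A1 : Nd where
  r := 5
  AL := [[2, -1, 0, 0, 0], [-1, 2, -1, 0, 0], [0, -1, 2, -1, 0], [0, 0, -1, 2, 0], [0, 0, 0, 0, 2]]
  sg := [0, 1, 2, 3, 4]
  tab :=
    0xfffffffffffffffffffffffe0000000020fffffffffffffffffffffffffe0100001800000000000000000000000000fe0100100000000000000000000000000000fe0108000000000000000000000000000000fe00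
  tbs :=
    0xfffffffffffffffffffffffe0000000020fffffffffffffffffffffffffe0100001800000000000000000000000000fe0100100000000000000000000000000000fe0108000000000000000000000000000000fe00
  n0 := 0x4141414141
  RL :=
    (List.map (unz 2) [0x249a, 0x24d1, 0x2689, 0x3449, 0xa249, 0x49aa, 0x4d51, 0x6a89, 0x9aaa, 0xd551, 0x1aaaa])
  K := 14
  rep := (unp 5 0x8091a56026918092460247181236028d809b6024d822604980a6858161)
  cod :=
    (unp 6
    0x7e8282827937e7e86827d37e8482827b3414141413c9ff423f433f9bf4142413e9a09fa1a09f4f05090504f67fd050508fe682847e867f3c14142413e9ff414141419a0a0a0a11fcf05050505067)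
  nW := (unz 3 0x30d46f361bd68d46f352fad1a54b2)
  XC :=
    (List.map (unz 3) [0x3264a952a54891224494a52, 0x466652d6a38e6652, 0x2e649952654ee277126532, 0x11999994a5294a52,
    0x35a94a52111194a52, 0x4653328f5a8e5332, 0x1194a6444466652, 0x46665294a666652, 0x465329994ca6532,
    0x47a994c844466532, 0x2521111999994a52, 0x11994a444465332, 0x465332994a65332, 0x132111194ca66532])
  nu := (unz 4 0x3c13e09f04f827c13e09f04f827c13e09f04f827c13e09)
  b := 6
  B := 0x40000000000000
  cas :=
    [⟨[0, 1, 2, 3], [0, 1, 2, 3, 0, 1, 2, 0, 1, 0], (unp 5 0x996646d91664247590936259908091f6420255880b605), (unz 3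
    0x475a8e39932a549d9da5a5)⟩, ⟨[4], [4], (unp 3 0xa5), (unz 2 0x16ad5ab56ad5a)⟩]

theorem A4A1_good : A4A1.Good := Fs.good_of
    [(List.map (unp 6) [0x2420642030c40c8405d881080b30321016604202ac0405199080ab2101462026c049,
    0x246088cc10d8213032035604068c00cd9901a320336064c009,
    0x24206420b0c40c8415d881082b3032105660420aac0415199082ab21054620a6c149,
    0x20e4cc81919031b103206662040cac404d9831b0626024c04051,
    0x220420640f2c4084c81e180930320756040c8c018d9903a3206360c4c4084059,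
    0x246128cc24d8493032085604108c020d99042320836104c089, 0x26146c840c2999019b0120a5602088c480d185130326084c0480d5,
    0x2064c40c2958805230130a5602148c48c1159851b0a2646088c048c119,
    0x2184cc82d19059b10320b6620416ac414d9859b0b260a4c04151,
    0x22042064192c4084c832182930320c5604168c02cd99062320b36164c4084159,
    0x260c6cc81d1918323012075642640ecc48c195831307262042640f0c048c199,
    0x261a6c840c3599041b0120d5602128c4821186930826124c048215,
    0x2104c40c3558806a30130d56021a8c48c2559869b0d2646128c048c259,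
    0x26166cc83119185a30120c56426418cc48c2d585930c26204264190c048c2d9]), (List.map (unp 4) [0x1029, 0x1059, 0x1009,
    0x1089, 0x1099, 0x1019, 0x10b9, 0x10c9, 0x1039, 0x1049, 0x10d9, 0x1069, 0x1079, 0x10a9])]
    (by delta A4A1; rewrite [Fast.unz_eq, Fast.unp_eq]; decide +kernel)

noncomputable def A4A1_bas : List (List ℤ × ℤ) :=
    (List.map (fun l => (l, 1)) (List.map (unz 2) [0x1249249249a, 0x124924924d1, 0x12492492689, 0x12492493449,
    0x1249249a249, 0x124924d1249, 0x12492689249, 0x12493449249, 0x1249a249249, 0x124d1249249, 0x12689249249,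
    0x13449249249, 0x1a249249249, 0x51249249249]))

noncomputable def A4A1_inv : List (ℤ × List (ℤ × ℕ)) :=
    (List.zip (unz 2 0xaaaaaaaaaaaaaa) (List.map (unv 3) [0x32, 0x132, 0x252, 0x352, 0x472, 0x572, 0x672, 0x772,
    0x892, 0x992, 0xa92, 0xb92, 0xc92, 0xd92]))

theorem A4A1_gen : FX A4A1
    (List.map (fun l => (l, 1)) (List.map (unz 3) [0x3264a952a54891224494a52, 0x11999994a5294a52,
    0x2521111999994a52])) :=
  FX.ofC A4A1_good
    (FC.delta A4A1 [0, 3, 10])
    _ (Fs.ofC_of (by delta A4A1; rewrite [Fast.unz_eq, Fast.unp_eq]; decide +kernel))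

theorem A4A1_fx : FX A4A1 A4A1_bas := FX.comb A4A1_good A4A1_gen (List.zipWith (fun a b => ⟨a, b, 1⟩)
    (List.map (fun n => List.map Prod.swap (unv 4 n)) [0x1188345, 0x8c4345, 0x1188335, 0x8c4335, 0x8c41a4,
    0x4621a4, 0x8c4194, 0x462194, 0x4620c3, 0x2310c3, 0x231072, 0x118872, 0x118821, 0x8c421])
    (List.map (unv 2) [0x1a, 0x1a, 0x1a, 0x1a, 0x5a, 0x5a, 0x5a, 0x5a, 0x2d, 0x2d, 0x2d, 0x2d, 0xaa, 0xaa]))
    _ (Fs.comb_of (by delta A4A1 A4A1_bas; rewrite [Fast.unz_eq, Fast.unv_eq, Fast.unp_eq]; decide +kernel))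

theorem A4A1_io : invOK A4A1 A4A1_bas A4A1_inv = true := Fs.invOK_of (by delta A4A1_bas A4A1_inv; rewrite [Fast.unz_eq, Fast.unv_eq]; decide +kernel)

noncomputable def A4A1_L : Lat := ⟨A4A1, A4A1_bas, A4A1_inv⟩

theorem A4A1_ok : A4A1_L.Ok := ⟨A4A1_good, A4A1_fx, A4A1_io⟩

noncomputable def A4A1_32104 : Nd where
  r := 5
  AL := [[2, -1, 0, 0, 0], [-1, 2, -1, 0, 0], [0, -1, 2, -1, 0], [0, 0, -1, 2, 0], [0, 0, 0, 0, 2]]
  sg := [3, 2, 1, 0, 4]
  tab :=
    0xfffffffffffffffffffffffe0000000020fffffffffffffffffffffffffe0100001800000000000000000000000000fe0100100000000000000000000000000000fe0108000000000000000000000000000000fe00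
  tbs :=
    0xfffffffffffffffffffffffe0000000020000000000000000000000000000000fe000000000000000000000000000000fe010800000000000000000000000000fe010010fffffffffffffffffffffffffe01000018
  n0 := 0x4141414141
  RL :=
    (List.map (unz 2) [0x249a, 0x24d1, 0x2689, 0x3449, 0xa249, 0x49aa, 0x4d51, 0x6a89, 0x9aaa, 0xd551, 0x1aaaa])
  K := 14
  rep := (unp 6 0x2020420642096c04851580a1b12144602042064214c5098213012146024d058909b11602c1)
  cod :=
    (unp 6
    0x7e7e7e7e7f37e867e847b37e8284827d37e867e7e873413f3f3f3f9ff41423f429bf4141423f9a0a19fa11ecf05050904fa7fd05050506682867e7e873c141423f429e0a0a0a11fcf05050505067)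
  nW := (unz 3 0x2546c352ca8de6a361bd6968de6f5)
  XC :=
    (List.map (unz 3) [0x11118e394a5294a52, 0x111111999994a52, 0x94a52119994a6652, 0xd6b5a119994a6652,
    0x888ea3994ca6532, 0x2665299948444652, 0x252991194a666652, 0x11111194ca66532, 0x265321194cca5332,
    0x8913beee5c94aa54a95252, 0x23d47a1194cca5332, 0x129994a664222332, 0x2652911994a65332,
    0x3b8913bc9726532a4ca932])
  nu := (unz 4 0x3c13e09f04f827c13e09f04f827c13e09f04f827c13e09)
  b := 6
  B := 0x40000000000000
  cas :=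
    [⟨[0, 1, 2, 3], [0, 1, 2, 3, 0, 1, 2, 0, 1, 0], (unp 5 0x996646d91664247590936259908091f6420255880b605), (unz 3
    0x264ca95046767638f5aa5a5)⟩, ⟨[4], [4], (unp 3 0xa5), (unz 2 0x16ad5ab56ad5a)⟩]

theorem A4A1_32104_good : A4A1_32104.Good := Fs.good_of
    [(List.map (unp 5) [0x800b602605588136242003981a60498181c6242035818146029,
    0x800360200b5902b6060d1908346060b1810803660c982a6009, 0x802b64200b5900362040b588036009809835620460b98182c60a9,
    0x9080356200d18803600cd8026400d84a6420d1883360c9, 0x803b60261158843624200f985261098185462420f58184460e9,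
    0x80136426055900b602640399080c60605180800d620605580a6049,
    0x8090800f60204039881815624607589080d624031801b6029900b6069,
    0x80236020175905b606191908646061718108066618985a6089, 0x805b64201759023620417588236089809865620461798185c6169,
    0x90801d62007188181d6006d8181c604607581a6606d9181c6246075, 0x90806562019188236018d8226408d86a64219188636189,
    0x80436426115903b602640f99083c60611180803d620611583a6109,
    0x8090803f602040f9881845624615589083d6240f1805360e9903b6149,
    0x9080556201518818556014d8185460461558526614d918546246155]), (List.map (unp 4) [0x1049, 0x1079, 0x1089, 0x10a9,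
    0x1009, 0x10b9, 0x10c9, 0x1019, 0x1029, 0x10d9, 0x1039, 0x1059, 0x1069, 0x1099])]
    (by delta A4A1_32104; rewrite [Fast.unz_eq, Fast.unp_eq]; decide +kernel)

noncomputable def A4A1_32104_bas : List (List ℤ × ℤ) :=
    (List.map (fun l => (l, 1)) (List.map (unz 2) [0x1249249249a, 0x124924924d1, 0x12492492689, 0x12492493449,
    0x1249249a249, 0x124924d1249, 0x12492689249, 0x12493449249, 0x1249a249249, 0x124d1249249, 0x12689249249,
    0x13449249249, 0x1a249249249, 0x51249249249]))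

noncomputable def A4A1_32104_inv : List (ℤ × List (ℤ × ℕ)) :=
    (List.zip (unz 2 0xaaaaaaaaaaaaaa) (List.map (unv 3) [0x32, 0x132, 0x252, 0x352, 0x472, 0x572, 0x672, 0x772,
    0x892, 0x992, 0xa92, 0xb92, 0xc92, 0xd92]))

theorem A4A1_32104_gen : FX A4A1_32104
    (List.map (fun l => (l, 1)) (List.map (unz 2) [0x92673aaaaaaaa, 0xb6aadaa249aa])) :=
  FX.ofC A4A1_32104_good
    (FC.delta A4A1_32104 [0, 5])
    _ (Fs.ofC_of (by delta A4A1_32104; rewrite [Fast.unz_eq, Fast.unp_eq]; decide +kernel))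

theorem A4A1_32104_fx : FX A4A1_32104 A4A1_32104_bas := FX.comb A4A1_32104_good A4A1_32104_gen (List.zipWith (fun a b => ⟨a, b, 1⟩)
    (List.map (fun n => List.map Prod.swap (unv 4 n)) [0x1188345, 0x8c4345, 0x231072, 0x118872, 0x4620c3, 0x2310c3,
    0x1188335, 0x8c4335, 0x118821, 0x8c421, 0x8c41a4, 0x4621a4, 0x8c4194, 0x462194])
    (List.map (unv 2) [0x1a, 0x1a, 0x1a, 0x1a, 0x1a, 0x1a, 0x1a, 0x1a, 0x2d, 0x2d, 0x5a, 0x5a, 0x2d, 0x2d]))
    _ (Fs.comb_of (by delta A4A1_32104 A4A1_32104_bas; rewrite [Fast.unz_eq, Fast.unv_eq, Fast.unp_eq]; decide +kernel))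

theorem A4A1_32104_io : invOK A4A1_32104 A4A1_32104_bas A4A1_32104_inv = true := Fs.invOK_of (by delta A4A1_32104_bas A4A1_32104_inv; rewrite [Fast.unz_eq, Fast.unv_eq]; decide +kernel)

noncomputable def A4A1_32104_L : Lat := ⟨A4A1_32104, A4A1_32104_bas, A4A1_32104_inv⟩

theorem A4A1_32104_ok : A4A1_32104_L.Ok := ⟨A4A1_32104_good, A4A1_32104_fx, A4A1_32104_io⟩

noncomputable def A2A2A1 : Nd where
  r := 5
  AL := [[2, -1, 0, 0, 0], [-1, 2, 0, 0, 0], [0, 0, 2, -1, 0], [0, 0, -1, 2, 0], [0, 0, 0, 0, 2]]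
  sg := [0, 1, 2, 3, 4]
  tab :=
    0xfffffffffffffffffffffffe0000000020fffffffffffffffffffffffffe0100001800000000000000000000000000fe000010fffffffffffffffffffffffffffffe0108000000000000000000000000000000fe00
  tbs :=
    0xfffffffffffffffffffffffe0000000020fffffffffffffffffffffffffe0100001800000000000000000000000000fe000010fffffffffffffffffffffffffffffe0108000000000000000000000000000000fe00
  n0 := 0x4141414141
  RL := (List.map (unz 2) [0x249a, 0x24d1, 0x2689, 0x3449, 0xa249, 0x49aa, 0x6a89])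
  K := 18
  rep := (unp 5 0x8091a56046918092460247191a36048d811b6028d8093648991a60898126029a16458161)
  cod :=
    (unp 6
    0x1fa09f209f4dfa09f211fcdfa11fa09f4d0504f904fa7fd04f905066fd08fd08fe682827c847f3fe8282827d341423f413e9ff423f41419a0a09f20a0cffa0a0a11fcd0508fd08fe7828282827d3fe82828283341423f41419e0a0a0a11fcf05050505067)
  nW := (unz 3 0x89932448e572479338f3958e59e72)
  XC :=
    (List.map (unz 3) [0x22448e38e38e38e394a5294a52, 0x475a11118e3999994a52, 0x44475a8e3119994a6652,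
    0x1dc4d47a8f51ea3994ca6532, 0x35a8e399998e394a5294a52, 0x111111111194a666652, 0x463d0888ea394ca66532,
    0x35a998e38e39994a5294a52, 0x44463d6a31194cca5332, 0x44465299119994a6652, 0x47ad472994ea3994ca6532,
    0x4652111199999994a52, 0x1111111111994a65332, 0x47a94ea3d4729994ca6532, 0x2529999999994a5294a52,
    0x444665291194cca5332, 0x466422232994ca66532, 0x13294ca65329994ca6532])
  nu := (unz 4 0x908908908908908908908908908908908908908908908908908908)
  b := 4
  B := 0x8000000000000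
  cas :=
    [⟨[0, 1], [0, 1, 0], (unp 4 0x456203b05), (unz 2 0x9bdc9277bbdef7def7b)⟩, ⟨[2, 3], [2, 3, 2], (unp 4
    0x4d6647b25), (unz 2 0x926f7dec9bdf7bbdf7b)⟩, ⟨[4], [4], (unp 3 0xa5), (unz 2 0x5ab56ad5ab56ad5a)⟩]

theorem A2A2A1_good : A2A2A1.Good := Fs.good_of
    [(List.map (unp 5) [0x202031880b6029, 0x2008d8226009, 0x2020b1882b60a9, 0x2020d1883360c9, 0x2202d80a602031,
    0x2012d84a6049, 0x2014d8526069, 0x202171885b6169, 0x20219188636189, 0x220ad82a6020b1, 0x220cd8326020d1,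
    0x201cd87260e9, 0x201ed87a6109, 0x20221188836209, 0x2216d85a602171, 0x2218d862602191, 0x2022d88a61a9,
    0x2220d882602211]), (List.map (unp 5) [0x24605198136049, 0x2460b1982b60a9, 0x240ed83a6009, 0x24611198436109,
    0x246131984b6129, 0x2416d85a6029, 0x24619198636189, 0x2604d812646051, 0x241ad86a6069, 0x241cd8726089,
    0x2461f1987b61e9, 0x260ad82a6460b1, 0x2420d88260c9, 0x2610d842646111, 0x2612d84a646131, 0x2422d88a6149,
    0x2618d862646191, 0x261ed87a6461f1]), (List.map (unp 4) [0x1039, 0x1069, 0x1089, 0x1009, 0x10a9, 0x10c9,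
    0x1019, 0x10d9, 0x1029, 0x10f9, 0x1049, 0x1109, 0x1059, 0x1079, 0x1119, 0x1099, 0x10b9, 0x10e9])]
    (by delta A2A2A1; rewrite [Fast.unz_eq, Fast.unp_eq]; decide +kernel)

noncomputable def A2A2A1_bas : List (List ℤ × ℤ) :=
    (List.map (fun l => (l, 1)) (List.map (unz 2) [0x1249249249249a, 0x124924924924d1, 0x12492492492689,
    0x12492492493449, 0x1249249249a249, 0x124924924d1249, 0x12492492689249, 0x12492493449249, 0x1249249a249249,
    0x124924d1249249, 0x12492689249249, 0x12493449249249, 0x1249a249249249, 0x124d1249249249, 0x12689249249249,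
    0x13449249249249, 0x1a249249249249, 0x51249249249249]))

noncomputable def A2A2A1_inv : List (ℤ × List (ℤ × ℕ)) :=
    (List.zip (unz 2 0xaaaaaaaaaaaaaaaaaa) (List.map (unv 3) [0x32, 0x132, 0x252, 0x352, 0x472, 0x572, 0x672,
    0x772, 0x892, 0x992, 0xa92, 0xb92, 0xc92, 0xd92, 0xe92, 0xf92, 0x10b2, 0x11b2]))

theorem A2A2A1_gen : FX A2A2A1
    (List.map (fun l => (l, 1)) (List.map (unz 3) [0x22448e38e38e38e394a5294a52, 0x35a8e399998e394a5294a52,
    0x35a998e38e39994a5294a52, 0x2529999999994a5294a52])) :=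
  FX.ofC A2A2A1_good
    (FC.delta A2A2A1 [0, 4, 7, 14])
    _ (Fs.ofC_of (by delta A2A2A1; rewrite [Fast.unz_eq, Fast.unp_eq]; decide +kernel))

theorem A2A2A1_fx : FX A2A2A1 A2A2A1_bas := FX.comb A2A2A1_good A2A2A1_gen (List.zipWith (fun a b => ⟨a, b, 1⟩)
    (List.map (fun n => List.map Prod.swap (unv 4 n)) [0x8a28e30e3, 0x4518e30e3, 0x8a28d30e3, 0x4518d30e3,
    0x8a28e30d3, 0x4518e30d3, 0x8a28d30d3, 0x4518d30d3, 0x228a210e3, 0x1146210e3, 0x228a38c21, 0x114638c21,
    0x228a34c21, 0x114634c21, 0x228a210d3, 0x1146210d3, 0x8a288421, 0x45188421])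
    (List.map (unv 2) [0x1a, 0x1a, 0x1a, 0x1a, 0x1a, 0x1a, 0x1a, 0x1a, 0x55, 0x55, 0x2d, 0x2d, 0x2d, 0x2d, 0x55,
    0x55, 0xea, 0xea]))
    _ (Fs.comb_of (by delta A2A2A1 A2A2A1_bas; rewrite [Fast.unz_eq, Fast.unv_eq, Fast.unp_eq]; decide +kernel))

theorem A2A2A1_io : invOK A2A2A1 A2A2A1_bas A2A2A1_inv = true := Fs.invOK_of (by delta A2A2A1_bas A2A2A1_inv; rewrite [Fast.unz_eq, Fast.unv_eq]; decide +kernel)

noncomputable def A2A2A1_L : Lat := ⟨A2A2A1, A2A2A1_bas, A2A2A1_inv⟩

theorem A2A2A1_ok : A2A2A1_L.Ok := ⟨A2A2A1_good, A2A2A1_fx, A2A2A1_io⟩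

noncomputable def A2A2A1_01324 : Nd where
  r := 5
  AL := [[2, -1, 0, 0, 0], [-1, 2, 0, 0, 0], [0, 0, 2, -1, 0], [0, 0, -1, 2, 0], [0, 0, 0, 0, 2]]
  sg := [0, 1, 3, 2, 4]
  tab :=
    0xfffffffffffffffffffffffe0000000020fffffffffffffffffffffffffe0100001800000000000000000000000000fe000010fffffffffffffffffffffffffffffe0108000000000000000000000000000000fe00
  tbs :=
    0xfffffffffffffffffffffffe000000002000000000000000000000000000fe000010fffffffffffffffffffffffffe01000018fffffffffffffffffffffffffffffe0108000000000000000000000000000000fe00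
  n0 := 0x4141414141
  RL := (List.map (unz 2) [0x249a, 0x24d1, 0x2689, 0x3449, 0xa249, 0x49aa, 0x6a89])
  K := 18
  rep := (unp 5 0x80919266024918119256048d80a360246558093646491922608981194604980a68591936458161)
  cod :=
    (unp 6
    0x1f9f9fa09f4dfa11fa09f4df9f9fa11fcdfa11fa11fcdfa0a0a09f4d04fcfd04fa782847e827d3fe7e7e828337e847e828337e8282847f3413f3f423f9e0a11fa11fcf05050504fa7fd050505066827e7e82833c1423f41419e0a0a0a11fcf05050505067)
  nW := (unz 3 0x8e267932471251cae79326728e573)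
  XC :=
    (List.map (unz 3) [0x1111118e38e394a5294a52, 0x1111111111999994a52, 0x25294a38f5a8e39994a6652,
    0x35ad6bbef5a8e39994a6652, 0x44444751ea3994ca6532, 0x111111999994a5294a52, 0x2665211111194a666652,
    0x238f5a11111194a666652, 0x111111111194ca66532, 0x4ca65a8e3d6a394cca5332, 0x11ea3d44ee3d6a394cca5332,
    0x25294a6652999994a6652, 0x35ad6a38e52999994a6652, 0x4444465329994ca6532, 0x25332111111994a65332,
    0x351c7a111111994a65332, 0x132994a6652994cca5332, 0x47a8f5a8e652994cca5332])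
  nu := (unz 4 0x908908908908908908908908908908908908908908908908908908)
  b := 4
  B := 0x8000000000000
  cas :=
    [⟨[0, 1], [0, 1, 0], (unp 4 0x456203b05), (unz 2 0x2f7dec9249bdef7def7b)⟩, ⟨[2, 3], [2, 3, 2], (unp 4
    0x4d6647b25), (unz 2 0x9249bdf7bbdf7bbdf7b)⟩, ⟨[4], [4], (unp 3 0xa5), (unz 2 0x5ab56ad5ab56ad5a)⟩]

theorem A2A2A1_01324_good : A2A2A1_01324.Good := Fs.good_of
    [(List.map (unp 5) [0x202031880b6029, 0x200ad82a6009, 0x2020d1883360c9, 0x2020f1883b60e9, 0x20211188436109,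
    0x2202d80a602031, 0x2016d85a6049, 0x2018d8626069, 0x201ad86a6089, 0x2021d1887361c9, 0x2021f1887b61e9,
    0x220cd8326020d1, 0x220ed83a6020f1, 0x2210d842602111, 0x2020d8826129, 0x2022d88a6149, 0x221cd8726021d1,
    0x221ed87a6021f1]), (List.map (unp 4) [0x480b6073029, 0x481b60f3069, 0x4c036401b009, 0x48036013300d,
    0x48276153099, 0x482f61930b9, 0x4c076403b019, 0x48076033301d, 0x483b61f30e9, 0x4c136409b049, 0x48136093304d,
    0x4c17640bb059, 0x481760b3305d, 0x48436233109, 0x4c236411b089, 0x48236113308d, 0x4c37641bb0d9,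
    0x483761b330dd]), (List.map (unp 4) [0x1049, 0x1089, 0x1099, 0x10a9, 0x1009, 0x10d9, 0x10e9, 0x10f9, 0x1019,
    0x1029, 0x1039, 0x1109, 0x1119, 0x1059, 0x1069, 0x1079, 0x10b9, 0x10c9])]
    (by delta A2A2A1_01324; rewrite [Fast.unz_eq, Fast.unp_eq]; decide +kernel)

noncomputable def A2A2A1_01324_bas : List (List ℤ × ℤ) :=
    (List.map (fun l => (l, 1)) (List.map (unz 2) [0x1249249249249a, 0x124924924924d1, 0x12492492492689,
    0x12492492493449, 0x1249249249a249, 0x124924924d1249, 0x12492492689249, 0x12492493449249, 0x1249249a249249,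
    0x124924d1249249, 0x12492689249249, 0x12493449249249, 0x1249a249249249, 0x124d1249249249, 0x12689249249249,
    0x13449249249249, 0x1a249249249249, 0x51249249249249]))

noncomputable def A2A2A1_01324_inv : List (ℤ × List (ℤ × ℕ)) :=
    (List.zip (unz 2 0xaaaaaaaaaaaaaaaaaa) (List.map (unv 3) [0x32, 0x132, 0x252, 0x352, 0x472, 0x572, 0x672,
    0x772, 0x892, 0x992, 0xa92, 0xb92, 0xc92, 0xd92, 0xe92, 0xf92, 0x10b2, 0x11b2]))

theorem A2A2A1_01324_gen : FX A2A2A1_01324
    (List.map (fun l => (l, 1)) (List.map (unz 2) [0x92499ce73aaaaaaaa, 0x9249b6daaaaaaaa, 0xaaaab6aadb6aadaa])) :=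
  FX.ofC A2A2A1_01324_good
    (FC.delta A2A2A1_01324 [0, 5, 11])
    _ (Fs.ofC_of (by delta A2A2A1_01324; rewrite [Fast.unz_eq, Fast.unp_eq]; decide +kernel))

theorem A2A2A1_01324_fx : FX A2A2A1_01324 A2A2A1_01324_bas := FX.comb A2A2A1_01324_good A2A2A1_01324_gen (List.zipWith (fun a b => ⟨a, b, 1⟩)
    (List.map (fun n => List.map Prod.swap (unv 4 n)) [0x8a28e30e3, 0x4518e30e3, 0x8a28d30e3, 0x4518d30e3,
    0x8a28e30d3, 0x4518e30d3, 0x8a28d30d3, 0x4518d30d3, 0x228a38c21, 0x114638c21, 0x228a34c21, 0x114634c21,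
    0x8a288421, 0x45188421, 0x228a210e3, 0x1146210e3, 0x228a210d3, 0x1146210d3])
    (List.map (unv 2) [0x1a, 0x1a, 0x1a, 0x1a, 0x1a, 0x1a, 0x1a, 0x1a, 0x2d, 0x2d, 0x2d, 0x2d, 0x55, 0x55, 0xaa,
    0xaa, 0xaa, 0xaa]))
    _ (Fs.comb_of (by delta A2A2A1_01324 A2A2A1_01324_bas; rewrite [Fast.unz_eq, Fast.unv_eq, Fast.unp_eq]; decide +kernel))

theorem A2A2A1_01324_io : invOK A2A2A1_01324 A2A2A1_01324_bas A2A2A1_01324_inv = true := Fs.invOK_of (by delta A2A2A1_01324_bas A2A2A1_01324_inv; rewrite [Fast.unz_eq, Fast.unv_eq]; decide +kernel)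

noncomputable def A2A2A1_01324_L : Lat := ⟨A2A2A1_01324, A2A2A1_01324_bas, A2A2A1_01324_inv⟩

theorem A2A2A1_01324_ok : A2A2A1_01324_L.Ok := ⟨A2A2A1_01324_good, A2A2A1_01324_fx, A2A2A1_01324_io⟩

noncomputable def A2A2A1_10324 : Nd where
  r := 5
  AL := [[2, -1, 0, 0, 0], [-1, 2, 0, 0, 0], [0, 0, 2, -1, 0], [0, 0, -1, 2, 0], [0, 0, 0, 0, 2]]
  sg := [1, 0, 3, 2, 4]
  tab :=
    0xfffffffffffffffffffffffe0000000020fffffffffffffffffffffffffe0100001800000000000000000000000000fe000010fffffffffffffffffffffffffffffe0108000000000000000000000000000000fe00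
  tbs :=
    0xfffffffffffffffffffffffe000000002000000000000000000000000000fe000010fffffffffffffffffffffffffe01000018000000000000000000000000000000fe00fffffffffffffffffffffffffffffe0108
  n0 := 0x4141414141
  RL := (List.map (unz 2) [0x249a, 0x24d1, 0x2689, 0x3449, 0xa249, 0x49aa, 0x6a89])
  K := 18
  rep := (unp 5 0x8081192760204958119256048d9192464898082460204659808146089811946049a16464d916020d8161)
  cod :=
    (unp 6
    0x1f9f9f9f9fcdfa11f9f9fcdf9f9fa11fcdfa11fa11fcdf9f9fa0a0cdfa11fa0a0cdfa0a09f9fcd04fcfcfcfe782847e7e7f3fe8282847f3413f3f423f9e0a11fa11fcffa0a0a0a0cd04fcfd0506782847e82833c141413f3f9e0a0a0a11fcf05050505067)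
  nW := (unz 3 0x9471c4cf26728f24712573c99e495)
  XC :=
    (List.map (unz 3) [0x111111111194a5294a52, 0x11111194a52999994a52, 0x111111d6b5a999994a52,
    0x1194a5211119994a6652, 0x11d6b5a11119994a6652, 0x1111111111994ca6532, 0x2529994a665294a666652,
    0x35a8e3d6a665294a666652, 0x444446653294ca66532, 0x35a9994a38f5a94a666652, 0x22448e3d6a38f5a94a666652,
    0x4444463d47a94ca66532, 0x466532111194cca5332, 0x463d47a111194cca5332, 0x13294cca5332994a65332,
    0x47ad471ea5332994a65332, 0x47a94ccb51c7a994a65332, 0x1dc4d471eb51c7a994a65332])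
  nu := (unz 4 0x908908908908908908908908908908908908908908908908908908)
  b := 4
  B := 0x8000000000000
  cas :=
    [⟨[0, 1], [0, 1, 0], (unp 4 0x456203b05), (unz 2 0x9bdf7b249bdef7def7b)⟩, ⟨[2, 3], [2, 3, 2], (unp 4
    0x4d6647b25), (unz 2 0x9249bdf7bbdf7bbdf7b)⟩, ⟨[4], [4], (unp 3 0xa5), (unz 2 0x5ab56ad5ab56ad5a)⟩]

theorem A2A2A1_10324_good : A2A2A1_10324.Good := Fs.good_of
    [(List.map (unp 4) [0x40076053019, 0x44036001b009, 0x40036013100d, 0x401b6133069, 0x401f6153079, 0x40236173089,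
    0x440f6007b039, 0x44136009b049, 0x4417600bb059, 0x400f6073103d, 0x40136093104d, 0x401760b3105d, 0x403b62130e9,
    0x403f62330f9, 0x44336019b0c9, 0x4437601bb0d9, 0x4033619310cd, 0x403761b310dd]), (List.map (unp 4)
    [0x480f6093039, 0x481b60f3069, 0x48276153099, 0x4c036401b009, 0x48036013300d, 0x483361b30c9, 0x4c076403b019,
    0x48076033301d, 0x483b61f30e9, 0x4c0b6405b029, 0x480b6053302d, 0x48436233109, 0x4c17640bb059, 0x481760b3305d,
    0x4c236411b089, 0x48236113308d, 0x4c2f6417b0b9, 0x482f617330bd]), (List.map (unp 4) [0x1059, 0x1089, 0x10b9,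
    0x10c9, 0x10d9, 0x1009, 0x10e9, 0x10f9, 0x1019, 0x1109, 0x1119, 0x1029, 0x1039, 0x1049, 0x1069, 0x1079, 0x1099,
    0x10a9])]
    (by delta A2A2A1_10324; rewrite [Fast.unz_eq, Fast.unp_eq]; decide +kernel)

noncomputable def A2A2A1_10324_bas : List (List ℤ × ℤ) :=
    (List.map (fun l => (l, 1)) (List.map (unz 2) [0x1249249249249a, 0x124924924924d1, 0x12492492492689,
    0x12492492493449, 0x1249249249a249, 0x124924924d1249, 0x12492492689249, 0x12492493449249, 0x1249249a249249,
    0x124924d1249249, 0x12492689249249, 0x12493449249249, 0x1249a249249249, 0x124d1249249249, 0x12689249249249,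
    0x13449249249249, 0x1a249249249249, 0x51249249249249]))

noncomputable def A2A2A1_10324_inv : List (ℤ × List (ℤ × ℕ)) :=
    (List.zip (unz 2 0xaaaaaaaaaaaaaaaaaa) (List.map (unv 3) [0x32, 0x132, 0x252, 0x352, 0x472, 0x572, 0x672,
    0x772, 0x892, 0x992, 0xa92, 0xb92, 0xc92, 0xd92, 0xe92, 0xf92, 0x10b2, 0x11b2]))

theorem A2A2A1_10324_gen : FX A2A2A1_10324
    (List.map (fun l => (l, 1)) (List.map (unz 2) [0x9249249aaaaaaaa, 0x9249aaaab6daaaa, 0x9aaaa249b6aadaa,
    0xaab6aadaaaab6daa])) :=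
  FX.ofC A2A2A1_10324_good
    (FC.delta A2A2A1_10324 [0, 1, 3, 6])
    _ (Fs.ofC_of (by delta A2A2A1_10324; rewrite [Fast.unz_eq, Fast.unp_eq]; decide +kernel))

theorem A2A2A1_10324_fx : FX A2A2A1_10324 A2A2A1_10324_bas := FX.comb A2A2A1_10324_good A2A2A1_10324_gen (List.zipWith (fun a b => ⟨a, b, 1⟩)
    (List.map (fun n => List.map Prod.swap (unv 4 n)) [0x8a28e30e3, 0x4518e30e3, 0x8a28d30e3, 0x4518d30e3,
    0x8a28e30d3, 0x4518e30d3, 0x8a28d30d3, 0x4518d30d3, 0x228a38c21, 0x114638c21, 0x228a34c21, 0x114634c21,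
    0x228a210e3, 0x1146210e3, 0x228a210d3, 0x1146210d3, 0x8a288421, 0x45188421])
    (List.map (unv 2) [0x1a, 0x1a, 0x1a, 0x1a, 0x1a, 0x1a, 0x1a, 0x1a, 0x5a, 0x5a, 0x5a, 0x5a, 0xaa, 0xaa, 0xaa,
    0xaa, 0xea, 0xea]))
    _ (Fs.comb_of (by delta A2A2A1_10324 A2A2A1_10324_bas; rewrite [Fast.unz_eq, Fast.unv_eq, Fast.unp_eq]; decide +kernel))

theorem A2A2A1_10324_io : invOK A2A2A1_10324 A2A2A1_10324_bas A2A2A1_10324_inv = true := Fs.invOK_of (by delta A2A2A1_10324_bas A2A2A1_10324_inv; rewrite [Fast.unz_eq, Fast.unv_eq]; decide +kernel)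

noncomputable def A2A2A1_10324_L : Lat := ⟨A2A2A1_10324, A2A2A1_10324_bas, A2A2A1_10324_inv⟩

theorem A2A2A1_10324_ok : A2A2A1_10324_L.Ok := ⟨A2A2A1_10324_good, A2A2A1_10324_fx, A2A2A1_10324_io⟩

noncomputable def A2A2A1_23014 : Nd where
  r := 5
  AL := [[2, -1, 0, 0, 0], [-1, 2, 0, 0, 0], [0, 0, 2, -1, 0], [0, 0, -1, 2, 0], [0, 0, 0, 0, 2]]
  sg := [2, 3, 0, 1, 4]
  tab :=
    0xfffffffffffffffffffffffe0000000020fffffffffffffffffffffffffe0100001800000000000000000000000000fe000010fffffffffffffffffffffffffffffe0108000000000000000000000000000000fe00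
  tbs :=
    0xfffffffffffffffffffffffe0000000020fffffffffffffffffffffffffffffe0108000000000000000000000000000000fe00fffffffffffffffffffffffffe0100001800000000000000000000000000fe000010
  n0 := 0x4141414141
  RL := (List.map (unz 2) [0x249a, 0x24d1, 0x2689, 0x3449, 0xa249, 0x49aa, 0x6a89])
  K := 6
  rep := (unp 4 0x2469b24991cd164b1)
  cod := (unp 6 0x7e827c828337e847e8283341413e41419ff414141419a0a11fa0a0cf05050505067)
  nW := (unz 3 0xc59362e49364)
  XC := (List.map (unz 2) [0x273aaaa, 0x26daa, 0x74ed5a, 0x2daaaa, 0x26ada, 0x156d5a])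
  nu := (unz 4 0x908908908908908908)
  b := 2
  B := 0x2000000000000
  cas :=
    [⟨[0, 1, 2, 3], [2, 3, 2, 0, 1, 0], (unp 4 0x22b101d82cd6647b25), (unz 3 0x11b973264)⟩, ⟨[4], [4], (unp 3
    0xa5), (unz 2 0x16ad5a)⟩]

theorem A2A2A1_23014_good : A2A2A1_23014.Good := Fs.good_of
    [(List.map (unp 5) [0x8081180f6206035800b602460398980c6029, 0x881b6024075800362607181a6009,
    0x808118276206095802360246099898246089, 0x880b604603580980d62603180a60246039, 0x882b60240b580136260b182a6049,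
    0x8823604609580982562609182260246099]), (List.map (unp 4) [0x1029, 0x1049, 0x1009, 0x1059, 0x1019, 0x1039])]
    (by delta A2A2A1_23014; rewrite [Fast.unz_eq, Fast.unp_eq]; decide +kernel)

noncomputable def A2A2A1_23014_bas : List (List ℤ × ℤ) :=
    (List.map (fun l => (l, 1)) (List.map (unz 2) [0x1249a, 0x124d1, 0x12689, 0x13449, 0x1a249, 0x51249]))

noncomputable def A2A2A1_23014_inv : List (ℤ × List (ℤ × ℕ)) :=
    (List.zip (unz 2 0xaaaaaa) (List.map (unv 2) [0x1a, 0x5a, 0xaa, 0xea, 0x13a, 0x17a]))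

theorem A2A2A1_23014_gen : FX A2A2A1_23014
    (List.map (fun l => (l, 1)) (List.map (unz 2) [0x273aaaa, 0x2daaaa])) :=
  FX.ofC A2A2A1_23014_good
    (FC.delta A2A2A1_23014 [0, 3])
    _ (Fs.ofC_of (by delta A2A2A1_23014; rewrite [Fast.unz_eq, Fast.unp_eq]; decide +kernel))

theorem A2A2A1_23014_fx : FX A2A2A1_23014 A2A2A1_23014_bas := FX.comb A2A2A1_23014_good A2A2A1_23014_gen (List.zipWith (fun a b => ⟨a, b, 1⟩)
    (List.map (fun n => List.map Prod.swap (unv 4 n)) [0x8c41c4, 0x4621c4, 0x8c41b4, 0x4621b4, 0x118821, 0x8c421])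
    (List.map (unv 2) [0x1a, 0x1a, 0x1a, 0x1a, 0x2d, 0x2d]))
    _ (Fs.comb_of (by delta A2A2A1_23014 A2A2A1_23014_bas; rewrite [Fast.unz_eq, Fast.unv_eq, Fast.unp_eq]; decide +kernel))

theorem A2A2A1_23014_io : invOK A2A2A1_23014 A2A2A1_23014_bas A2A2A1_23014_inv = true := Fs.invOK_of (by delta A2A2A1_23014_bas A2A2A1_23014_inv; rewrite [Fast.unz_eq, Fast.unv_eq]; decide +kernel)

noncomputable def A2A2A1_23014_L : Lat := ⟨A2A2A1_23014, A2A2A1_23014_bas, A2A2A1_23014_inv⟩

theorem A2A2A1_23014_ok : A2A2A1_23014_L.Ok := ⟨A2A2A1_23014_good, A2A2A1_23014_fx, A2A2A1_23014_io⟩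

noncomputable def A2A2A1_23104 : Nd where
  r := 5
  AL := [[2, -1, 0, 0, 0], [-1, 2, 0, 0, 0], [0, 0, 2, -1, 0], [0, 0, -1, 2, 0], [0, 0, 0, 0, 2]]
  sg := [2, 3, 1, 0, 4]
  tab :=
    0xfffffffffffffffffffffffe0000000020fffffffffffffffffffffffffe0100001800000000000000000000000000fe000010fffffffffffffffffffffffffffffe0108000000000000000000000000000000fe00
  tbs :=
    0xfffffffffffffffffffffffe0000000020000000000000000000000000000000fe00fffffffffffffffffffffffffffffe0108fffffffffffffffffffffffffe0100001800000000000000000000000000fe000010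
  n0 := 0x4141414141
  RL := (List.map (unz 2) [0x249a, 0x24d1, 0x2689, 0x3449, 0xa249, 0x49aa, 0x6a89])
  K := 6
  rep := (unp 5 0x919246489a16464d9161)
  cod := (unp 6 0x7e7e7e828337e847e828337e828282833413f3f41419e0a11fa0a0cf05050505067)
  nW := (unz 3 0xc98b26c98b26)
  XC := (List.map (unz 2) [0x9aaaa, 0x2aadaa, 0x3badaa, 0x26d5a, 0x16aada, 0x4faada])
  nu := (unz 4 0x908908908908908908)
  b := 2
  B := 0x2000000000000
  cas :=
    [⟨[0, 1, 2, 3], [2, 3, 2, 0, 1, 0], (unp 4 0x22b101d82cd6647b25), (unz 3 0x11b973264)⟩, ⟨[4], [4], (unp 3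
    0xa5), (unz 2 0x16ad5a)⟩]

theorem A2A2A1_23104_good : A2A2A1_23104.Good := Fs.good_of
    [(List.map (unp 5) [0x900b6020055800b6060318126029, 0x900360260158003606011890046009,
    0x8818056020015809005624011802606011, 0x902360200b5802360609182a6089, 0x901b6026075801b6060718901c6069,
    0x88181d602007580901d62407181a606071]), (List.map (unp 4) [0x1039, 0x1049, 0x1059, 0x1009, 0x1019, 0x1029])]
    (by delta A2A2A1_23104; rewrite [Fast.unz_eq, Fast.unp_eq]; decide +kernel)

noncomputable def A2A2A1_23104_bas : List (List ℤ × ℤ) :=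
    (List.map (fun l => (l, 1)) (List.map (unz 2) [0x1249a, 0x124d1, 0x12689, 0x13449, 0x1a249, 0x51249]))

noncomputable def A2A2A1_23104_inv : List (ℤ × List (ℤ × ℕ)) :=
    (List.zip (unz 2 0xaaaaaa) (List.map (unv 2) [0x1a, 0x5a, 0xaa, 0xea, 0x13a, 0x17a]))

theorem A2A2A1_23104_gen : FX A2A2A1_23104
    (List.map (fun l => (l, 1)) (List.map (unz 2) [0x9aaaa, 0x2aadaa])) :=
  FX.ofC A2A2A1_23104_good
    (FC.delta A2A2A1_23104 [0, 1])
    _ (Fs.ofC_of (by delta A2A2A1_23104; rewrite [Fast.unz_eq, Fast.unp_eq]; decide +kernel))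

theorem A2A2A1_23104_fx : FX A2A2A1_23104 A2A2A1_23104_bas := FX.comb A2A2A1_23104_good A2A2A1_23104_gen (List.zipWith (fun a b => ⟨a, b, 1⟩)
    (List.map (fun n => List.map Prod.swap (unv 4 n)) [0x8c41c4, 0x4621c4, 0x8c41b4, 0x4621b4, 0x118821, 0x8c421])
    (List.map (unv 2) [0x1a, 0x1a, 0x1a, 0x1a, 0x5a, 0x5a]))
    _ (Fs.comb_of (by delta A2A2A1_23104 A2A2A1_23104_bas; rewrite [Fast.unz_eq, Fast.unv_eq, Fast.unp_eq]; decide +kernel))

theorem A2A2A1_23104_io : invOK A2A2A1_23104 A2A2A1_23104_bas A2A2A1_23104_inv = true := Fs.invOK_of (by delta A2A2A1_23104_bas A2A2A1_23104_inv; rewrite [Fast.unz_eq, Fast.unv_eq]; decide +kernel)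

noncomputable def A2A2A1_23104_L : Lat := ⟨A2A2A1_23104, A2A2A1_23104_bas, A2A2A1_23104_inv⟩

theorem A2A2A1_23104_ok : A2A2A1_23104_L.Ok := ⟨A2A2A1_23104_good, A2A2A1_23104_fx, A2A2A1_23104_io⟩

noncomputable def A5 : Nd where
  r := 5
  AL := [[2, -1, 0, 0, 0], [-1, 2, -1, 0, 0], [0, -1, 2, -1, 0], [0, 0, -1, 2, -1], [0, 0, 0, -1, 2]]
  sg := [0, 1, 2, 3, 4]
  tab :=
    0xfffffffffffffffffffffffe0100000020000000000000000000000000fe0100001800000000000000000000000000fe0100100000000000000000000000000000fe0108000000000000000000000000000000fe00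
  tbs :=
    0xfffffffffffffffffffffffe0100000020000000000000000000000000fe0100001800000000000000000000000000fe0100100000000000000000000000000000fe0108000000000000000000000000000000fe00
  n0 := 0x4141414141
  RL :=
    (List.map (unz 2) [0x249a, 0x24d1, 0x2689, 0x3449, 0xa249, 0x49aa, 0x4d51, 0x6a89, 0x15449, 0x9aaa, 0xd551,
    0x2aa89, 0x1aaaa, 0x55551, 0xaaaaa])
  K := 11
  rep := (unp 5 0x2024695809a46024918091c6048d809b6024d81260298161)
  cod :=
    (unp 6
    0x105050504ee7827c88827d3fe8682827b3424141413c9ff433f433f9a11fa1a09f4f05090504f6782847e867f3c14142413e9e0a0a0a11fcf05050505067)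
  nW := (unz 4 0x3c2283da44827cbe1169169e83f962)
  XC :=
    (List.map (unz 3) [0x41a96965656a54a95252, 0x3a8ebceb996732, 0x1a948463998e52, 0x75a94a5294a52, 0x11194cca6532,
    0xca444664332, 0x31eabce59d7332, 0x484664444652, 0x11194a666652, 0x1a94846638e652, 0xcc846423332])
  nu := (unz 4 0x1682ed05da0bb417682ed05da0bb417682ed05da0b)
  b := 16
  B := 0x400000000000000
  cas :=
    [⟨[0, 1, 2, 3, 4], [0, 1, 2, 3, 4, 0, 1, 2, 3, 0, 1, 2, 0, 1, 0], (unp 6
    0x14168686cc5a191a2b3233642d0c848d1d99091ab2123622d0c84048d259908091bb21012562026c05), (unz 3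
    0x6bce6548daf395edf5)⟩]

theorem A5_good : A5.Good := Fs.good_of
    [(List.map (unp 6)
    [0x13210432101a64208642032c840c8406188219080c3103210176204202cc10c8405d819080b3021015602028d0c8405999080ab2101462026c049,
    0x13243036648606ac8c0d1a181a330336064c10c8099819012b0202460046d0c809599012320236044c009,
    0x134054680a6c149a19022b3204464086c410c811d8819023310204562026d0c1119821b0426024c04051,
    0x10626204208640b4c40840c81658810a1902cb1021320586024c10c815981902ab0204460086d0c81559902a320436084c4084059,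
    0x10826860e8cc1cd9082183bb210307664046c04901d980903ab01034624048d01cd83930226064c048095,
    0x130936124c089a19042b1030756200e8c410c821d80983ab01074624606ad0c2119839b072646068c048c0d9,
    0x103262042064864118c40840c90c22d881099219045b1021324308a6648606cc0c90c822181921843b0208460106cc90c821d9921843320836104c4084c90c0e9,
    0x140a3686148cc10d990821854332054646088c048c29980902ab2132056624608ac289821305262042640b0c048c119,
    0x1042668614acd02919081a18543210340a764680aac0490299809052b01064624680acd028d85133405460c4c048d015d,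
    0x1405360a4cd01518821853310340a6620148c050c299809a0533010a4624206428640b8d0c2919a05230a264206428640b6c04840c850c8175,
    0x14073686108cd01d1a1904ab324308664680eac048c21980904ab213243088624680ecc1c98413092620426486114c048d01dd])]
    (by delta A5; rewrite [Fast.unz_eq, Fast.unp_eq]; decide +kernel)

noncomputable def A5_bas : List (List ℤ × ℤ) :=
    (List.map (fun l => (l, 1)) (List.map (unz 2) [0x9249249a, 0x924924d1, 0x92492689, 0x92493449, 0x9a249249,
    0x9249a249, 0xd1249249, 0x924d1249, 0x92689249, 0x93449249, 0x289249249]))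

noncomputable def A5_inv : List (ℤ × List (ℤ × ℕ)) :=
    (List.zip (unz 2 0xaaaaaaaaaaa) (List.map (unv 3) [0x32, 0x132, 0x252, 0x352, 0x572, 0x772, 0x892, 0x992,
    0x472, 0x672, 0xa92]))

theorem A5_gen : FX A5
    (List.map (fun l => (l, 1)) (List.map (unz 2) [0x49ab6ad5a, 0xa26d249aa, 0x3689a26da])) :=
  FX.ofC A5_good
    (FC.delta A5 [4, 7, 10])
    _ (Fs.ofC_of (by delta A5; rewrite [Fast.unz_eq, Fast.unp_eq]; decide +kernel))

theorem A5_fx : FX A5 A5_bas := FX.comb A5_good A5_gen (List.zipWith (fun a b => ⟨a, b, 1⟩)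
    (List.map (fun n => List.map Prod.swap (unv 4 n)) [0x3e5, 0x3d5, 0x325, 0xe3, 0xe3, 0xd3, 0xd3, 0x315, 0x1a4,
    0x194, 0x21])
    (List.map (unv 2) [0x1a, 0xd, 0x1a, 0xd, 0xaa, 0x1a, 0x55, 0xd, 0xd, 0x1a, 0x5a]))
    _ (Fs.comb_of (by delta A5 A5_bas; rewrite [Fast.unz_eq, Fast.unv_eq, Fast.unp_eq]; decide +kernel))

theorem A5_io : invOK A5 A5_bas A5_inv = true := Fs.invOK_of (by delta A5_bas A5_inv; rewrite [Fast.unz_eq, Fast.unv_eq]; decide +kernel)

noncomputable def A5_L : Lat := ⟨A5, A5_bas, A5_inv⟩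

theorem A5_ok : A5_L.Ok := ⟨A5_good, A5_fx, A5_io⟩

noncomputable def A5_43210 : Nd where
  r := 5
  AL := [[2, -1, 0, 0, 0], [-1, 2, -1, 0, 0], [0, -1, 2, -1, 0], [0, 0, -1, 2, -1], [0, 0, 0, -1, 2]]
  sg := [4, 3, 2, 1, 0]
  tab :=
    0xfffffffffffffffffffffffe0100000020000000000000000000000000fe0100001800000000000000000000000000fe0100100000000000000000000000000000fe0108000000000000000000000000000000fe00
  tbs :=
    0xfe000000000000000000000000000000fe010800000000000000000000000000fe010010000000000000000000000000fe01000018fffffffffffffffffffffffe0100000020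
  n0 := 0x4141414141
  RL :=
    (List.map (unz 2) [0x249a, 0x24d1, 0x2689, 0x3449, 0xa249, 0x49aa, 0x4d51, 0x6a89, 0x15449, 0x9aaa, 0xd551,
    0x2aa89, 0x1aaaa, 0x55551, 0xaaaaa])
  K := 11
  rep := (unp 6 0x1010210321043210f62042642ec048c958091b12132166044c489809321602c1)
  cod :=
    (unp 6
    0x3f3f3f3f3f9a21fa11e20cf0cfd0904f27828482827b3c43f3f3f449e0a11fa19fcf050904f90e7828284827d3c1423f42419e0a0a0a11fcf05050505067)
  nW := (unz 4 0x22a0f41e413e5b48f08f08b4f691e5)
  XC :=
    (List.map (unz 3) [0x1cf3cf38e394a52, 0x199948466652, 0xcca65a8e6532, 0x111119994a52, 0x1199194a4232,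
    0x1994a4465332, 0x1ce673d6a55d72, 0x4a4232232232, 0x6863d0ca66652, 0x6866432998f52, 0x20d1b5264ad2cecd4992])
  nu := (unz 4 0x1682ed05da0bb417682ed05da0bb417682ed05da0b)
  b := 16
  B := 0x400000000000000
  cas :=
    [⟨[0, 1, 2, 3, 4], [0, 1, 2, 3, 4, 0, 1, 2, 3, 0, 1, 2, 0, 1, 0], (unp 6
    0x14168686cc5a191a2b3233642d0c848d1d99091ab2123622d0c84048d259908091bb21012562026c05), (unz 3
    0x66579d4af3ed8d95f5)⟩]

theorem A5_43210_good : A5_43210.Good := Fs.good_of
    [(List.map (unp 6)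
    [0x10013620602ac0410c05d908180b30210430186044c48c840061898123021430176028602cc050c0998919080bb213015626028c049,
    0x10003602006acc0cd810801b32303460a4c040d0c12188192023b024035608068c040c850125881a023320336064c009,
    0x100536042808cc8411180a022b10436004c48c840161831320436084c101918919082bb024045608088c149,
    0x1143015602002acc04d81908043b1034076640e6c050c1d98819203bb121085626028c048401dd84130726024c050c059,
    0x10073602810ac408410c0659190803bb2302460428602ec0501d58811b01430166044c1025188119203c31210856080e8c1c9,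
    0x10023604200eccc81d180803ab1040756024c0502559904a30240756080e8c10c82598849b207360e4c089,
    0x14320956042012cc8409180804ab1023626048c0425181133023646048c2899904a320936124c424d,
    0x1004360242006ecc80d19190a023b2305464066c0490c15d919082b312132037608088c040155882022b03260a4c109,
    0x1143203660204606ec410115909a1901c310340466420808cc484d0c121890819201cb121035626406ac0484119819332034646068c484115,
    0x124321057602042060b2c4841011d91a032b232105664260aac048c1598202230340456460a8c401918829b1305460c4c48c155,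
    0x1321006664200cac8410199880323104065620680ccc018d820323034065604680ccc189a031b3406464680cac48d0199])]
    (by delta A5_43210; rewrite [Fast.unz_eq, Fast.unp_eq]; decide +kernel)

noncomputable def A5_43210_bas : List (List ℤ × ℤ) :=
    (List.map (fun l => (l, 1)) (List.map (unz 2) [0x9249249a, 0x924924d1, 0x92492689, 0x92493449, 0x9249a249,
    0x93449249, 0x924d1249, 0x9a249249, 0x92689249, 0xd1249249, 0x289249249]))

noncomputable def A5_43210_inv : List (ℤ × List (ℤ × ℕ)) :=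
    (List.zip (unz 2 0xaaaaaaaaaaa) (List.map (unv 3) [0x32, 0x132, 0x252, 0x352, 0x472, 0x672, 0x892, 0x572,
    0x772, 0x992, 0xa92]))

theorem A5_43210_gen : FX A5_43210
    (List.map (fun l => (l, 1)) (List.map (unz 2) [0x6daa26daa, 0x4926daaaa, 0xaa269349a])) :=
  FX.ofC A5_43210_good
    (FC.delta A5_43210 [1, 3, 7])
    _ (Fs.ofC_of (by delta A5_43210; rewrite [Fast.unz_eq, Fast.unp_eq]; decide +kernel))

theorem A5_43210_fx : FX A5_43210 A5_43210_bas := FX.comb A5_43210_good A5_43210_gen (List.zipWith (fun a b => ⟨a, b, 1⟩)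
    (List.map (fun n => List.map Prod.swap (unv 4 n)) [0x3e5, 0x325, 0x315, 0x3d5, 0xe3, 0xe3, 0xd3, 0xd3, 0x1a4,
    0x194, 0x21])
    (List.map (unv 2) [0x1a, 0x1a, 0xd, 0xd, 0x2d, 0x1a, 0x2d, 0xd, 0x1a, 0xd, 0xaa]))
    _ (Fs.comb_of (by delta A5_43210 A5_43210_bas; rewrite [Fast.unz_eq, Fast.unv_eq, Fast.unp_eq]; decide +kernel))

theorem A5_43210_io : invOK A5_43210 A5_43210_bas A5_43210_inv = true := Fs.invOK_of (by delta A5_43210_bas A5_43210_inv; rewrite [Fast.unz_eq, Fast.unv_eq]; decide +kernel)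

noncomputable def A5_43210_L : Lat := ⟨A5_43210, A5_43210_bas, A5_43210_inv⟩

theorem A5_43210_ok : A5_43210_L.Ok := ⟨A5_43210_good, A5_43210_fx, A5_43210_io⟩


end Cfsg.Agent.LV.W
end

-- part: LV/W/N6
section
set_option linter.all false

/-! LV/W: generated data (helper25) -/

set_option autoImplicit false
set_option maxRecDepth 100000

namespace Cfsg.Agent.LV.W

noncomputable def E6 : Nd where
  r := 6
  AL :=
    [[2, 0, -1, 0, 0, 0], [0, 2, 0, -1, 0, 0], [-1, 0, 2, -1, 0, 0], [0, -1, -1, 2, -1, 0], [0, 0, 0, -1, 2, -1],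
    [0, 0, 0, 0, -1, 2]]
  sg := [0, 1, 2, 3, 4, 5]
  tab :=
    0xfffffffffffffffffffffe0100000000280000000000000000000000fe0100000020000000000000000000000000fe0101001800000000000000000000000000fe00011000000000000000000000000000fffe00080000000000000000000000000000fffe00
  tbs :=
    0xfffffffffffffffffffffe0100000000280000000000000000000000fe0100000020000000000000000000000000fe0101001800000000000000000000000000fe00011000000000000000000000000000fffe00080000000000000000000000000000fffe00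
  n0 := 0x414141414141
  RL :=
    (List.map (unz 2) [0x1249a, 0x124d1, 0x12689, 0x13449, 0x1a249, 0x51249, 0x24d1a, 0x268d1, 0x26a89, 0x35449,
    0xaa249, 0x4d51a, 0x4d551, 0x6a8d1, 0x6aa89, 0x155449, 0x9aaaa, 0xd551a, 0xd5551, 0x2aa8d1, 0x2aaa89, 0x1aaaaa,
    0x55551a, 0x1a9d51, 0x555551, 0x353aaa, 0xaaaaaa, 0xaa9d51, 0x6a73aa, 0x1553aaa, 0x1539d51, 0x2aa73aa,
    0x2a73aaa, 0x54e73aa, 0x54f73aa, 0xa9ee73a])
  K := 25
  rep :=
    (unp 7
    0x90190218901a2a189019218ae18918901a1891aa398118921aa189318118a18aa18118a2998902295898921891aa193589902958118a189d8118a15811a295891891a1891a31902291809a918992918918a199918a11811a1180a0d89a8d8118d8a09810980581)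
  cod :=
    (unp 6
    0x827c767c94837c5453d3f3b45bfd453d454437ba19fa1a0a11cdf050905050ceaf827c8c7c7e837c33f3f433b47bff4541413c41ba21fa1a0a09d5f0909050508eef8282828288777c73f3f3f3f47be09f229f20a0dffa1a0a19f1fddfa220a09ea15d0d050cecfd1af84848278848b7c2414141433cbe11fa1a11f9fdffa1a0a11f20dd0509050508f6f847e86827e837c1414241413ebe0a0a0a1209fdf050505050506f)
  nW :=
    (unz 4 0x14116819682ed00e8703ad0321c5d101d0e076541d0e075a7f02a1c1b950d871768194407438bb40cca8c872bc1321e2)
  XC :=
    (List.map (unz 4) [0xb48a28a28a08808808f0fe1fc3f8de360d8350d4350de5f2f97cb45c4c48a2,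
    0x18ac943f581a6a1a2cd68bce126a1a2ca4a5252079c2462, 0x421e709094ed29e3c610d243a40e30e3cb1e38a2,
    0x1694e98421848484870c2184e7098e38e30e1c38a2, 0x3144210c30e4108439061c518c41ca1c62,
    0x8421879443146287944316514388631462, 0x1c74c210e41870f2e7099061c71c54c210c62,
    0x628831884210863108421084218a28a2, 0x8430c21886318c3871651651ca218a28a2,
    0x43a74c2108610396410861031c71c70e1c38a2, 0x87188421084210842108628c51c8218a2,
    0x84210862ca28c4218a1c4188630e318a2, 0x8430f2ca9869e3c78f1c61c718718610218a2,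
    0x2d24b25fa843cf0bce6b3582c16121213923c91b4cb28a2, 0x4210843106318a314418c43104210c62,
    0x18c410842108421084218a28c4210c62, 0x421084310c51442188310c4310631462, 0x31443188210843144210842108628c62,
    0x1a78c210c30e509cc21c830e9c71c41879462, 0x842187944314628c510c51651861879462,
    0x442108421883144108620c4310c6318a2, 0x210c628821084210c6310842188218a2,
    0x298430c21874e1c630e1e51651438a1d38a28a2, 0x8430c21886318c631651450e2861cb28a2,
    0x1250866be9e9894f131e3c4c487a90e9e253c48a9d38a2])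
  nu :=
    (unz 5
    0x32a011ca80472a011ca80472a011ca80472a011ca80472a011ca80472a011ca80472a011ca80472a011ca80472a011ca80472a011ca80472a011ca80472a011ca80472a011)
  b := 90
  B := 0x200000000000000000
  cas :=
    [⟨[0, 1, 2, 3, 4, 5], [0, 2, 3, 4, 5, 1, 3, 4, 2, 3, 0, 2, 1, 3, 4, 5, 1, 3, 4, 2, 3, 0, 2, 1, 3, 4, 2, 3, 0,
    2, 1, 3, 0, 2, 1, 0], (unp 7
    0xa85885aa28da05aa189a29daa1a295a189a159898da1a0d985a29a1189921aa35a9a1189921aad9a1189921a5aa1189922a5aa191a29da1189921da191a1591899159918d90589a291a0990118a192a18d59a291a0990118a192a1cda291a0990118a192a45a29a0990118a1aa3da91a0990118a192bd91a0990118a1935a9a0990118a1ab59a0990118a1adaa0990118a2ada0990118a2589901189daa19011a2a5a19011a1d99011959010d805),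
    (unz 3 0x3dc418d95b8392f716e648f0c9af6f717146fd868fe47)⟩]

theorem E6_good : E6.Good := Fs.good_of
    [(List.map (unp 7)
    [0xa1902a1900a998901900a19902a1900a599021900a18902a1900a5902a1900a189021900a189019009d90219009d901900998218aa1900a9818aa1900a5818a1900a180aa1900a182a19009d80a19009d82190099809900998190095810091899218aa1900b199218aa1900ad9218aa1900a9a18aa1900a5918aa1900a5918a1900a198aa1900a198a19009d8aa19009d8a1900998990095aa190099a1900959900919008d8089,
    0x901891a281a998a1902a1891a281c19021891a281ad902a1891a281b1899021891a281b599021891a281b189902a1891a281b98a1902a1891a281bd9902a1891a281b5a1902a1891a281b98218aa18125818aa18121818a1811d80aa1811d82a1811980a18119821811580981158181118010d899021891a81b199021891a81ad9021891a81a9a18aa18121901891a81a590189181a198aa1811d98a181198aa181198a18115898111aa18115a181119810d81098009,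
    0x918901902a5989019218901921aa18901902e59218901902a992a18901902ad8aa18219aa182158a18215898211a182119820d91890192189019218aa182599189019218901921aa18255918901922a18901921aa02598902a18221902a1821d89021821d902182198901821990182159008d899021891a02b199021891a02ad81890192189019218aa025591890192189019218aa02558189019218901921aa025181890192a18901921aa02559189019218901921aa025191890192a18901921aa02558aa02158a02118820daa0211a020d82098089810091,
    0x98a18aa02a599021900a198a1aa02a198901900a1aa02918aa0295a2a18901921aa023daa18901921aa02398a2a18901921aa02418aa18901921aa023d98a192a02a598a1892a02a9818a19032192a0295892a0299922a18901921aa02418922a18901921aa024592a18901921aa023d892a18901921aa02418103119891a1890192a02bd89891a1890192a02c19018a192a02ad818a192a02a99018a1892a02b1918a190321818a1892a02ad98a19031d812a02998122a18901921aa0245812a18901921aa02418092a029d80922a18901921aa02498092a18901921aa02459030d8309,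
    0x8098900521818a18901921883bdaa0391a038d89902a04219902a039d89902041d81a18901921883b9990203999810d8918901a189019218aa03d589890192a042d8989019204298091890284a9811a8399809189004a5811839580901a18901921883c58121902a1891a281c1918111899021891a053180901902189019218a83d18098902189019218a83cd8918901a189019218a83d18091890284298091890042589902849d8990049989902841d899004198098a18901921883c1a838d83898109a1902a1891a281b98118115,
    0x9018901812589a281998918a1902a1891a283c98918a1902a18901a283cd8918a18902a18901a283d1918921902a1891a283c98918a18902a1890192283d5a28191918921902a18901a283cd9a28195821891a2a1891a05c18901891a2a03b18901891a283ad9018901a2a03b189018901922a03b99018901a283ad8901890192283b5850998905159050da1891a2a18901a054198a1891a2a1890192054da1891a2a18901920545a1891a2a1891a05bd901891a0625901891862180901891a2a03b580901891a283b181018901a2a03b581018901a283b18050d809018901922a03bd80901890192283b9818905198105118589,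
    0x98a18aa05a5902a1891a281b198a1aa05a198a1902a1891a281c1aa05918aa05958aa189019218aa190054d8a2a189019218aa1900551aa189019218aa1900549a2a189019218aa190054d98a1902a052998a18902a052d98a1aa18901905b9902a05198902a051d80902041d81020419809004198100415aa18901905a998a1aa189019218aa05cd98a1aa18901921aa05c9aa189019218aa05bd818a1902a052daa18901921aa05b9900691818a18902a053198a192a18901905bd8102a051d89020419890041580902a0521902041590041192a18901905ad8189,
    0xa870d8878daa0711a020d809890218901922a07c9a1902a0721a1890079d8988815a192a18901902b59a02118918901a18901921aa07d18918901a18901921aa1885590192187a1898902189019228841811a0719899219082181192a18901902b981188819992192a18901902bd91a0215899021891a08b1809018901921891a287cd809018901a1891a28849809890218901922a1884d8090190218901a287c5811a0799809190218901a28841901921882180989021890192287c5880987898709820992a18901902ad90192192a18901902c5811a0219,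
    0x81018a18902a18901a287d58091a021d81018a18902a1891a287d181218821d809189218901aa1891a287d981018a18902a189019218a886180a19031d809892188229901891a18229892a18901921aa024181018901a18901922a1890192287f181018901a1902a1890192287e19019031981018a18902a18901921a885d81018a18902a1890192287d99892a18901921aa024581188219811a02198103118aa18901921aa023d91891a192a1890192287d191922a1890192287c1892a18901921a883d8a18aa1891a287b9892a1890192287b9811879591922a18901921a88458101891a189007b9892a1891a287b18091a189007ad81188819892a18901a287b581188158107918078d8789,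
    0x809018921902a1891a288559892a18901921aa024581018a18901aa1891a2885589892a18901921aa024980918921890192a1891a2885d811890218902a1891a2885589018901a18231809921882258192189022581891a0221809018921902a18901922885d81018901a1890192a18901a2886991aa18901921aa0241809018921902a18901a2885981018a18901aa18901a28859811882198091a021d811a1821d80921882219aa18901921aa023d91aa189019228839918a1891aa18901a2884d8921aa18901a2883d89921891aa18901a2884d91aa18901a28835809081589892a1891a2883998a19081d8921aa1891a2883989190218882989921881d91aa1891a2883199219081d91891881d8088118880d,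
    0x8090188221899029580918a1902a1891a287cd80918a1902a18901a287d180918a18902a18901a287d58118921902a1891a2884d80918a18902a1890192287d9812283198118921902a18901a28851990291a2891180918901a18902a18901a287e180918901a18902a1890192287e581189218902a18901a2885581018921902a1891a287d181189218902a18901922885981018921902a18901a287d5828980992283219028d89921891a2a18901a08cd9891a1891a2a18901a08d1918a1891a2a18901a08cda1891a2a18901a08c1809018901922a073d8090189019228739809018a87258090188721810189028729810189007258889810189022a0731810189022872d809189008a5901888998088d,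
    0x9a18901921aa18901902d189a283198901891a1890192a18901921aa08f18901891a1890192a189019218aa08f58901891a18901922a189019218aa08f99018901a1890192a18901921aa08f189018901921890192a189019218aa08fda283119018901a1890192a189019218aa08f59a28315a18aa189a18901891a2a07b18901891a287ad9018901a2a07b189018901922a07b99018901a287ad8901890192287b5888998900899900891a1892a189009319a18902a19009358a18902a19009358218aa189a5901891a09a590189189a180901891a2a07b580901891a287b181018901a2a07b581018901a287b18088d809018901922a07bd80901890192287b981890089d81888958289,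
    0xa18901902a58989aa18901902a998901902a180902a07218102a071d80902287218090071981022871d810071591902192a188735919021902a189073d91902192a1890073d80aa071982a071580a2871982287158087118070d9019218aa18902b98099021902a189b9819021902a189b58101902192a18873d81902192a18873581019021902a18907458101902192a18900745819021902a189073d81902192a1890073d892a07198922871989071192a071592287159070d99218aa18902b1819218aa18902b5,
    0xa1889159902190321988911989019032189098890d9019031990219031d89019031d8902190321a1909159909118103119090d8909118190315809903198219031980a19031d818a1903218091890219009358118902190093181018a190092d8118a190092981018a18900931918aa189019218aa19009558118a1890092d98aa189019218aa1900951811892189009318aa189019218aa190094d8a2a189019218aa1900951809189218900935aa189019218aa1900949a2a189019218aa190094d9a2a189019218aa190095191a2a189019218aa1900955,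
    0xa838d88a0d80aa18900529a28391aa18900a2182a18619a1aa18900aa98988a958218aa189005319a283959902192a18a2d9921902a1890ab5901921aa0aa992a189018aa981018a18900531aa1900b1d8101861981188a99990218aa1890053991a2839980919021a8bad901921aa0a298101890218901a8ac19902192a18aad8091a18900aad811a28a1d8b098090189018aad8aa0a958a898a09838980989005218060d90190218aa18900541811a2839d,
    0xa8a0d8838daa0a11809890192189003bd8a1902a0a25aa18a958a192a18901905b9810192189003b19a188399900411898a1890192a0a3980a18aa189019218aa0ad189a1891aa18901905c58a1902a18aa98118a2a0aa589a192a189019218aa190055d8118a039d89192189003ad8122a189019218aa19005558040d81018901921891a0a458101891a188a3181018901a192a18900acd80a18aa189019218a8acd8118a0a1d81192a18901905b98101922a18900ab9901922a189019218aa190055daa0a91990041583898a098098a18901921883c192a18901905ada2a189019218aa190054d8409,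
    0xa8a8d899004198a28a959900415898a19028aa998a189028aa9810190218903b18988395a18839580901902189003b9898a18901aa188abd98921902a188ab59891a1892a189019218aa19005698a2a190b21aa190b198919218903a9811890203a58091a189003ad91921883a180849181018a1891a2a1900ac98101891a18918ab98118a188aa5a188b1580918a18aa5811aa189019218aa19005558988b1589004958a0a918389809890192189003bd8a89818a18901921883bd8a03919aa189019218aa190054d8848d,
    0xa18901921883b189900519809022a0a258090228a21809028a1d81028a9980900a1998901905a18100a95990051581218a8ba18098a8a1d80988a19809a8a999019022a188ab18098a9590190218a8aad85899019059990051189a18a8ba1898901a18a8bb181018a192a18bb582192a18ba5891891a8a258918918a21891921900aa9898918a9d810189028aa981018900aa5850981019022a0a2d810190228a2989905958105918050d,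
    0x80992189019218aa05c981019021891aa05bd8098901921891aa05c5891891aa05298689809019021891aa05c1810189218aa05b58101921891aa05b9891892a05258921892a052980918921aa05b18091a1891aa05b5aa051181891a1891aa05b989a286999aa05159019218901921aa05c5a1aa05199018901a1891aa05c1901891a1891aa05bd81188b99809922a18900bb58098922a18900bb989a1aa0ba1809a1892a18900bbd901891a1900bb189a2a0b9d99218b99898a2a0ba19218b95918b91899021892a18900bc18101921900bad810190218ba981019218ba59188b95,
    0xa18901905a58609aa18901905a998901905a180902a0a218102a0a1d8090228a2180900a19810228a1d8100a15921aa0b9d91aa18b9d91a0b9580aa0a1982a0a1580a28a198228a15808a1180a0d98a1aa05a188c0d8c0998918b99821aa0b9d8101aa18ba58101a0b9d81aa18b9d81a0b959219028a2191900a19890a1192a0a159228a1590a0d8118a1aa05a9918a1aa05a5,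
    0xa878d8870d80902a08a1a2879180aa1899d9a2a18872180a1aa1888a9898a2879d809018901a287b5818a18902a1890192287d18a1aa189189ad898a2a18901a08b9810189021aa1888bd8101890218901922a18901a08e5892a18901a287b5891a192a189007398118a287218118a287a198901921890192a189019218aa08f19018a18902a1890192287d58101890218901aa189c981018901a189b18921892a18901921aa08d1810189019218901aa08cd8101a1888a581018999810192189028735809921890192a189019218aa08e98189021890192287c180a18902a1890192287cd87098789809008998098d9018901921890192a189019218aa08f981018a18902a1890192287d9,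
    0xa880d8218902a1890192287c981890218901a287bd80a18902a1890192287cd809aa189008ada1aa18872189a18a8821898871580901890192287b99a28795898a1892a18901a08c58101891a18901a2a18901a08e19892192a18900739891922a1890731921aa1891a288358118a18a8829811890228729891891a287a980918902287ad9018921902a18901a2885181018a18901aa188c19891a1892a189019218aa08dd8101a188a18101902189287358091a1890072d98901a1890192a189019218aa08ed80901a18901a2883d818921902a18901a2884d8098902a1890192287c98709a28791880981888958a287159018901a1890192a189019218aa08f581018921902a18901a28855,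
    0x8091902a18901a2884580901921890287398190218901a2a18841902192a188298119021902a189074181019218902873581902a18901921a8845809190218901a288418101891a2a188358098a18902a18901921a885989218901aa189073d8118a192a1908359189218901922a18845891a18aa18901883d992a1891a28831891a1890725992192a18872d809192a18901a28841809018a2a1883191a288198118921aa18907398101892a07298118901a18902a188849809a18902a18901921a88558901891a1890192a18901a288658091902a18900739870990192a188259a2881580901a18901a2883d9a2a188721898881581921902a1891a288458902a071d898a2a1882580901891a1890192a18901a28869,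
    0x80918aa18901921aa08cd99021aa08a58989019218aa1900945a1891899d80a192a189019218aa08d189018901a1891aa08c590192a189007319021899998a18901aa08b198902192a189019218aa08d980918901921aa08bd8a2a189019218aa190095189891a18901922a189019218aa08f18902192a189019218aa08d58098901a1891aa08c18192a1890072d918a18901aa08b58218995918902192a189019218aa08dd809891a192a18873d9891899989900919810218901aa1891a09c98218901aa18901a09c5898902189a589902a08a18918902189a9891902a08a58121892a1890093980918a18901921aa08c99909118121902a18901a09c199021900925899021aa08a981018a18901aa08bd8118a18901aa08b9,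
    0x812189019218aa189c58099021902a189b98918901921890192189cd81189019218aa189c18101921890192a189c580901a189189b1810189021aa189189c589890218901aa189c180901892a189b1809021aa189189b98118901a189ad81218901aa189b5811aa18901a09b581921890192a189bd809a189189a98189021aa189189bd809892a189a98901890218901aa189c980a1aa189189b1898a1902a1891a09c1819021902a189b5898998901a189a59018901a189ada18901aa189ad9aa18901a09ad90218901aa189b5901aa18901a09b591921890192a189bd9189021aa189189bd91a192a1890192189c5891a189189a9891892a189a98921aa189189b189891a1891aa1891a09cd809891a1891aa1891a09d1])]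
    (by delta E6; rewrite [Fast.unz_eq, Fast.unp_eq]; decide +kernel)

noncomputable def E6_bas : List (List ℤ × ℤ) :=
    (List.map (fun l => (l, 1)) (List.map (unz 2) [0x249249249249249249a, 0x24924924924924924d1,
    0x2492492492492492689, 0x2492492492492493449, 0xa49249249249249a249, 0x24d2492492689249249,
    0x49249a4924d1249a249, 0x93449a249249249a249, 0x24d249249269249a249, 0x24924924924926d1249,
    0x4924924d124924d1249, 0x2492492692492689249, 0x249249249249b449249, 0x492492689249a249249,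
    0x2492493492493449249, 0x24924924924d1249249, 0x2492492493449249249, 0x249249249a249249249,
    0x249249a249249249249, 0x24924924d1249249249, 0x2492689249249249249, 0x2493449249249249249,
    0x249a249249249249249, 0x2689249249249249249, 0x3449249249249249249]))

noncomputable def E6_inv : List (ℤ × List (ℤ × ℕ)) :=
    (List.zip (unz 3 0x3394b24a528e51c7294b24a38e38f394a52) (List.map (unv 3) [0x32, 0x132, 0x252, 0x352,
    0x224bb9672, 0xb92a92992, 0x5c95494c9, 0xe92d92c92, 0x7496c9649, 0xf92, 0x226bb9672af3, 0x10b2, 0x11b2, 0x13b2,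
    0x2e4d494c9, 0x749d92c92, 0x12b2, 0xee59cd72, 0x14b2, 0x15b2, 0x16b2, 0x226bb9672aeb, 0x17b2, 0x18b2,
    0x224bb96728eb]))

noncomputable def E6_cf : List (List (ℤ × ℕ) × ℤ) :=
    (List.zip (List.map (unv 4)
    [0xc2d045d6d032cb682eab68075161c0e9ada064961c5c56880e82c381de99507724381da969f13c0ab48706d265436521c5c25a0673a203b1c38ba768190f2a332872a2f04c643862,
    0xc2d045d6d032cb682eab68075161c0e9ad9fe4961bdc5687fe82c37fde994ff72437fda969f13c0ab48706d265436521c5c25a0673a203b1c37ba767f90f29f32872a2f04c63b862,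
    0xc2cf7baf7f565f08a2d9fb9af7f525b3cc575fdc16d05ea756d2cfa94b44c278279ec0ba7e09870e2f2b488bc22383062,
    0xc2cf7baf7f565f08a2d9fb9af81525b44c57605c16cfdea756d2cfa94b44c278279ec0ba7df9870def2b488bc2237b062,
    0xc2fa5564231306b4d8f49439cb668ad031, 0x61612eb7f165bad1642353cb692112921e12fe328da2c1831,
    0x617d2eb7f165c1a8b1f9d4a5b13022d360aa4d7cca48784bf8cb5bc581c31,
    0x617f6bae04596fe353ab8981149af994d8884c08cb63c57f01a4, 0xc2c0d65bef55c04d16fe3531d247c4a5d7291831,
    0x6161dd612cb0e8b859ae164b4e0b85e4baea47139da5a5246d298909098ed29dd61c972a7143,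
    0x18581aeb01ecb035170226b811258efe91f9e4c08d4aae2407b4bf8a48f894c2c27f7c7dde1c87cb12280f1c2862,
    0x185fdaeb809b2e045163fdcd6ff325fc4c1640af4d7eb5333da4826936132921e12fe31ec453c0887af1948d15f78dd431,
    0x6161dd612cb0e8b859add64b8e0b75e4c2ea47139da5a5246d298909098f129e161c572a7143,
    0x92e160b811e9209e4bfcea53c4808b4bef49211291de12fe31e169dfc4390f978d140d1ba862,
    0xc2c0d75902acb209a2c7f535bf892d9e60b1fefd360ae4902b5366c4bf8a4d7cca5a271c87a780987af196b78e1431,
    0x6160b75908b2c7c5563fa9ac8449763c175f3c9af9d492e25ed69b11092118f63d390887449cb63c5e1e323062,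
    0x6160b75908b2c7c5563fa9ac7c4975bc17613c9b09d492e25ed69b11092118f5bd38f887439cb63c5e1e31b062,
    0xc2d0d75eef65f0f35f0f15d7cf25a2753cb89e1e13c239ebe71da453ef88e2062,
    0xc2c16eb7b597069ae0d258da0b211c91f1a94f12f6b490f097b6391a9e0d0f5be52345758e2062,
    0xc2d0d75eef65f0f35eef15d84f259e753cb89e1e13c239ebe71d9c53f088da062,
    0xc2c16eb7b597069aded2591a0b1f1c9211a94f12f6b490f097b638da9ded0f63e52345758da062,
    0x30b35aada44d6cbc568a313abce8629d978bcb192862, 0x30b35aada44d6d3c5686313abce8629da78bcb18a862,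
    0x92d0d15fefe9411a949493de5276e70118e76873b65358c2062, 0x92ced15808f49f8d4a4a49ef293b73808c74343a1b29ac79862])
    (unz 5
    0xa00ba00bca8bca8bd80b87037602e1c0da2036880dd80364019204ec01b200c9026402f6019b00cd80ba20b8700f8700fca80472a011))

theorem E6_gen : FX E6
    (List.map (fun l => (l, 1)) (List.map (unz 2) [0x6a8da4926d249249aaaa, 0x24daa24924db492689aa,
    0x1469268d249a6aa936d1a, 0x124d536a9aa6aa9ab549a, 0x49a249b4d3549aaa369a, 0x49b556daa268d1a356a89])) :=
  FX.ofC E6_good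
    (FC.append (FC.delta E6 [7, 21])
    (FC.append (FC.ind E6_good A1_good (FC.pick A1_fc [0] (by decide +kernel)) ⟨[0], 0xfffe00, 0x1134, (unp 7
    0x8a2a189019218aa1900551aa18901921aa0239)⟩ (by decide +kernel))
    (FC.append (FC.ind E6_good A1_good (FC.pick A1_fc [0] (by decide +kernel)) ⟨[0], 0xfffe00, 0x1135, (unp 4
    0x2173059)⟩ (by decide +kernel))
    (FC.append (FC.ind E6_good A1_good (FC.pick A1_fc [0] (by decide +kernel)) ⟨[0], 0xfffe00,
    0x112031203431203245, (unp 7 0x899020b9d891891a192a18900745)⟩ (by decide +kernel))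
    (FC.ind E6_good A1A1_good (FC.pick A1A1_fc [1] (by decide +kernel)) ⟨[0, 1],
    0xfffe00080000000000000000000000000000fffe00, 0x145, (unp 6
    0x98a1aa05c331435405864064862a86240bccc810c950c0ad)⟩ (by decide +kernel))))))
    _ (Fs.ofC_of (by delta E6 A1_cf A1A1_cf; rewrite [Fast.unz_eq, Fast.unv_eq, Fast.unp_eq]; decide +kernel))

theorem E6_fx : FX E6 E6_bas := FX.comb E6_good E6_gen (List.zipWith (fun a b => ⟨a, b, 1⟩)
    (List.map (fun n => List.map Prod.swap (unv 4 n)) [0xc87, 0xc77, 0x706, 0x6f6, 0x21, 0x21, 0x21, 0x21, 0x21,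
    0x385, 0x385, 0x385, 0x375, 0x375, 0x375, 0x646, 0x636, 0x1c4, 0x1c4, 0x1b4, 0x1b4, 0x325, 0x315, 0x184, 0xf3])
    (List.map (unv 2) [0x1a, 0x1a, 0x1a, 0x1a, 0x55, 0x9d, 0xea, 0xbd, 0x5a, 0x75, 0x17a, 0x17b3a, 0x55, 0x75,
    0x13a, 0x2d, 0x2d, 0xd, 0x55, 0xd, 0xaa, 0xd, 0xd, 0x1a, 0x1a]))
    _ (Fs.comb_of (by delta E6 E6_bas; rewrite [Fast.unz_eq, Fast.unv_eq, Fast.unp_eq]; decide +kernel))

theorem E6_io : invOK E6 E6_bas E6_inv = true := Fs.invOK_of (by delta E6_bas E6_inv; rewrite [Fast.unz_eq, Fast.unv_eq]; decide +kernel)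

noncomputable def E6_L : Lat := ⟨E6, E6_bas, E6_inv⟩

theorem E6_ok : E6_L.Ok := ⟨E6_good, E6_fx, E6_io⟩

noncomputable def E6_514320 : Nd where
  r := 6
  AL :=
    [[2, 0, -1, 0, 0, 0], [0, 2, 0, -1, 0, 0], [-1, 0, 2, -1, 0, 0], [0, -1, -1, 2, -1, 0], [0, 0, 0, -1, 2, -1],
    [0, 0, 0, 0, -1, 2]]
  sg := [5, 1, 4, 3, 2, 0]
  tab :=
    0xfffffffffffffffffffffe0100000000280000000000000000000000fe0100000020000000000000000000000000fe0101001800000000000000000000000000fe00011000000000000000000000000000fffe00080000000000000000000000000000fffe00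
  tbs :=
    0xfffe0000000000000000000000000000fe000110000000000000000000000000fe010100180000000000000000000000fe010000002000000000000000000000000000fffe0008fffffffffffffffffffffe010000000028
  n0 := 0x414141414141
  RL :=
    (List.map (unz 2) [0x1249a, 0x124d1, 0x12689, 0x13449, 0x1a249, 0x51249, 0x24d1a, 0x268d1, 0x26a89, 0x35449,
    0xaa249, 0x4d51a, 0x4d551, 0x6a8d1, 0x6aa89, 0x155449, 0x9aaaa, 0xd551a, 0xd5551, 0x2aa8d1, 0x2aaa89, 0x1aaaaa,
    0x55551a, 0x1a9d51, 0x555551, 0x353aaa, 0xaaaaaa, 0xaa9d51, 0x6a73aa, 0x1553aaa, 0x1539d51, 0x2aa73aa,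
    0x2a73aaa, 0x54e73aa, 0x54f73aa, 0xa9ee73a])
  K := 25
  rep :=
    (unp 8
    0x101203120324312032431543120324315432091818a192a18901921aa24c080d0c480c950c810606240686246a862483203143205431203981018921890198c4c90c950860462863302311181019021902a1901ecd0c48d07662a1b1230d90192190ec51436046862b0230d9884c8c90c866281323098104cc1600b01)
  cod :=
    (unp 6
    0xfcfcfcfcfcfeeed04e92d04f2e8a728a7e88737c2463546473cbff4343354149ba39fa11ea19e5f08fd1104e512f8682848282757c1434141413cbff3f3f3f4a3fba39e1fa121225ffa21f21a0a0dd05090cf8f90ef887e84788a837c13e44413f41be19fa120a19e5f0509050508f6f82867c8682837c43f3f3f4544be11fa1a09fa0df050904f9090ef82828482827d7c1423f424241be0a0a0a1209fdf050505050506f)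
  nW :=
    (unz 4 0x11438bf04da0bf02a822880e8703ad00e90f95190e076541d68190e075a065101d68190e5654361c1b68190e2e1c5da7)
  XC :=
    (List.map (unz 4) [0x10c0d85a2d164b2582c179393131212121212121c38a28a2, 0x10843ce129e30869e30872c830e1e50e318a2,
    0x10843943c74f9c24620872861ca18431c74e2, 0x43906288218c6288218a2ca28a1c38b2ca2,
    0x421ca2882108421c831461c628a28a28a2, 0x21084218c4218a28790421084218a28a2,
    0x843099654e98438f1e58909cf9f384cb28a28a2, 0x4390628821870f2c8218a2ca28a318a28a2,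
    0x45104210c518a2108421084218c510862, 0x659043144218c5144218c418c59438e50e2, 0x4210c510863146208628862884310862,
    0x65904314421879650c218c418c514631462, 0x1084210c620862884210842108631462, 0x4210c6208421084218a20c63146318a2,
    0x21084218a210c510872c830e1c3ca318a2, 0x20681821a2cd62b25e709294810cd68a19ad16139c652922,
    0x118a208421084210c4310c43108620862, 0x108628c421086318a2086208628a20862, 0x22884210c51462108421084218c620862,
    0x105f4a2d3a74c21c4c4a74e3158769a9690f1e38ad2d22, 0x43cb20d3a610e3c78f1f30c71c3c7108620862,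
    0x10e54e28821870e28b1e3cb28b2ca318b2ca2, 0xe70909694e9842108430c3498e1e3a4a74e2a74e2,
    0x1086121c3a74c218c72c821840872ca2a74e2, 0x7f78089f8f0fdb76d4514518360de5f2cd6ce286eef43777a1ad2d22eaf562])
  nu :=
    (unz 5
    0x32a011ca80472a011ca80472a011ca80472a011ca80472a011ca80472a011ca80472a011ca80472a011ca80472a011ca80472a011ca80472a011ca80472a011ca80472a011)
  b := 90
  B := 0x200000000000000000
  cas :=
    [⟨[0, 1, 2, 3, 4, 5], [0, 2, 3, 4, 5, 1, 3, 4, 2, 3, 0, 2, 1, 3, 4, 5, 1, 3, 4, 2, 3, 0, 2, 1, 3, 4, 2, 3, 0,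
    2, 1, 3, 0, 2, 1, 0], (unp 7
    0xa85885aa28da05aa189a29daa1a295a189a159898da1a0d985a29a1189921aa35a9a1189921aad9a1189921a5aa1189922a5aa191a29da1189921da191a1591899159918d90589a291a0990118a192a18d59a291a0990118a192a1cda291a0990118a192a45a29a0990118a1aa3da91a0990118a192bd91a0990118a1935a9a0990118a1ab59a0990118a1adaa0990118a2ada0990118a2589901189daa19011a2a5a19011a1d99011959010d805),
    (unz 3 0x11b2a237b8bdc4b992f714463d707249afd868ff16f647)⟩]

theorem E6_514320_good : E6_514320.Good := Fs.good_of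
    [(List.map (unp 7)
    [0x8008d98811190200958102a009d89902009d99020099809902a00a58810d81902a00a18109918a18901a00b19891a19000a998920119891a19000a591a19000a1892011592011180992a00a18192a009d812a0099899021892a013199021892a012d9021892a01298118aa18901a00b98118aa1891a00b5918a1891a00ad81892a01219891a1900a58092a011d891a1900a189920099812a011991a19009d99200959200918089,
    0x8000d81022829d8100195a018d80990019d8190019989a019581902282a19a0191809902282a59021891aa189181bd8189022a0229989021a8225809022a022581022a022189021a82219021a821d809a819981a819582819189902192a182b19902192a182ad902192a182a981021891aa1891a01c581021891aa18901a01c99021891aa1890181c1818902192822d989022822180902192822989022821d89819181021928225902282199818d81898009,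
    0x89902282a18838d81928219990211809a8299812821589829183899020d800991a18901a82ad899021892822d89892039d89890218928231918a18901a282b589920399830989902959820d82098990218a832991921890192a03b991a1890192a03b5811a2a1890182b5811a2a18901902b991a189019282b1809892a03a589890218a822d80992a03a18990218a822980992829d828311918a1890192282b981a8215828211809902282a5,
    0x92a00958205118100095a008d80a19004a182190049d89022841d898411902284199840d919021902a189018445990218902a1884b9919021902a189004418092a041d812a041989021a84219021a841d89190499919049592009189902192a185319902192a1852d8101902192a18904418101902192a18904c18101902192a1891844581019021892a18904c5819021902a1884398190218902a18843d80919004218848d8840d81190041d848984098089812a0099,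
    0x8040d86098128495901902a00a5898921890042d9a190041d898a061989886159a01118192a009d8918902189284358992189004a989192061d891890218842d8128415891906199010d8860d812a00998109898921890285b1810192192a18900641810192192a190063d811921902a190063d811a2a18900631891890218a8431811921902a18900641898921890429811a2a190062d899218904a5891892188429828591901a1a842191904958284118409,
    0x8285118102a009d850998811180902a1884298102a18842598906159060da186118906119891a1891852d91891a1891a053598871180922a1884298122a188425a060d8a06118918615918611918811589891a1890192a06c19891a1890192a06bd8122a18905a981218aa1885ad81018aa1885ad91891a18901a05398102a18905a99891a1890185318092a069d812a1890042981022a18900431812a069981218aa18842d81018aa18842d90205158050d,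
    0xaa185959a071181900599990111899218aa185ad81005958709a070d9010d9201118990218905a989902189005ad990711898902189005b18105919070d8109920711a010d9a011189921887a18119022a19007358101a2a1900731811a2a190072d8101a1aa19007358918921885a9811a1aa1900731898921885a5811921aa190073589921885a1899218905a58789a185919858d85899058d,
    0x86898810d82a18619a1861181928619809286199906118109890611988111918921891a06b1918a189019228639a070d8918a18901a2a1864189189218901922864189071199071189886159860d8860d9189218901a2a073d8918a18901a2a073d918a189019228739811892a1891a06b9811892a18901a06bd9189218901a06b582a071591891a18901a2863d8092871989189218901a2863d8098a861d81928719918a18901a2863581a861580a86158068d,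
    0x8020d8880d81190019da1819180989219008ad9a192821d89a08158988118098a190282ad9818d9a18901aa082d99218901aa08b1898921890829811aa1888a5809018a2a19002b9899218908a598a1890192282b58919089991921819d828211899021891a893181018922a18901a288498101892a18901883d810192192a18908bd809189022a083180902a18901a08b98091a19008a9898a0899809189008258888d88098091902282a990282158189809902282a58209,
    0x92a181998a188958101a019d902821598902899d9922a181a198a18889d89888959022821999028219902192a08a599021902a08ad91921aa19008b1901902a08a591922a022191a192a19008b1919021a81a591a2a19008a9919019592181958990218a21990218902a1888b99021892a1888b180921890188ad9018902a1888b1898981892189008ad9a0891809189008a5a188918889811902198189a181919a01919190215,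
    0x82829182019182899022829999008958990089980a18881d80902881d821888198102881998a18919902192a0a2598a19091d92190081d892190082180a081582081180988958188919028295809891a28aa981891a28aa590218aa19092d9920a158118aa18900931811aa190a258118aa189092d98a19009218922a081d812a19008a5809018a8825922a0819921a889981018a882192282958028d,
    0x98aa1890192282b981009158101891a190282b991902821d9a2a1891d9a283159922a1889259a192a18892998a1890192282b598901a190282b19a192a189259922a189219a2a1889218aa0a15809018a190282b590219091d8282119019091982282158098a190282ad8992188b21811a2a1890093180901892189093581019022a1890093d8090189218918939809009198101a1902a18900941892a190a21811a2a190092d90189091d90218909219003118901902282a98901a190282ad830989018a190282b1,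
    0x808811820991900899918902199a189008a198a190082198a1829989882159a039199029189018a18928831899218901a08b18918a039d809288198092889989039189182959028d8820d8838d89018a18902a189094589891a18901a2893d8918a1902892d818a1892a19093580902a189092d89018a18a882d818a18a892598a19081d9028915918a192a19008b58091a889d8102a1909259a189089d919089580a88158880d,
    0x838999022829d899008198218881998900819900811818902882189902282a18102881990228299811900a9d921889199909119892188921899218892189890919890911809881581888158080d89891a0ba191920b99891a0b99919028a9d8101892a0aa99018920aa181928919812a188921809892892180902190092989a88158092891980992a18892998a8815a880d8038d,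
    0x82a19009219a189039d91889159890395a18911918909198309a189039989039189219029da190915898a18918929a038d89018a2a1900935891892189092d9a039189829191883159192039991a039580a188b1d80aa18b9d8918a8b9d900b11918a8b19891890218900935a28b91922a1889219a28b959922a18892589189021890931a1a8b1582190091d901890092190189091d82190919,
    0xa190031999020b199900315990283199028b15900311900b119020b15902831590228319821a8b1981a8b15818b11828b118030d80b0d828311820b11822831581a283198c09899020b1d921a8b19a1a8b1591a8b15918b119a8b1198b0da8b0d8b09a0b0d8309a830da283119a2831591a28319,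
    0x8086118840d80918900425a18841589a2a18621898a1902a188435809a0699809a05198098a18521988411898a1891aa06b1898921891aa18539898a19006a58118a2a1900631809018aa1852d89a18901852998a18901a286318918921884298118aa18842980a86158989218901aa19006c581018922a18901a06c581018aa18906b181018921aa18901854581018aa06a58101aa1891a05358101a1892862d898a18902862d8101a851d81018902a1884358409810691890286198205118068d8860d,
    0x811890218842d81018902a188435809189004a5809018902a188439898a1892a189184bd9922a18842598a190286258988495989022862198902861d989218901aa19005419891a1892a06319891a1900529810189022a18900641918a192a189184398989218901a2863999218904a189192188425918904198118902a188431809018a18aa18901a054d98901a18902a190064580918a2a1852d80901a192862d811922a06258118a2a18904b1811a189004298090218902a18843d8118515890286198489811906198840d8a1884198185119190615,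
    0x9892189019228639810059598901a1890286359890192a1884319a0711899218aa185ad8906918920695890189022862d8901a1890286318992069989a19069d8090059998a18519901921aa18901853d8128615901a190286298122861990190228625918a1851d89922a0721899218aa190073581018921891aa1906c58989218aa19006b9810189218aa18906c19018921885a9898921891aa189006c5891921aa1891a053d898921892a1885b99892a18901922863d80901891a1902863d8101a287218101a189006ad8101890206a9901a07198118a18521,
    0x92a18849d8091a1892a18904bda192a1884a5890192a189004b589a2a1884a59922a1884a58098a192a189004bd8091891a2a18904bd8902192a189004b99890192a189004b998921891a2a1884bd891891a2a1884b5901a192a189004b9891a1892a1884b5918a1892a1884b5901892a189004b58118a2a18904b181019021892a18904c5811a1892a18904b981892a189004b1901891a18901904bd8118a18a84a981018921904ad809019218901904bd8118901a18904b5848981891a18901921884c592188499809189019218904bd9189049999218904a18091892189184b5891904998a189184a198921904a1891892189184b1,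
    0x891a18901921884bd89190218aa18535809021aa18918539809021892a1853589a1aa1891853182192a18901921854189a1892a1852d898a18902a189005c18218901aa1891853d89019218aa18535989019218aa18539809018921852d80901892a1853181921884a1898902185258192a1884a5898902a185298090218aa185318a2859589a18aa1852981018901a18aa1854191892285a19190218aa1853180a1891aa1890185c1921851592a18519901891a18901aa18545901891a1aa18901a054980919021aa1891854180919021892a1853d810218902a189005c19189218901aa1853d918921aa18901a0541891a18aa1852da18902a189005b5809190218aa18539,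
    0x9189021891a06b5809019021906b180a18902a18901a06c5a189019206a99019021892a1891a06c981018901a06ad8098902189019206c191a1902a18901853d809018aa18901853d89021906a181189022a1891a06c181019021906ad811a1aa189018539891a1902a18901a06c58118901a18906b589189218901906b98091891a1aa189018549819218901aa18901854980a1891a06a99018a1aa18901853d819022a1891a06b981890069d818901a2a1891a06c1918902a1891a06b9989021906a5818a1aa18901853991902069daa18901852598901a1892a1891a06c9809018a189019206c19921891aa189018541989019206a5898902a18901853989a18906a18101921891aa18901854d891891a1aa189018545,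
    0x81aa1900725811921902a07318118901921885b581902a0721898aa18901922873d81a2a19007298101a2a0725898901a2a190073989018902a189005bd819022a072580918921902a0739992a1887a18091a18902a190074180918a189019228741901a2a190072d811a2a07218098902a189005b98918901a2a190073d9019022a0729818a1902a189005bd81218879d8091921902a07358107118100715809a18901a2a07398122a071d8901a18901a2a073d81022a072181a19007218789821902a072589921885a19aa07158a192a18905ad9a2a071991a2a071d,
    0x898901a189019206c1819021891aa19006c1898901a1928731898901aa189019206c581900719890190206a5811902a189006b5811a1902872980902a18901a06b981021891aa19006bd809891aa06a98118921891a06b5811a1892a1891a06c181891a190287318099021891aa19006c589018a18901aa19006c9919021890192a06bd8918a1aa19007359189021aa18906b99018a28721818a2871d809a1aa189006b58098a2a18900735aa07118098a18901aa189006c99018901a18902a0741a1890699921aa190072998921902a06ad98a2a189019206b981a18902a18901a06c5899218aa189006b989aa1890192287398a18901aa189019206c981018921902a06b991a1892a1891a06bd,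
    0xa18901921887b19902192a1887b198901921887ad9890192a1887b1901921887a58901921887a990192a1887a9902192a1887ad890192a1887ad8902192a1887b18118879981218879d812a1887a181921887a1809921887a58192a1887a580992a1887a982192a1887a980a192a1887ad818a192a1887b187898878d9887919188795a188795aa1887999218879992a18879d99218879d992a1887a1a192a1887a589921887a18992a1887a58a192a1887a998a192a1887ad918a192a1887b1])]
    (by delta E6_514320; rewrite [Fast.unz_eq, Fast.unp_eq]; decide +kernel)

noncomputable def E6_514320_bas : List (List ℤ × ℤ) :=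
    (List.map (fun l => (l, 1)) (List.map (unz 2) [0x249249249249249249a, 0x249a492689249249249,
    0x249a4924924924924d1, 0x49344924924924924d1, 0x49249249a2492492689, 0x4926892492492492689,
    0x49268924d1249249249, 0x2492492492492493449, 0x249249249249249a249, 0x24924924924924d1249,
    0x2492492492492689249, 0x2492492492493449249, 0x2492493449249249249, 0x249249249b449249249,
    0x4d1249249249a249249, 0x24d249249a49a249249, 0x4d5249249a249249249, 0x4d2492493449a249249,
    0x24924924924d1249249, 0x249249a249249249249, 0x2492492492689249249, 0x24924d1249249249249,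
    0x2492689249249249249, 0x3449249249249249249, 0xa249249249249249249]))

noncomputable def E6_514320_inv : List (ℤ × List (ℤ × ℕ)) :=
    (List.zip (unz 3 0x252c91c71ca529471e79ca5925294a51c72) (List.map (unv 3) [0x32, 0xd4a52, 0xce6b9472, 0x772,
    0x892, 0x992, 0xa92, 0xb92, 0x46c70b3f25d33, 0x12b2, 0x14b2, 0x23650b2f93b33, 0x11b28597c9, 0xce55cc72,
    0x1a94a663, 0xc92, 0x13b2, 0x15b2, 0x16b2, 0xce55ca39, 0x6a529, 0x42cfc9e92, 0x23750b2f93d33, 0x17b2, 0x18b2]))

noncomputable def E6_514320_cf : List (List (ℤ × ℕ) × ℤ) :=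
    (List.zip (List.map (unv 4)
    [0xc2c575871765f04d56d05d17c0a9ad04496880e8ac381d05b403bd243f265466a4381d8995075a5a06524381d29681909440773b40cc70e553ca86c38706e568191438b8c38b0da7,
    0x6162bac77b2c0d45808f4baf2487d4c08c4904da5fc525fe79dfc63f1a9c8443bef16163850d3,
    0x30b15d6cf3558fcd170226bf58ac815e975e4d88d4901789afd5a5fe6923fa94c08c7b1e9ec2728fea28ef1b448756,
    0x616375bad97f6aafd68bfb4d7eb15bf8f4c2f2487c48fcd26044a60473808c7694e4221e0465fb45dde31dc365,
    0xbada5972aae545849ae515baf245752eb6985a4c2ca5d79f3c78e9c8d0f132e7162471862,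
    0x616375bad97f6aafd68bfb4d7eb15bf8f4baf2477c4904d25fc4a5fc73808c7694e4221e0465fb45e1e321c365,
    0x61637590f65bef55c089afed158ff7e975e4d78d4902b135fab4c0894bfcf3bf8c72353d84c3904e58098b6223f890e67,
    0xc2c575871765f04d56d05d17c0a9ad04496880e8ac381d05b403bd23bf2653e6a437fd8994ff5a59fe52437fd2967f90943ff73b40cc70e553ca86c38706e568191437b8c37b0da7,
    0xc2c6eb679b2f7c557be26b41e4bafee2b682fd2f6e486f7a967eed3bf329e05426c0be7df9c76710ed0acbc0a8da243e5,
    0xc2c6eb679b2f7c557be26b41e4bafee2b682fd306e48717a9682ed3c1329dfd426bfbe7df9c76710ed0acbc0a8d9e43e5,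
    0x30b1597c3d563e28b7b4d60b058febd246e4a24ea6be6d2422935f329211ce4231ec787b11948445b1e3b1c325,
    0x1858d970b55bda8b834d7d3d2d39363ea47c5a5ed49211297b73c1b1c6d0e3be583451b46460e3,
    0x1858aabe1e8be1e6b434975f3e98969df14968994f0f09af9e7e1197778ad203e5, 0x616365b4a2e0d35f482c8463d9a9d0e61ec7,
    0xc2c6eb21ecb83556eb35848ac8473bf8c71b43908cafe03e5,
    0xc2c6eb21ecb81eab835170226be9158fcf3bf8c7ade9ebe61ec1595fc0696,
    0x30b2975d78b2e045570228b7f13580fcefe31eb7a7b09cafe03e5, 0x30b15d70b55c0f35fac570220b7f9c71b539080d3,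
    0x1858d970b55bda8b834d7d3d313935bea4845a60d491f1298373c1b1c6d0e3be583452346360e3,
    0x1858aabe1e8be1e6b434975f3e96969e114967994eef09b09e7e1197778ace03e5,
    0x30b1597c3d563e28b7b4d60b058febd236e4a1cea6c26d23e293613291f1ce4231ec787b11948445ade3adc325,
    0x30b15d67692c047a42724ed8941109fdf1cd69cf78a768d0c1a4, 0x30b15d67692c047a73e4a1b127e2120231cd69cf78a868cec1a4,
    0x30b1597cb45eacd66b25a1882da47a496d2cbca59784a28, 0x1858d97ab45f2cd68b25a2882d9c7a496d2cbca59784a28]) (unz 5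
    0x6545e545d005d005d101b0e06ec05c805ec0336019b01744170e06ec05d101b0e01f0e01f95008ec01b200c90264019b006c80332a011))

theorem E6_514320_gen : FX E6_514320
    (List.map (fun l => (l, 1)) (List.map (unz 2) [0x15449356a9249249b549a, 0x5aa24924934d34d2689a,
    0x249e9f5136756d355689aa, 0x9a689349a268da3546da, 0x5a6d126adaa49ab544d1a, 0x55b5544924d369b6a8d51])) :=
  FX.ofC E6_514320_good
    (FC.append (FC.delta E6_514320 [8, 16])
    (FC.append (FC.ind E6_514320_good A1_good (FC.pick A1_fc [0] (by decide +kernel)) ⟨[0], 0xfffe00, 0x1120324354,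
    (unp 6 0x224062460b2c80c480c950071)⟩ (by decide +kernel))
    (FC.append (FC.ind E6_514320_good A1_good (FC.pick A1_fc [0] (by decide +kernel)) ⟨[0], 0xfffe00,
    0x11203204354, (unp 6 0x224062406154c80c480d40e9)⟩ (by decide +kernel))
    (FC.append (FC.ind E6_514320_good A1_good (FC.pick A1_fc [0] (by decide +kernel)) ⟨[0], 0xfffe00,
    0x12032043254, (unp 5 0x90185d6468a099)⟩ (by decide +kernel))
    (FC.ind E6_514320_good A1A1_good (FC.pick A1A1_fc [1] (by decide +kernel)) ⟨[0, 1],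
    0xfffe00080000000000000000000000000000fffe00, 0x1312032431205431203, (unp 7
    0x98918b1991891a192a18905bd99021902a189005bd918921892a18900241)⟩ (by decide +kernel))))))
    _ (Fs.ofC_of (by delta E6_514320 A1_cf A1A1_cf; rewrite [Fast.unz_eq, Fast.unv_eq, Fast.unp_eq]; decide +kernel))

theorem E6_514320_fx : FX E6_514320 E6_514320_bas := FX.comb E6_514320_good E6_514320_gen (List.zipWith (fun a b => ⟨a, b, 1⟩)
    (List.map (fun n => List.map Prod.swap (unv 4 n)) [0xc87, 0x375, 0x375, 0x375, 0x385, 0x385, 0x385, 0xc77,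
    0x706, 0x6f6, 0x646, 0x1c4, 0x1c4, 0x21, 0x21, 0x21, 0x21, 0x21, 0x1b4, 0x1b4, 0x636, 0x184, 0xf3, 0x325,
    0x315])
    (List.map (unv 2) [0x1a, 0x9d, 0x75, 0x17a, 0x13a, 0x17a, 0x17aea, 0xd, 0x1a, 0xd, 0x2d, 0xaa, 0xd, 0x55, 0x75,
    0x13a, 0xbd, 0x2d, 0x55, 0x1a, 0x2d, 0xd, 0x1a, 0x1a, 0x1a]))
    _ (Fs.comb_of (by delta E6_514320 E6_514320_bas; rewrite [Fast.unz_eq, Fast.unv_eq, Fast.unp_eq]; decide +kernel))

theorem E6_514320_io : invOK E6_514320 E6_514320_bas E6_514320_inv = true := Fs.invOK_of (by delta E6_514320_bas E6_514320_inv; rewrite [Fast.unz_eq, Fast.unv_eq]; decide +kernel)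

noncomputable def E6_514320_L : Lat := ⟨E6_514320, E6_514320_bas, E6_514320_inv⟩

theorem E6_514320_ok : E6_514320_L.Ok := ⟨E6_514320_good, E6_514320_fx, E6_514320_io⟩

/-- the nodes of the proper cosets -/
noncomputable def E6_Ls : List Lat :=
    [T0_L, A1_L, A1A1_L, A1A1_10_L, A2_L, A2_10_L, A2A1_L, A2A1_102_L, A3_L, A3_210_L, A4_L, A4_3210_L, A1A1A1_L,
    A1A1A1_021_L, A1A1A1_120_L, A2A1A1_L, A2A1A1_0132_L, A2A1A1_1023_L, A2A1A1_1032_L, A3A1_L, A3A1_2103_L, D4_L,
    D4_0132_L, D4_2130_L, D5_L, D5_01243_L, A4A1_L, A4A1_32104_L, A2A2_L, A2A2_0132_L, A2A2_1032_L, A2A2_2301_L,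
    A2A2_2310_L, A2A2A1_L, A2A2A1_01324_L, A2A2A1_10324_L, A2A2A1_23014_L, A2A2A1_23104_L, A5_L, A5_43210_L]

theorem E6_Ls_ok : ∀ L ∈ E6_Ls, L.Ok :=
    (all_ok_cons T0_ok (all_ok_cons A1_ok (all_ok_cons A1A1_ok (all_ok_cons A1A1_10_ok (all_ok_cons A2_ok
    (all_ok_cons A2_10_ok (all_ok_cons A2A1_ok (all_ok_cons A2A1_102_ok (all_ok_cons A3_ok (all_ok_cons A3_210_ok
    (all_ok_cons A4_ok (all_ok_cons A4_3210_ok (all_ok_cons A1A1A1_ok (all_ok_cons A1A1A1_021_ok (all_ok_cons
    A1A1A1_120_ok (all_ok_cons A2A1A1_ok (all_ok_cons A2A1A1_0132_ok (all_ok_cons A2A1A1_1023_ok (all_ok_cons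
    A2A1A1_1032_ok (all_ok_cons A3A1_ok (all_ok_cons A3A1_2103_ok (all_ok_cons D4_ok (all_ok_cons D4_0132_ok
    (all_ok_cons D4_2130_ok (all_ok_cons D5_ok (all_ok_cons D5_01243_ok (all_ok_cons A4A1_ok (all_ok_cons
    A4A1_32104_ok (all_ok_cons A2A2_ok (all_ok_cons A2A2_0132_ok (all_ok_cons A2A2_1032_ok (all_ok_cons
    A2A2_2301_ok (all_ok_cons A2A2_2310_ok (all_ok_cons A2A2A1_ok (all_ok_cons A2A2A1_01324_ok (all_ok_cons
    A2A2A1_10324_ok (all_ok_cons A2A2A1_23014_ok (all_ok_cons A2A2A1_23104_ok (all_ok_cons A5_ok (all_ok_cons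
    A5_43210_ok all_ok_nil))))))))))))))))))))))))))))))))))))))))

noncomputable def E6_tbl : List (List (ℕ × List ℕ)) := List.map (List.map unE)
    (List.map (unp 5) [0x1, 0x2029, 0x2229, 0x310274204e, 0x2429, 0xa404f8404f, 0x321274424e, 0xe24073c24073,
    0x2629, 0x330274604e, 0xa624f8624f, 0xe06273c06273, 0xa644f8644f, 0x24c80e9064074, 0x248c4e9046274,
    0x2c4c81314264098, 0x2829, 0x340274804e, 0x341274824e, 0x35004e9c28074e4103a68821d35040e9882074, 0x342274844e,
    0xe84073c84073, 0x35048e9c48274e4213a690a1d35084e9884274, 0x49048133141204cc1048133e824098, 0xa864f8864f,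
    0xe08673c08673, 0x250c4e9086274, 0xa0218a666086299, 0x250c8e9086474, 0x2d0c81314864098,
    0xb2099266e486299ba118a66c426899b2118a66a846299, 0xca09902f7082640bd, 0x2a29, 0x350274a04e, 0x351274a24e,
    0x35404e9c2a074e5103a68829d35440e98a2074, 0x352274a44e, 0xea4073ca4073,
    0x35448e9c4a274e5213a690a9d35484e98a4274, 0x49448133151204cc1448133ea24098, 0x353274a64e,
    0x3540ce9c6a074e5303a69829d354c0e98a6074, 0xea6273ca6273, 0x4940c533050314cc540c533ea06298, 0xea6473ca6473,
    0xa29902666a64099, 0xa2918a666a46299, 0xda89902f74a2640bd, 0xaa84f8a84f, 0xe0a873c0a873, 0xe2a873c2a873,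
    0x48415133010544cc4415133e20a898, 0xe4a873c4a873,
    0x3e8a40998114813502a1026bea84099f2a10267a40a899eaa102678a84099, 0x48855133021544cc4855133e42a898,
    0x90514817d28a2902fa5154205f482a840be8c550817d10902a2fa2154205f422a840be, 0x2550ce90a8674, 0xa02a1a6660a8699,
    0x2d50c5314a86298, 0xd82a18af740a862bd, 0x2d50c9314a86498, 0x27543205f4ca8640be, 0xc909a2af704268abd, 0x0])

theorem E6_disp : dispOK 6 E6.AL E6_Ls E6_tbl = true := by decide +kernel


end Cfsg.Agent.LV.W
end

-- part: LV/W/C6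
section
prune_inst 0x4302061016500000000180002002010a5710005b0006000002804014e004d2342a08381014aa010020004b611180100000100006002200000000030000003002088080204802c000008001100108650000000000000000000000080000000000000c010000
set_option linter.all false
open scoped Cfsg.Agent.FastGrp

-- part: LV/Enum/Main
section
/-!
# LV: a kernel checker for the short vectors of a positive definite form (helper22)

* `dt c a` : the pairing of an integer list with a list in a ring, `dot` : the same for integers;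
* `Q F z` : the form `∑ W * (dot c z) ^ 2`, `F` a list of pairs `(W, c)`;
* `enum F n B P`, `enum_sound` : `P z` for all `z` of length `n` with `Q F z ≤ B`;
* `comb`, `dt_comb`, `Q_change` : change of basis;
* `dual H w N B P`, `dual_sound` : complex vectors with integral pairings.
-/

set_option autoImplicit false

namespace Cfsg.Agent.LV.Enum

/-! ### forcing -/

/-- evaluate a natural number -/
def fn {α : Type} (n : ℕ) (k : ℕ → α) : α := Nat.casesOn n (k 0) fun m => k m.succ

theorem fn_eq {α : Type} (n : ℕ) (k : ℕ → α) : fn n k = k n := by cases n <;> rfl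

/-- evaluate an integer -/
def fi {α : Type} (z : ℤ) (k : ℤ → α) : α :=
  Int.casesOn z (fun n => fn n fun m => k (.ofNat m)) fun n => fn n fun m => k (.negSucc m)

theorem fi_eq {α : Type} (z : ℤ) (k : ℤ → α) : fi z k = k z := by
  cases z with
  | ofNat n => exact fn_eq n fun m => k (.ofNat m)
  | negSucc n => exact fn_eq n fun m => k (.negSucc m)

/-- evaluate a list -/
def fl {α β : Type} (f : β → (β → α) → α) : List β → (List β → α) → α
  | [], k => k []
  | a :: l, k => f a fun a' => fl f l fun l' => k (a' :: l')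

theorem fl_eq {α β : Type} {f : β → (β → α) → α} (h : ∀ a k, f a k = k a) : ∀ (l : List β) (k : List β → α), fl f l k = k l
  | [], _ => rfl
  | a :: l, k => by rw [fl, h, fl_eq h]

/-- evaluate a matrix -/
def fm {α : Type} : List (List ℤ) → (List (List ℤ) → α) → α := fl (fl fi)

theorem fm_eq {α : Type} (l : List (List ℤ)) (k : List (List ℤ) → α) : fm l k = k l := fl_eq (fl_eq fi_eq) l k

/-! ### pairings -/

/-- the pairing of an integer list with a list in a ring -/
def dt {R : Type} [Ring R] : List ℤ → List R → R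
  | a :: l, b :: m => a * b + dt l m
  | _, _ => 0

/-- the pairing of two integer lists -/
def dot : List ℤ → List ℤ → ℤ
  | a :: l, b :: m => Int.add (Int.mul a b) (dot l m)
  | _, _ => 0

/-- the sum of two lists -/
def addL {α : Type} (f : α → α → α) : List α → List α → List α
  | a :: l, b :: m => f a b :: addL f l m
  | [], m => m
  | l, [] => l

section

variable {R : Type} [CommRing R]

theorem dt_nil (a : List R) : dt [] a = 0 := by cases a <;> rfl

theorem dt_nil' (c : List ℤ) : dt c ([] : List R) = 0 := by cases c <;> rfl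

theorem dt_cons (a : ℤ) (l : List ℤ) (b : R) (m : List R) : dt (a :: l) (b :: m) = a * b + dt l m := rfl

theorem dt_cast : ∀ c z : List ℤ, dt c (z.map (Int.cast : ℤ → R)) = (dot c z : ℤ)
  | [], z => by rw [dt_nil]; cases z <;> exact Int.cast_zero.symm
  | _ :: _, [] => Int.cast_zero.symm
  | a :: l, b :: m => by
    rw [List.map_cons, dt_cons, dt_cast l m, ← Int.cast_mul, ← Int.cast_add]
    rfl

theorem dot_eq (c z : List ℤ) : dot c z = dt c z := by
  have h := dt_cast (R := ℤ) c z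
  rw [show (Int.cast : ℤ → ℤ) = id from rfl, List.map_id] at h
  exact h.symm

theorem dt_add : ∀ (a b : List ℤ) (z : List R), dt (addL Int.add a b) z = dt a z + dt b z
  | [], b, z => by rw [dt_nil, zero_add]; cases b <;> rfl
  | _ :: _, [], z => by rw [dt_nil, add_zero]; rfl
  | _ :: _, _ :: _, [] => by rw [dt_nil', dt_nil', dt_nil', add_zero]
  | a :: l, b :: m, x :: z => by
    rw [addL, dt_cons, dt_add l m z, dt_cons, dt_cons, show a.add b = a + b from rfl, Int.cast_add]
    ring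

theorem dt_smul (s : ℤ) : ∀ (a : List ℤ) (z : List R), dt (a.map (Int.mul s)) z = s * dt a z
  | [], z => by rw [List.map_nil, dt_nil, mul_zero]
  | _ :: _, [] => by rw [dt_nil', dt_nil', mul_zero]
  | a :: l, x :: z => by
    rw [List.map_cons, dt_cons, dt_smul s l z, dt_cons, show s.mul a = s * a from rfl, Int.cast_mul]
    ring

theorem dt_zero : ∀ (y : List R) (c : List ℤ) (x : List R), dt (List.replicate y.length 0 ++ c) (y ++ x) = dt c x
  | [], _, _ => rfl
  | b :: y, c, x => by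
    rw [List.length_cons, List.replicate_succ, List.cons_append, List.cons_append, dt_cons, dt_zero y c x, Int.cast_zero,
      zero_mul, zero_add]

/-- the linear combination of the rows -/
def comb : List ℤ → List (List ℤ) → List ℤ
  | a :: l, v :: V => addL Int.add (v.map (Int.mul a)) (comb l V)
  | _, _ => []

theorem dt_comb (z : List R) : ∀ (c : List ℤ) (V : List (List ℤ)), dt (comb c V) z = dt c (V.map (dt · z))
  | [], V => by rw [dt_nil]; cases V <;> exact dt_nil z
  | _ :: _, [] => dt_nil z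
  | a :: l, v :: V => by rw [comb, dt_add, dt_smul, dt_comb z l V, List.map_cons, dt_cons]

theorem dot_comb (z c : List ℤ) (V : List (List ℤ)) : dot (comb c V) z = dot c (V.map (dot · z)) := by
  simp only [dot_eq, dt_comb]

end

/-! ### forms -/

/-- the form -/
def Q (F : List (ℤ × List ℤ)) (z : List ℤ) : ℤ := (F.map fun r => r.1 * dot r.2 z ^ 2).sum

theorem Q_cons (r : ℤ × List ℤ) (F : List (ℤ × List ℤ)) (z : List ℤ) : Q (r :: F) z = r.1 * dot r.2 z ^ 2 + Q F z := rfl

/-- the Gram matrix -/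
def gram : List (ℤ × List ℤ) → List (List ℤ)
  | [] => []
  | r :: F => addL (addL Int.add) (r.2.map fun a => r.2.map (Int.mul (Int.mul r.1 a))) (gram F)

theorem map_addL (z : List ℤ) : ∀ A B : List (List ℤ),
    (addL (addL Int.add) A B).map (dt · z) = addL Int.add (A.map (dt · z)) (B.map (dt · z))
  | [], B => by cases B <;> rfl
  | _ :: _, [] => rfl
  | a :: A, b :: B => by
    rw [addL, List.map_cons, map_addL z A B, dt_add]
    rfl

theorem gram_eq (z : List ℤ) : ∀ F : List (ℤ × List ℤ), dt ((gram F).map (dt · z)) z = Q F z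
  | [] => dt_nil z
  | r :: F => by
    have h : (r.2.map fun a => r.2.map (Int.mul (Int.mul r.1 a))).map (dt · z) = r.2.map (Int.mul (r.1 * dt r.2 z)) := by
      rw [List.map_map]
      refine List.map_congr_left fun a _ => (dt_smul _ _ _).trans ?_
      show r.1 * a * _ = r.1 * _ * a
      ring
    rw [gram, map_addL, dt_add, gram_eq z F, h, dt_smul, Q_cons, dot_eq, Int.cast_id]
    ring

theorem Q_scale (D : ℤ) (z : List ℤ) : ∀ F : List (ℤ × List ℤ), Q (F.map fun r => (Int.mul D r.1, r.2)) z = D * Q F z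
  | [] => (mul_zero D).symm
  | r :: F => by
    rw [List.map_cons, Q_cons, Q_scale D z F, Q_cons, show D.mul r.1 = D * r.1 from rfl]
    ring

/-! ### the search -/

/-- one direction -/
def scan (f : ℤ → ℤ → Bool) (d e t B : ℤ) : ℕ → ℤ → ℤ → Bool
  | 0, _, _ => false
  | n + 1, z, v => fi (Int.sub B (Int.mul e (Int.mul v v))) fun B' =>
      Int.casesOn B' (fun _ => f z B' && fi (Int.add z d) fun z' => fi (Int.add v t) fun v' => scan f d e t B n z' v')
        fun _ => true

theorem scan_sound {f : ℤ → ℤ → Bool} {d e t B : ℤ} (he : 0 ≤ e) (ht : 0 ≤ t) : ∀ (n : ℕ) (z v : ℤ), 0 ≤ v →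
    scan f d e t B n z v = true → ∀ j : ℕ, e * (v + j * t) ^ 2 ≤ B → f (z + j * d) (B - e * (v + j * t) ^ 2) = true
  | 0, _, _, _, h, _, _ => nomatch h
  | n + 1, z, v, hv, h, j, hj => by
    have h1 : 0 ≤ (j : ℤ) * t := mul_nonneg (Int.natCast_nonneg j) ht
    have h2 : 0 ≤ B - e * v ^ 2 := by
      have := mul_le_mul_of_nonneg_left (pow_le_pow_left₀ hv (le_add_of_nonneg_right h1) 2) he
      linarith
    rw [scan, fi_eq, show B.sub (e.mul (v.mul v)) = B - e * v ^ 2 by rw [sq]; rfl] at h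
    obtain ⟨m, hm⟩ := Int.eq_ofNat_of_zero_le h2
    have h3 : (f z (B - e * v ^ 2) && scan f d e t B n (z + d) (v + t)) = true := by
      rw [fi_eq, fi_eq, hm] at h
      rw [hm]
      exact h
    rw [Bool.and_eq_true] at h3
    rcases j with _ | j
    · simpa using h3.1
    · have h4 := scan_sound he ht n _ _ (add_nonneg hv ht) h3.2 j
      rw [show v + t + j * t = v + (j + 1 : ℕ) * t by push_cast; ring,
        show z + d + j * d = z + (j + 1 : ℕ) * d by push_cast; ring] at h4
      exact h4 hj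

/-- the search tree -/
def dfs (P : List ℤ → Bool) : List (ℤ × ℤ × List ℤ) → ℤ → List ℤ → Bool
  | [], _, x => P x
  | r :: R, B, x => fi (dot r.2.2 x) fun s => fi (Int.neg (Int.ediv s r.2.1)) fun z => fi (Int.emod s r.2.1) fun v =>
      scan (fun y B' => dfs P R B' (y :: x)) 1 r.1 r.2.1 B 100000 z v &&
      fi (Int.sub z 1) fun z' => fi (Int.sub r.2.1 v) fun v' =>
        scan (fun y B' => dfs P R B' (y :: x)) (-1) r.1 r.2.1 B 100000 z' v'

/-- the triangular forms -/
def dense : List (ℤ × ℤ × List ℤ) → List (ℤ × List ℤ)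
  | [] => []
  | r :: R => (r.1, List.replicate R.length 0 ++ r.2.1 :: r.2.2) :: dense R

theorem Q_dense_nonneg (z : List ℤ) : ∀ R : List (ℤ × ℤ × List ℤ), (∀ r ∈ R, 0 ≤ r.1 ∧ 0 < r.2.1) → 0 ≤ Q (dense R) z
  | [], _ => le_rfl
  | r :: R, h => add_nonneg (mul_nonneg (h r (.head _)).1 (sq_nonneg _)) (Q_dense_nonneg z R fun s hs => h s (.tail _ hs))

theorem dfs_sound {P : List ℤ → Bool} : ∀ (R : List (ℤ × ℤ × List ℤ)) (B : ℤ) (x y : List ℤ), (∀ r ∈ R, 0 ≤ r.1 ∧ 0 < r.2.1) →
    dfs P R B x = true → y.length = R.length → Q (dense R) (y ++ x) ≤ B → P (y ++ x) = true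
  | [], _, _, y, _, h, hy, _ => by
    rw [List.length_eq_zero_iff.1 hy]
    exact h
  | r :: R, B, x, y, hR, h, hy, hB => by
    obtain ⟨y, a, rfl⟩ : ∃ y' a, y = y' ++ [a] := by
      rcases List.eq_nil_or_concat y with rfl | ⟨y', a, rfl⟩
      · exact nomatch hy
      · exact ⟨y', a, List.concat_eq_append⟩
    have h1 : y.length = R.length := by simpa using hy
    have h2 := hR r (.head _)
    have h3 : ∀ s ∈ R, 0 ≤ s.1 ∧ 0 < s.2.1 := fun s hs => hR s (.tail _ hs)
    rw [List.append_assoc, List.singleton_append] at hB ⊢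
    rw [dense, Q_cons, dot_eq, ← h1, dt_zero, dt_cons, ← dot_eq, Int.cast_id] at hB
    have h4 := Q_dense_nonneg (y ++ a :: x) R h3
    simp only [dfs, fi_eq, Bool.and_eq_true] at h
    generalize dot r.2.2 x = s at h hB
    have h5 : r.2.1 * (s / r.2.1) + s % r.2.1 = s := Int.mul_ediv_add_emod s _
    refine dfs_sound R (B - r.1 * (r.2.1 * a + s) ^ 2) _ y h3 ?_ h1 (by linarith)
    rcases le_or_gt (-(s / r.2.1)) a with h6 | h6
    · obtain ⟨j, hj⟩ := Int.eq_ofNat_of_zero_le (sub_nonneg.2 h6)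
      have h7 := scan_sound h2.1 h2.2.le _ _ _ (Int.emod_nonneg s h2.2.ne') h.1 j
      rw [show s % r.2.1 + j * r.2.1 = r.2.1 * a + s by rw [← hj]; linear_combination h5,
        show (s.ediv r.2.1).neg + j * 1 = a by rw [← hj]; show -(s / r.2.1) + _ = _; ring] at h7
      exact h7 (by linarith)
    · obtain ⟨j, hj⟩ := Int.eq_ofNat_of_zero_le (show 0 ≤ -(s / r.2.1) - 1 - a by omega)
      have h7 := scan_sound h2.1 h2.2.le _ _ _ (sub_nonneg.2 (Int.emod_lt_of_pos s h2.2).le) h.2 j
      rw [show r.2.1 - s % r.2.1 + j * r.2.1 = -(r.2.1 * a + s) by rw [← hj]; linear_combination -h5, neg_sq,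
        show ((s.ediv r.2.1).neg.sub 1) + j * -1 = a by rw [← hj]; show -(s / r.2.1) - 1 + _ = _; ring] at h7
      exact h7 (by linarith)

/-! ### the checker -/

/-- fraction free elimination (no correctness proof is needed) -/
def ldl {α : Type} : ℕ → ℤ → List (List ℤ) → List (ℤ × ℤ × List ℤ) → (List (ℤ × ℤ × List ℤ) → α) → α
  | n + 1, d, (g :: r) :: G, R, k =>
      fm (G.map fun s => List.zipWith (fun a b => Int.ediv (Int.sub (Int.mul g a) (Int.mul (s.headD 0) b)) d) s.tail r)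
        fun G' => fi (Int.mul d g) fun e => ldl n g G' ((e, g, r) :: R) k
  | _, _, _, R, k => k R

theorem ldl_ex {α : Type} : ∀ (n : ℕ) (d : ℤ) (G : List (List ℤ)) (R : List (ℤ × ℤ × List ℤ))
    (k : List (ℤ × ℤ × List ℤ) → α), ∃ R', ldl n d G R k = k R'
  | 0, _, G, R, _ => ⟨R, by rcases G with _ | ⟨_ | _, _⟩ <;> rfl⟩
  | _ + 1, _, [], R, _ => ⟨R, rfl⟩
  | _ + 1, _, [] :: _, R, _ => ⟨R, rfl⟩
  | n + 1, d, (g :: r) :: G, R, k => by
    rw [ldl, fm_eq, fi_eq]
    exact ldl_ex n _ _ _ k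

/-- the check for given triangular forms -/
def chk (F : List (ℤ × List ℤ)) (n : ℕ) (B : ℤ) (P : List ℤ → Bool) (D : ℤ) (R : List (ℤ × ℤ × List ℤ)) : Bool :=
  decide (R.length = n) && decide (0 ≤ D) && (R.all fun r => decide (0 ≤ r.1) && decide (0 < r.2.1)) &&
    decide (gram (dense R) = gram (F.map fun r => (Int.mul D r.1, r.2))) && fi (Int.mul D B) fun B' => dfs P R B' []

theorem chk_sound {F : List (ℤ × List ℤ)} {n : ℕ} {B : ℤ} {P : List ℤ → Bool} {D : ℤ} {R : List (ℤ × ℤ × List ℤ)}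
    (h : chk F n B P D R = true) {z : List ℤ} (hz : z.length = n) (hB : Q F z ≤ B) : P z = true := by
  simp only [chk, fi_eq, Bool.and_eq_true, decide_eq_true_eq, List.all_eq_true] at h
  obtain ⟨⟨⟨⟨h1, h2⟩, h3⟩, h4⟩, h5⟩ := h
  have h6 := dfs_sound R _ [] z h3 h5 (hz.trans h1.symm)
  rw [List.append_nil, ← gram_eq, h4, gram_eq, Q_scale] at h6
  exact h6 (mul_le_mul_of_nonneg_left hB h2)

/-- **the checker** -/
def enum (F : List (ℤ × List ℤ)) (n : ℕ) (B : ℤ) (P : List ℤ → Bool) : Bool :=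
  fl (fun r k => fi r.1 fun a => fl fi r.2 fun c => k (a, c)) F fun F' => fm (gram F') fun G => ldl n 1 G [] fun R =>
    fn (R.foldr (fun r a => fn a fun a' => Nat.lcm r.1.natAbs a') 1) fun D =>
      fl (fun r k => fi r.1 fun e => k (e, r.2)) (R.map fun r => (Int.ediv D r.1, r.2)) fun R' => chk F' n B P D R'

theorem enum_sound {F : List (ℤ × List ℤ)} {n : ℕ} {B : ℤ} {P : List ℤ → Bool} (h : enum F n B P = true) {z : List ℤ}
    (hz : z.length = n) (hB : Q F z ≤ B) : P z = true := by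
  rw [enum, fl_eq (fun r k => by rw [fi_eq, fl_eq fi_eq]), fm_eq] at h
  obtain ⟨R, hR⟩ := ldl_ex n 1 (gram F) [] fun R => fn (R.foldr (fun r a => fn a fun a' => Nat.lcm r.1.natAbs a') 1) fun D =>
    fl (fun r k => fi r.1 fun e => k (e, r.2)) (R.map fun r => (Int.ediv D r.1, r.2)) fun R' => chk F n B P D R'
  rw [hR, fn_eq, fl_eq fun r k => by rw [fi_eq]] at h
  exact chk_sound h hz hB

/-! ### the dual form -/

/-- solve `comb c H = τ` for an upper triangular matrix (no correctness proof is needed) -/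
def solve : ℕ → List (List ℤ) → List ℤ → List ℤ
  | n + 1, r :: H, τ => fi (Int.ediv (τ.headD 0) (r.headD 1)) fun c =>
      fl fi (addL Int.add τ.tail (r.tail.map (Int.mul (Int.neg c)))) fun τ' => c :: solve n (H.map List.tail) τ'
  | _, _, _ => []

/-- `N` times a unit vector -/
def uv (n : ℕ) (N : ℤ) (i : ℕ) : List ℤ := List.replicate i 0 ++ N :: List.replicate (n - (i + 1)) 0

end Cfsg.Agent.LV.Enum
end

-- part: LV/W/Enu
section
/-!
# LV/W: block-wise enumeration of the short dual vectors (helper25)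

`Lat.enum_sound` : if `L.enum c fs B P = true` and `c.S * L.nrm z ≤ B`, then `P rem vals = true` for
`rem = B - c.S * L.nrm z` and `vals = c.N * (∑ φ, t φ * L.a z φ)`, `t ∈ fs`.
-/

set_option autoImplicit false

namespace Cfsg.Agent.LV.W

open Finset Cfsg.Agent.LV.Enum

/-- the search tree; the leaves see the remaining bound -/
def dfs2 (P : ℤ → List ℤ → Bool) (R : List (ℤ × ℤ × List ℤ)) : ℤ → List ℤ → Bool :=
  List.rec (fun B x => P B x) (fun r _ ih B x =>
    fi (dot r.2.2 x) fun s => fi (Int.neg (Int.ediv s r.2.1)) fun z => fi (Int.emod s r.2.1) fun v =>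
      scan (fun y B' => ih B' (y :: x)) 1 r.1 r.2.1 B 100000 z v &&
      fi (Int.sub z 1) fun z' => fi (Int.sub r.2.1 v) fun v' =>
        scan (fun y B' => ih B' (y :: x)) (-1) r.1 r.2.1 B 100000 z' v') R

theorem dfs2_cons (P : ℤ → List ℤ → Bool) (r : ℤ × ℤ × List ℤ) (R : List (ℤ × ℤ × List ℤ)) (B : ℤ) (x : List ℤ) :
    dfs2 P (r :: R) B x =
    fi (dot r.2.2 x) fun s => fi (Int.neg (Int.ediv s r.2.1)) fun z => fi (Int.emod s r.2.1) fun v =>
      scan (fun y B' => dfs2 P R B' (y :: x)) 1 r.1 r.2.1 B 100000 z v &&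
      fi (Int.sub z 1) fun z' => fi (Int.sub r.2.1 v) fun v' =>
        scan (fun y B' => dfs2 P R B' (y :: x)) (-1) r.1 r.2.1 B 100000 z' v' := rfl

theorem dfs2_sound {P : ℤ → List ℤ → Bool} : ∀ (R : List (ℤ × ℤ × List ℤ)) (B : ℤ) (x y : List ℤ),
    (∀ r ∈ R, 0 ≤ r.1 ∧ 0 < r.2.1) → dfs2 P R B x = true → y.length = R.length → Q (dense R) (y ++ x) ≤ B →
    P (B - Q (dense R) (y ++ x)) (y ++ x) = true
  | [], _, _, y, _, h, hy, _ => by
    rw [List.length_eq_zero_iff.1 hy, show Q (dense []) _ = 0 from rfl, sub_zero]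
    exact h
  | r :: R, B, x, y, hR, h, hy, hB => by
    obtain ⟨y, a, rfl⟩ : ∃ y' a, y = y' ++ [a] := by
      rcases List.eq_nil_or_concat y with rfl | ⟨y', a, rfl⟩
      · exact nomatch hy
      · exact ⟨y', a, List.concat_eq_append⟩
    have h1 : y.length = R.length := by simpa using hy
    have h2 := hR r (.head _)
    have h3 : ∀ s ∈ R, 0 ≤ s.1 ∧ 0 < s.2.1 := fun s hs => hR s (.tail _ hs)
    rw [List.append_assoc, List.singleton_append] at hB ⊢
    rw [dense, Q_cons, dot_eq, ← h1, dt_zero, dt_cons, ← dot_eq, Int.cast_id] at hB ⊢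
    have h4 := Q_dense_nonneg (y ++ a :: x) R h3
    simp only [dfs2_cons, fi_eq, Bool.and_eq_true] at h
    generalize dot r.2.2 x = s at h hB ⊢
    have h5 : r.2.1 * (s / r.2.1) + s % r.2.1 = s := Int.mul_ediv_add_emod s _
    rw [← sub_sub]
    refine dfs2_sound R (B - r.1 * (r.2.1 * a + s) ^ 2) _ y h3 ?_ h1 (by linarith)
    rcases le_or_gt (-(s / r.2.1)) a with h6 | h6
    · obtain ⟨j, hj⟩ := Int.eq_ofNat_of_zero_le (sub_nonneg.2 h6)
      have h7 := scan_sound h2.1 h2.2.le _ _ _ (Int.emod_nonneg s h2.2.ne') h.1 j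
      rw [show s % r.2.1 + j * r.2.1 = r.2.1 * a + s by rw [← hj]; linear_combination h5,
        show (s.ediv r.2.1).neg + j * 1 = a by rw [← hj]; show -(s / r.2.1) + _ = _; ring] at h7
      exact h7 (by linarith)
    · obtain ⟨j, hj⟩ := Int.eq_ofNat_of_zero_le (show 0 ≤ -(s / r.2.1) - 1 - a by omega)
      have h7 := scan_sound h2.1 h2.2.le _ _ _ (sub_nonneg.2 (Int.emod_lt_of_pos s h2.2).le) h.2 j
      rw [show r.2.1 - s % r.2.1 + j * r.2.1 = -(r.2.1 * a + s) by rw [← hj]; linear_combination -h5, neg_sq,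
        show ((s.ediv r.2.1).neg.sub 1) + j * -1 = a by rw [← hj]; show -(s / r.2.1) - 1 + _ = _; ring] at h7
      exact h7 (by linarith)

/-- a prepared block: triangular forms, coefficients of the functionals -/
abbrev PB : Type := List (ℤ × ℤ × List ℤ) × List (List ℤ)

def accum (acc : List ℤ) (U : List (List ℤ)) (x : List ℤ) : List ℤ :=
  cond (x.all fun a => decide (a = 0)) acc (List.zipWith (fun a u => Int.add a (dot u x)) acc U)

def goB (P : ℤ → List ℤ → Bool) (bs : List PB) : ℤ → List ℤ → Bool :=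
  List.rec (fun B acc => P B acc) (fun b _ ih B acc => dfs2 (fun B' x => ih B' (accum acc b.2 x)) b.1 B []) bs

theorem dot_zero {x : List ℤ} (h : ∀ a ∈ x, a = 0) (u : List ℤ) : dot u x = 0 := by
  induction u generalizing x with
  | nil => cases x <;> rfl
  | cons c u ih =>
    cases x with
    | nil => rfl
    | cons a x =>
      show c * a + dot u x = 0
      rw [h a List.mem_cons_self, ih fun b hb => h b (List.mem_cons_of_mem _ hb), mul_zero, add_zero]

theorem accum_map {ι : Type} (fs : List ι) (f : ι → ℤ) (u : ι → List ℤ) (x : List ℤ) :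
    accum (fs.map f) (fs.map u) x = fs.map fun t => f t + dot (u t) x := by
  rw [accum]
  cases e : x.all fun a => decide (a = 0)
  · rw [cond_false, List.zipWith_map, List.zipWith_self]; rfl
  · rw [cond_true]
    simp only [List.all_eq_true, decide_eq_true_eq] at e
    simp only [dot_zero e, add_zero]

theorem goB_sound {ι κ : Type} {P : ℤ → List ℤ → Bool} (fs : List ι) (R : κ → List (ℤ × ℤ × List ℤ))
    (u : κ → ι → List ℤ) (y : κ → List ℤ) (bs : List κ) (hR : ∀ b ∈ bs, (∀ r ∈ R b, 0 ≤ r.1 ∧ 0 < r.2.1) ∧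
      (y b).length = (R b).length) (B : ℤ) (f : ι → ℤ)
    (h : goB P (bs.map fun b => (R b, fs.map (u b))) B (fs.map f) = true)
    (hB : (bs.map fun b => Q (dense (R b)) (y b)).sum ≤ B) :
    P (B - (bs.map fun b => Q (dense (R b)) (y b)).sum)
      (fs.map fun t => f t + (bs.map fun b => dot (u b t) (y b)).sum) = true := by
  induction bs generalizing B f with
  | nil =>
    simp only [List.map_nil, List.sum_nil, sub_zero, add_zero]
    exact h
  | cons b bs ih =>
    have h1 : ∀ c ∈ bs, _ := fun c hc => hR c (List.mem_cons_of_mem _ hc)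
    have h2 := hR b List.mem_cons_self
    have h3 : 0 ≤ (bs.map fun b => Q (dense (R b)) (y b)).sum := List.sum_nonneg fun a ha => by
      obtain ⟨c, hc, rfl⟩ := List.mem_map.1 ha
      exact Q_dense_nonneg _ _ (h1 c hc).1
    simp only [List.map_cons, List.sum_cons] at hB ⊢
    have h4 := dfs2_sound (R b) B [] (y b) h2.1 h h2.2 (by rw [List.append_nil]; linarith)
    rw [List.append_nil, accum_map] at h4
    have h5 := ih h1 _ _ h4 (by linarith)
    simpa only [sub_sub, add_assoc] using h5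

/-- a block: characters, lattice coordinates, triangular forms -/
structure Blk where
  ph : List ℕ
  js : List ℕ
  R : List (ℤ × ℤ × List ℤ)

/-- certificate of the enumeration -/
structure Ce where
  N : ℤ
  S : ℤ
  bl : List Blk

namespace Lat

variable (L : Lat) (c : Ce)

def num (φ j : ℕ) : ℤ :=
  c.N * List.rec 0 (fun p _ ih => (if p.2 = j then p.1 * (nth ([], 0) L.bas p.2).2 else 0) + ih) (nth (0, []) L.inv φ).2

/-- `N * a φ` as a form in the lattice coordinates of the block -/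
def row (b : Blk) (φ : ℕ) : List ℤ := b.js.map fun j => L.num c φ j / (nth (0, []) L.inv φ).1

def wt (φ : ℕ) : ℤ := c.S * L.nd.ν φ / (L.nd.ν 0 * c.N ^ 2)

def blkOK (b : Blk) : Bool :=
  decide (b.js.Nodup) && decide (b.R.length = b.js.length) && (b.R.all fun r => decide (0 ≤ r.1) && decide (0 < r.2.1)) &&
  (b.ph.all fun φ => decide ((nth (0, []) L.inv φ).1 ≠ 0) && ((nth (0, []) L.inv φ).2.all fun p => decide (p.2 ∈ b.js)) &&
    (b.js.all fun j => decide (L.num c φ j % (nth (0, []) L.inv φ).1 = 0)) &&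
    decide (L.wt c φ * (L.nd.ν 0 * c.N ^ 2) = c.S * L.nd.ν φ)) &&
  decide (gram (dense b.R) = gram (b.ph.map fun φ => (L.wt c φ, L.row c b φ)))

def ceOK : Bool :=
  decide (c.N ≠ 0) && decide (L.nd.ν 0 ≠ 0) && decide ((c.bl.flatMap Blk.ph).Perm (List.range L.nd.K)) &&
    c.bl.all (L.blkOK c)

def uu (b : Blk) (t : List ℤ) : List ℤ := comb (b.ph.map (nth 0 t)) (b.ph.map (L.row c b))

def fR {α : Type} : List (ℤ × ℤ × List ℤ) → (List (ℤ × ℤ × List ℤ) → α) → α :=
  fl fun r k => fi r.1 fun e => fi r.2.1 fun g => fl fi r.2.2 fun l => k (e, g, l)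

/-- **the enumeration** -/
def enum (fs : List (List ℤ)) (B : ℤ) (P : ℤ → List ℤ → Bool) : Bool :=
  fl (fun (b : PB) k => fR b.1 fun R => fm b.2 fun U => k (R, U)) (c.bl.map fun b => (b.R, fs.map (L.uu c b))) fun bs =>
    fi B fun B => goB P bs B (fs.map fun _ => 0)

variable {L c}

theorem row_spec {b : Blk} (h : L.blkOK c b = true) {φ : ℕ} (hφ : φ ∈ b.ph) (z : ℕ → ℤ) :
    ((dot (L.row c b φ) (b.js.map z) : ℤ) : ℚ) = c.N * L.a z φ := by
  simp only [blkOK, Bool.and_eq_true, decide_eq_true_eq, List.all_eq_true] at h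
  obtain ⟨⟨⟨h1, h2⟩, h3⟩, -⟩ := h.1.2 φ hφ
  have hn := h.1.1.1.1
  have key : ∀ js : List ℕ, (∀ j ∈ js, j ∈ b.js) →
      (nth (0, []) L.inv φ).1 * dot (js.map fun j => L.num c φ j / (nth (0, []) L.inv φ).1) (js.map z) =
        (js.map fun j => L.num c φ j * z j).sum := by
    intro js hj
    induction js with
    | nil => exact mul_zero _
    | cons j js ih =>
      show _ * (L.num c φ j / (nth (0, []) L.inv φ).1 * z j + _) = _
      rw [mul_add, ih fun i hi => hj i (List.mem_cons_of_mem _ hi), ← mul_assoc,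
        Int.mul_ediv_cancel' (Int.dvd_of_emod_eq_zero (h3 j (hj j List.mem_cons_self)))]
      rfl
  have key2 : ∀ cf : List (ℤ × ℕ), (∀ p ∈ cf, p.2 ∈ b.js) →
      (b.js.map fun j => (List.rec 0 (fun p _ ih => (if p.2 = j then p.1 * (nth ([], 0) L.bas p.2).2 else 0) + ih) cf : ℤ) *
        z j).sum = (cf.map fun p => p.1 * (nth ([], 0) L.bas p.2).2 * z p.2).sum := by
    intro cf hcf
    induction cf with
    | nil => simp
    | cons p cf ih =>
      rw [List.map_cons, List.sum_cons, ← ih fun q hq => hcf q (List.mem_cons_of_mem _ hq)]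
      simp only [add_mul, List.sum_map_add]
      congr 1
      rw [← List.sum_toFinset _ hn, sum_eq_single p.2, if_pos rfl]
      · exact fun j _ hj => by rw [if_neg (Ne.symm hj), zero_mul]
      · exact fun h4 => absurd (List.mem_toFinset.2 (hcf p List.mem_cons_self)) h4
  have h4 := key b.js fun _ hj => hj
  simp only [num, mul_assoc, List.sum_map_mul_left] at h4
  rw [key2 _ h2] at h4
  have h5 : (((nth (0, []) L.inv φ).1 : ℤ) : ℚ) ≠ 0 := Int.cast_ne_zero.2 h1
  rw [a, coz, mul_div_assoc', eq_div_iff h5, mul_comm]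
  exact_mod_cast h4

theorem sum_bl (h : L.ceOK c = true) (g : ℕ → ℚ) :
    ∑ φ ∈ range L.nd.K, g φ = (c.bl.map fun b => (b.ph.map g).sum).sum := by
  simp only [ceOK, Bool.and_eq_true, decide_eq_true_eq] at h
  have h1 : ∑ φ ∈ range L.nd.K, g φ = ((List.range L.nd.K).map g).sum := rfl
  rw [h1, ← (h.1.2.map g).sum_eq]
  induction c.bl with
  | nil => rfl
  | cons b bs ih => rw [List.flatMap_cons, List.map_append, List.sum_append, ih, List.map_cons, List.sum_cons]

theorem enum_sound (hc : L.ceOK c = true) {fs : List (List ℤ)} {B : ℤ} {P : ℤ → List ℤ → Bool}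
    (h : L.enum c fs B P = true) (z : ℕ → ℤ) (hz : c.S * L.nrm z ≤ B) :
    ∃ (rem : ℤ) (v : List ℤ → ℤ), (rem : ℚ) = B - c.S * L.nrm z ∧
      (∀ t, (v t : ℚ) = c.N * ∑ φ ∈ range L.nd.K, ((nth 0 t φ : ℤ) : ℚ) * L.a z φ) ∧ P rem (fs.map v) = true := by
  have hc' := hc
  simp only [ceOK, Bool.and_eq_true, decide_eq_true_eq, List.all_eq_true] at hc'
  obtain ⟨⟨⟨hN, hν⟩, -⟩, hb⟩ := hc'
  rw [enum, fl_eq (fun b k => by rw [fR, fl_eq (fun r k => by rw [fi_eq, fi_eq, fl_eq fi_eq]), fm_eq]), fi_eq] at h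
  have hQ : (((c.bl.map fun b => Q (dense b.R) (b.js.map z)).sum : ℤ) : ℚ) = c.S * L.nrm z := by
    have h1 : (L.nd.ν 0 : ℚ) ≠ 0 := Int.cast_ne_zero.2 hν
    rw [nrm, mul_div_assoc', mul_sum, sum_div, sum_bl hc, Int.cast_list_sum, List.map_map]
    refine congrArg List.sum (List.map_congr_left fun b hb' => ?_)
    have h2 := hb b hb'
    have h3 := h2
    simp only [blkOK, Bool.and_eq_true, decide_eq_true_eq, List.all_eq_true] at h3
    rw [Function.comp, ← gram_eq, h3.2, gram_eq, Q, List.map_map, Int.cast_list_sum, List.map_map]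
    refine congrArg List.sum (List.map_congr_left fun φ hφ => ?_)
    have h4 := congrArg (Int.cast : ℤ → ℚ) (h3.1.2 φ hφ).2
    simp only [Function.comp, Int.cast_mul, Int.cast_pow, row_spec h2 hφ] at h4 ⊢
    rw [eq_div_iff h1]
    linear_combination L.a z φ ^ 2 * h4
  have h1 := goB_sound fs Blk.R (L.uu c) (fun b => b.js.map z) c.bl (fun b hb' => by
    have h3 := hb b hb'
    simp only [blkOK, Bool.and_eq_true, decide_eq_true_eq, List.all_eq_true] at h3
    exact ⟨h3.1.1.2, by rw [List.length_map, h3.1.1.1.2]⟩) B (fun _ => 0) h (by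
      rw [← hQ] at hz; exact_mod_cast hz)
  refine ⟨_, _, by rw [Int.cast_sub, hQ], fun t => ?_, h1⟩
  rw [zero_add, mul_sum, sum_bl hc, Int.cast_list_sum, List.map_map]
  refine congrArg List.sum (List.map_congr_left fun b hb' => ?_)
  rw [Function.comp, uu, dot_comb, List.map_map]
  have h2 := fun φ hφ => row_spec (hb b hb') (φ := φ) hφ z
  generalize b.ph = ph at h2
  induction ph with
  | nil => rfl
  | cons φ ph ih =>
    show ((nth 0 t φ * _ + _ : ℤ) : ℚ) = _
    rw [Int.cast_add, ih fun χ hχ => h2 χ (List.mem_cons_of_mem _ hχ), List.map_cons, List.sum_cons, Int.cast_mul,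
      Function.comp, h2 φ List.mem_cons_self]
    ring

variable (L) in
/-- the functional "value at the class `k`" -/
def col (k : ℕ) : List ℤ := nth [] L.nd.XC k

theorem col_val (z : ℕ → ℤ) (k : ℕ) : ∑ φ ∈ range L.nd.K, ((nth 0 (L.col k) φ : ℤ) : ℚ) * L.a z φ = L.val z k :=
  sum_congr rfl fun _ _ => mul_comm _ _

/-- the enumeration with the values at the classes `ks` -/
theorem enum_val (hc : L.ceOK c = true) {ks : List ℕ} {B : ℤ} {P : ℤ → List ℤ → Bool}
    (h : L.enum c (ks.map L.col) B P = true) (z : ℕ → ℤ) (hz : c.S * L.nrm z ≤ B) :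
    ∃ (rem : ℤ) (v : ℕ → ℤ), (rem : ℚ) = B - c.S * L.nrm z ∧ (∀ k, (v k : ℚ) = c.N * L.val z k) ∧
      P rem (ks.map v) = true := by
  obtain ⟨rem, v, h1, h2, h3⟩ := enum_sound hc h z hz
  exact ⟨rem, fun k => v (L.col k), h1, fun k => by rw [h2, col_val], by rwa [List.map_map] at h3⟩

end Lat

/-- a test `T L c` for all nodes of a list -/
theorem all_of_all2 {Ls : List Lat} {cs : List Ce} (h : List.Forall₂ (fun (L : Lat) c => L.ceOK c = true) Ls cs)
    {T : Lat → Ce → Bool} (hT : all2 T Ls cs = true) {L : Lat} (hL : L ∈ Ls) : ∃ c, L.ceOK c = true ∧ T L c = true := by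
  have h1 := all2_iff.1 hT
  induction h with
  | nil => exact absurd hL List.not_mem_nil
  | cons hab _ ih =>
    rw [List.forall₂_cons] at h1
    rcases List.mem_cons.1 hL with rfl | h2
    · exact ⟨_, hab, h1.1⟩
    · exact ih (all2_iff.2 h1.2) h2 h1.2

end Cfsg.Agent.LV.W
end

-- part: LV/W/C6
section
/-! LV/W: generated data (helper25) -/

set_option autoImplicit false
set_option maxRecDepth 100000

namespace Cfsg.Agent.LV.W

noncomputable def T0_ce : Ce := ⟨1, 1,
    (List.map (fun p : ℕ × ℕ × ℤ => (⟨[p.1], [p.2.1], [(p.2.2, 1, [])]⟩ : Blk)) (List.zip (unp 1 0x1) (List.zip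
    (unp 1 0x1) (unz 2 0xa)))) ++ []⟩

theorem T0_ceOK : T0_L.ceOK T0_ce = true := by decide +kernel

noncomputable def A1_ce : Ce := ⟨1, 1,
    (List.map (fun p : ℕ × ℕ × ℤ => (⟨[p.1], [p.2.1], [(p.2.2, 1, [])]⟩ : Blk)) (List.zip (unp 1 0xd) (List.zip
    (unp 1 0xd) (unz 2 0xaa)))) ++ []⟩

theorem A1_ceOK : A1_L.ceOK A1_ce = true := by decide +kernel

noncomputable def G2_ce : Ce := ⟨6, 180,
    (List.map (fun p : ℕ × ℕ × ℤ => (⟨[p.1], [p.2.1], [(p.2.2, 1, [])]⟩ : Blk)) (List.zip (unp 2 0x71) (List.zip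
    (unp 2 0xb9) (unz 4 0x2d13689)))) ++ [⟨[1, 2, 4, 5], [4, 3, 2, 1], List.map (fun l => (nth 0 l 0, nth 0 l 1,
    l.drop 2)) (List.map (unz 4) [0x22b48, 0x450e46, 0x438d263, 0xc6287e5])⟩]⟩

theorem G2_ceOK : G2_L.ceOK G2_ce = true := by decide +kernel

noncomputable def B2_10_ce : Ce := ⟨1, 2,
    (List.map (fun p : ℕ × ℕ × ℤ => (⟨[p.1], [p.2.1], [(p.2.2, 1, [])]⟩ : Blk)) (List.zip (unp 2 0x2a9) (List.zip
    (unp 2 0x2a9) (unz 2 0x2a73)))) ++ []⟩

theorem B2_10_ceOK : B2_10_L.ceOK B2_10_ce = true := by decide +kernel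

noncomputable def A2_ce : Ce := ⟨1, 1,
    (List.map (fun p : ℕ × ℕ × ℤ => (⟨[p.1], [p.2.1], [(p.2.2, 1, [])]⟩ : Blk)) (List.zip (unp 2 0x2a9) (List.zip
    (unp 2 0x2a9) (unz 2 0xaaa)))) ++ []⟩

theorem A2_ceOK : A2_L.ceOK A2_ce = true := by decide +kernel

noncomputable def A2_10_ce : Ce := ⟨1, 1,
    (List.map (fun p : ℕ × ℕ × ℤ => (⟨[p.1], [p.2.1], [(p.2.2, 1, [])]⟩ : Blk)) (List.zip (unp 2 0x2a9) (List.zip
    (unp 2 0x2a9) (unz 2 0xaaa)))) ++ []⟩

theorem A2_10_ceOK : A2_10_L.ceOK A2_10_ce = true := by decide +kernel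

noncomputable def A1A1_ce : Ce := ⟨1, 1,
    (List.map (fun p : ℕ × ℕ × ℤ => (⟨[p.1], [p.2.1], [(p.2.2, 1, [])]⟩ : Blk)) (List.zip (unp 2 0x3aa9) (List.zip
    (unp 2 0x3aa9) (unz 2 0xaaaa)))) ++ []⟩

theorem A1A1_ceOK : A1A1_L.ceOK A1A1_ce = true := by decide +kernel

noncomputable def A1A1_10_ce : Ce := ⟨1, 1,
    (List.map (fun p : ℕ × ℕ × ℤ => (⟨[p.1], [p.2.1], [(p.2.2, 1, [])]⟩ : Blk)) (List.zip (unp 1 0xd) (List.zip
    (unp 1 0xd) (unz 2 0xaa)))) ++ []⟩

theorem A1A1_10_ceOK : A1A1_10_L.ceOK A1A1_10_ce = true := by decide +kernel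

noncomputable def B2_ce : Ce := ⟨2, 12,
    (List.map (fun p : ℕ × ℕ × ℤ => (⟨[p.1], [p.2.1], [(p.2.2, 1, [])]⟩ : Blk)) (List.zip (unp 2 0x71) (List.zip
    (unp 2 0x99) (unz 3 0xc5c5)))) ++ [⟨[1, 2, 4], [1, 2, 3], List.map (fun l => (nth 0 l 0, nth 0 l 1, l.drop 2))
    (List.map (unz 3) [0x964, 0x128e3, 0x99672])⟩]⟩

theorem B2_ceOK : B2_L.ceOK B2_ce = true := by decide +kernel

noncomputable def A2A1_ce : Ce := ⟨1, 1,
    (List.map (fun p : ℕ × ℕ × ℤ => (⟨[p.1], [p.2.1], [(p.2.2, 1, [])]⟩ : Blk)) (List.zip (unp 2 0xbcfaa9)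
    (List.zip (unp 2 0xbcfaa9) (unz 2 0xaaaaaa)))) ++ []⟩

theorem A2A1_ceOK : A2A1_L.ceOK A2A1_ce = true := by decide +kernel

noncomputable def A2A1_102_ce : Ce := ⟨1, 1,
    (List.map (fun p : ℕ × ℕ × ℤ => (⟨[p.1], [p.2.1], [(p.2.2, 1, [])]⟩ : Blk)) (List.zip (unp 2 0xbcfaa9)
    (List.zip (unp 2 0xbcfaa9) (unz 2 0xaaaaaa)))) ++ []⟩

theorem A2A1_102_ceOK : A2A1_102_L.ceOK A2A1_102_ce = true := by decide +kernel

noncomputable def F4_ce : Ce := ⟨24, 281211840,
    (List.map (fun p : ℕ × ℕ × ℤ => (⟨[p.1], [p.2.1], [(p.2.2, 1, [])]⟩ : Blk)) (List.zip (unp 3 0xb59d958d85f9a1)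
    (List.zip (unp 3 0x62dedad6d2cee41) (unz 5
    0x86179e03d0c2f3c07a185e780f430bcf01e86179e03d0c2f3c07a185e780f430bcf01e)))) ++ [⟨[4, 5, 8], [13, 14, 15],
    List.map (fun l => (nth 0 l 0, nth 0 l 1, l.drop 2)) (List.map (unz 5) [0x10a185e781d, 0x2183b2ca281b,
    0x430e1d965141a])⟩, ⟨[6, 7, 12], [16, 17, 18], List.map (fun l => (nth 0 l 0, nth 0 l 1, l.drop 2)) (List.map
    (unz 5) [0x10a185e781d, 0x2183b2ca281b, 0x430e1d965141a])⟩, ⟨[1, 2, 9, 10, 11, 13, 14, 20, 21, 23, 24], [11,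
    10, 9, 8, 7, 6, 5, 4, 3, 2, 1], List.map (fun l => (nth 0 l 0, nth 0 l 1, l.drop 2)) (List.map (unz 5)
    [0x850c2f3c1c, 0x10c1d965141a, 0x21870ecb28a19, 0x1850c1d965141a, 0x51c1e2c584b2ca297, 0x2c5c507076480d98a994,
    0x88d2489717931706848a13, 0x2e5a383f9685f960e51fffc11, 0x213403e280d34f92ec6a8d5c8c240f,
    0x1f9ac3533d8ba1b258cdb2f1209160150, 0x38f141c3070e2c5874702d965156])⟩]⟩

theorem F4_ceOK : F4_L.ceOK F4_ce = true := by decide +kernel

noncomputable def F4_3210_ce : Ce := ⟨12, 72864,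
    (List.map (fun p : ℕ × ℕ × ℤ => (⟨[p.1], [p.2.1], [(p.2.2, 1, [])]⟩ : Blk)) (List.zip (unp 3 0x44ef5291)
    (List.zip (unp 3 0xa9335291) (unz 5 0x8e5046394118e50251ca04a39409472812)))) ++ [⟨[4, 5, 6, 9, 10], [8, 7, 6,
    5, 4], List.map (fun l => (nth 0 l 0, nth 0 l 1, l.drop 2)) (List.map (unz 5) [0x857b810, 0x870e280d,
    0x24904b16409, 0x132c0b0dc6847, 0xc40c28504bdcb])⟩]⟩

theorem F4_3210_ceOK : F4_3210_L.ceOK F4_3210_ce = true := by decide +kernel

noncomputable def A3_ce : Ce := ⟨1, 1,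
    (List.map (fun p : ℕ × ℕ × ℤ => (⟨[p.1], [p.2.1], [(p.2.2, 1, [])]⟩ : Blk)) (List.zip (unp 2 0x4faa9) (List.zip
    (unp 2 0x4faa9) (unz 2 0xaaaaa)))) ++ []⟩

theorem A3_ceOK : A3_L.ceOK A3_ce = true := by decide +kernel

noncomputable def A3_210_ce : Ce := ⟨1, 1,
    (List.map (fun p : ℕ × ℕ × ℤ => (⟨[p.1], [p.2.1], [(p.2.2, 1, [])]⟩ : Blk)) (List.zip (unp 2 0x4faa9) (List.zip
    (unp 2 0x4faa9) (unz 2 0xaaaaa)))) ++ []⟩

theorem A3_210_ceOK : A3_210_L.ceOK A3_210_ce = true := by decide +kernel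

noncomputable def A1A1A1_ce : Ce := ⟨1, 1,
    (List.map (fun p : ℕ × ℕ × ℤ => (⟨[p.1], [p.2.1], [(p.2.2, 1, [])]⟩ : Blk)) (List.zip (unp 2 0x3fbbcfaa9)
    (List.zip (unp 2 0x3fbbcfaa9) (unz 2 0xaaaaaaaa)))) ++ []⟩

theorem A1A1A1_ceOK : A1A1A1_L.ceOK A1A1A1_ce = true := by decide +kernel

noncomputable def A1A1A1_021_ce : Ce := ⟨1, 1,
    (List.map (fun p : ℕ × ℕ × ℤ => (⟨[p.1], [p.2.1], [(p.2.2, 1, [])]⟩ : Blk)) (List.zip (unp 2 0x3aa9) (List.zip
    (unp 2 0x3aa9) (unz 2 0xaaaa)))) ++ []⟩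

theorem A1A1A1_021_ceOK : A1A1A1_021_L.ceOK A1A1A1_021_ce = true := by decide +kernel

noncomputable def A1A1A1_120_ce : Ce := ⟨1, 1,
    (List.map (fun p : ℕ × ℕ × ℤ => (⟨[p.1], [p.2.1], [(p.2.2, 1, [])]⟩ : Blk)) (List.zip (unp 1 0xd) (List.zip
    (unp 1 0xd) (unz 2 0xaa)))) ++ []⟩

theorem A1A1A1_120_ceOK : A1A1A1_120_L.ceOK A1A1A1_120_ce = true := by decide +kernel

noncomputable def D4_2130_ce : Ce := ⟨2, 12,
    (List.map (fun p : ℕ × ℕ × ℤ => (⟨[p.1], [p.2.1], [(p.2.2, 1, [])]⟩ : Blk)) (List.zip (unp 2 0x3aa9) (List.zip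
    (unp 2 0x3aa9) (unz 3 0xc5c5c5c5)))) ++ [⟨[4, 5, 6], [6, 5, 4], List.map (fun l => (nth 0 l 0, nth 0 l 1,
    l.drop 2)) (List.map (unz 3) [0x964, 0x98e3, 0x11ce72])⟩]⟩

theorem D4_2130_ceOK : D4_2130_L.ceOK D4_2130_ce = true := by decide +kernel

noncomputable def A4_ce : Ce := ⟨1, 1,
    (List.map (fun p : ℕ × ℕ × ℤ => (⟨[p.1], [p.2.1], [(p.2.2, 1, [])]⟩ : Blk)) (List.zip (unp 2 0x1bbcfaa9)
    (List.zip (unp 2 0x1bbcfaa9) (unz 2 0xaaaaaaa)))) ++ []⟩

theorem A4_ceOK : A4_L.ceOK A4_ce = true := by decide +kernel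

noncomputable def A4_3210_ce : Ce := ⟨1, 1,
    (List.map (fun p : ℕ × ℕ × ℤ => (⟨[p.1], [p.2.1], [(p.2.2, 1, [])]⟩ : Blk)) (List.zip (unp 2 0x1bbcfaa9)
    (List.zip (unp 2 0x1bbcfaa9) (unz 2 0xaaaaaaa)))) ++ []⟩

theorem A4_3210_ceOK : A4_3210_L.ceOK A4_3210_ce = true := by decide +kernel

noncomputable def A2A1A1_ce : Ce := ⟨1, 1,
    (List.map (fun p : ℕ × ℕ × ℤ => (⟨[p.1], [p.2.1], [(p.2.2, 1, [])]⟩ : Blk)) (List.zip (unp 3
    0x2e549913bceb8f5291) (List.zip (unp 3 0x2e549913bceb8f5291) (unz 2 0xaaaaaaaaaaaa)))) ++ []⟩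

theorem A2A1A1_ceOK : A2A1A1_L.ceOK A2A1A1_ce = true := by decide +kernel

noncomputable def A2A1A1_0132_ce : Ce := ⟨1, 1,
    (List.map (fun p : ℕ × ℕ × ℤ => (⟨[p.1], [p.2.1], [(p.2.2, 1, [])]⟩ : Blk)) (List.zip (unp 2 0xbcfaa9)
    (List.zip (unp 2 0xbcfaa9) (unz 2 0xaaaaaa)))) ++ []⟩

theorem A2A1A1_0132_ceOK : A2A1A1_0132_L.ceOK A2A1A1_0132_ce = true := by decide +kernel

noncomputable def A2A1A1_1023_ce : Ce := ⟨1, 1,
    (List.map (fun p : ℕ × ℕ × ℤ => (⟨[p.1], [p.2.1], [(p.2.2, 1, [])]⟩ : Blk)) (List.zip (unp 3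
    0x2e549913bceb8f5291) (List.zip (unp 3 0x2e549913bceb8f5291) (unz 2 0xaaaaaaaaaaaa)))) ++ []⟩

theorem A2A1A1_1023_ceOK : A2A1A1_1023_L.ceOK A2A1A1_1023_ce = true := by decide +kernel

noncomputable def A2A1A1_1032_ce : Ce := ⟨1, 1,
    (List.map (fun p : ℕ × ℕ × ℤ => (⟨[p.1], [p.2.1], [(p.2.2, 1, [])]⟩ : Blk)) (List.zip (unp 2 0xbcfaa9)
    (List.zip (unp 2 0xbcfaa9) (unz 2 0xaaaaaa)))) ++ []⟩

theorem A2A1A1_1032_ceOK : A2A1A1_1032_L.ceOK A2A1A1_1032_ce = true := by decide +kernel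

noncomputable def A3A1_ce : Ce := ⟨1, 1,
    (List.map (fun p : ℕ × ℕ × ℤ => (⟨[p.1], [p.2.1], [(p.2.2, 1, [])]⟩ : Blk)) (List.zip (unp 3 0x9913bceb8f5291)
    (List.zip (unp 3 0x9913bceb8f5291) (unz 2 0xaaaaaaaaaa)))) ++ []⟩

theorem A3A1_ceOK : A3A1_L.ceOK A3A1_ce = true := by decide +kernel

noncomputable def A3A1_2103_ce : Ce := ⟨1, 1,
    (List.map (fun p : ℕ × ℕ × ℤ => (⟨[p.1], [p.2.1], [(p.2.2, 1, [])]⟩ : Blk)) (List.zip (unp 3 0x9913bceb8f5291)
    (List.zip (unp 3 0x9913bceb8f5291) (unz 2 0xaaaaaaaaaa)))) ++ []⟩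

theorem A3A1_2103_ceOK : A3A1_2103_L.ceOK A3A1_2103_ce = true := by decide +kernel

noncomputable def D4_ce : Ce := ⟨2, 12,
    (List.map (fun p : ℕ × ℕ × ℤ => (⟨[p.1], [p.2.1], [(p.2.2, 1, [])]⟩ : Blk)) (List.zip (unp 3 0x2a4c89de75c7a91)
    (List.zip (unp 3 0x192e549913bceb91) (unz 3 0xc5c5c5c5c5c5c5c5c5c5)))) ++ [⟨[2, 11, 12], [2, 3, 4], List.map
    (fun l => (nth 0 l 0, nth 0 l 1, l.drop 2)) (List.map (unz 3) [0x964, 0x128e3, 0x94e72])⟩]⟩

theorem D4_ceOK : D4_L.ceOK D4_ce = true := by decide +kernel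

noncomputable def D4_0132_ce : Ce := ⟨2, 12,
    (List.map (fun p : ℕ × ℕ × ℤ => (⟨[p.1], [p.2.1], [(p.2.2, 1, [])]⟩ : Blk)) (List.zip (unp 2 0x1bbcea9)
    (List.zip (unp 3 0x89de7291) (unz 3 0xc5c5c5c5c5c5)))) ++ [⟨[3, 7, 8], [3, 4, 5], List.map (fun l => (nth 0 l
    0, nth 0 l 1, l.drop 2)) (List.map (unz 3) [0x964, 0x98e3, 0x4ce72])⟩]⟩

theorem D4_0132_ceOK : D4_0132_L.ceOK D4_0132_ce = true := by decide +kernel

noncomputable def D5_ce : Ce := ⟨2, 12,
    (List.map (fun p : ℕ × ℕ × ℤ => (⟨[p.1], [p.2.1], [(p.2.2, 1, [])]⟩ : Blk)) (List.zip (unp 3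
    0x2361764cb913b8f5291) (List.zip (unp 3 0x46c2fce9b325c8f5291) (unz 3 0xc5c5c5c5c5c5c5c5c5c5c5c5)))) ++ [⟨[5,
    10, 14], [5, 6, 7], List.map (fun l => (nth 0 l 0, nth 0 l 1, l.drop 2)) (List.map (unz 3) [0x964, 0x128e3,
    0x94e72])⟩, ⟨[6, 12, 15], [8, 9, 10], List.map (fun l => (nth 0 l 0, nth 0 l 1, l.drop 2)) (List.map (unz 3)
    [0x964, 0x128e3, 0x94e72])⟩]⟩

theorem D5_ceOK : D5_L.ceOK D5_ce = true := by decide +kernel

noncomputable def D5_01243_ce : Ce := ⟨2, 12,
    (List.map (fun p : ℕ × ℕ × ℤ => (⟨[p.1], [p.2.1], [(p.2.2, 1, [])]⟩ : Blk)) (List.zip (unp 3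
    0x1f3a5ca9322779c7a91) (List.zip (unp 3 0x23617e74d992e54ceb91) (unz 3 0xc5c5c5c5c5c5c5c5c5c5c5c5)))) ++ [⟨[2,
    12, 16], [2, 3, 4], List.map (fun l => (nth 0 l 0, nth 0 l 1, l.drop 2)) (List.map (unz 3) [0x964, 0x128e3,
    0x99672])⟩, ⟨[5, 13, 17], [7, 8, 9], List.map (fun l => (nth 0 l 0, nth 0 l 1, l.drop 2)) (List.map (unz 3)
    [0x964, 0x128e3, 0x99672])⟩]⟩

theorem D5_01243_ceOK : D5_01243_L.ceOK D5_01243_ce = true := by decide +kernel

noncomputable def A4A1_ce : Ce := ⟨1, 1,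
    (List.map (fun p : ℕ × ℕ × ℤ => (⟨[p.1], [p.2.1], [(p.2.2, 1, [])]⟩ : Blk)) (List.zip (unp 3
    0xd992e549913bceb8f5291) (List.zip (unp 3 0xd992e549913bceb8f5291) (unz 2 0xaaaaaaaaaaaaaa)))) ++ []⟩

theorem A4A1_ceOK : A4A1_L.ceOK A4A1_ce = true := by decide +kernel

noncomputable def A4A1_32104_ce : Ce := ⟨1, 1,
    (List.map (fun p : ℕ × ℕ × ℤ => (⟨[p.1], [p.2.1], [(p.2.2, 1, [])]⟩ : Blk)) (List.zip (unp 3
    0xd992e549913bceb8f5291) (List.zip (unp 3 0xd992e549913bceb8f5291) (unz 2 0xaaaaaaaaaaaaaa)))) ++ []⟩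

theorem A4A1_32104_ceOK : A4A1_32104_L.ceOK A4A1_32104_ce = true := by decide +kernel

noncomputable def A2A2_ce : Ce := ⟨1, 1,
    (List.map (fun p : ℕ × ℕ × ℤ => (⟨[p.1], [p.2.1], [(p.2.2, 1, [])]⟩ : Blk)) (List.zip (unp 3 0x113bceb8f5291)
    (List.zip (unp 3 0x113bceb8f5291) (unz 2 0xaaaaaaaaa)))) ++ []⟩

theorem A2A2_ceOK : A2A2_L.ceOK A2A2_ce = true := by decide +kernel

noncomputable def A2A2_0132_ce : Ce := ⟨1, 1,
    (List.map (fun p : ℕ × ℕ × ℤ => (⟨[p.1], [p.2.1], [(p.2.2, 1, [])]⟩ : Blk)) (List.zip (unp 3 0x113bceb8f5291)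
    (List.zip (unp 3 0x113bceb8f5291) (unz 2 0xaaaaaaaaa)))) ++ []⟩

theorem A2A2_0132_ceOK : A2A2_0132_L.ceOK A2A2_0132_ce = true := by decide +kernel

noncomputable def A2A2_1032_ce : Ce := ⟨1, 1,
    (List.map (fun p : ℕ × ℕ × ℤ => (⟨[p.1], [p.2.1], [(p.2.2, 1, [])]⟩ : Blk)) (List.zip (unp 3 0x113bceb8f5291)
    (List.zip (unp 3 0x113bceb8f5291) (unz 2 0xaaaaaaaaa)))) ++ []⟩

theorem A2A2_1032_ceOK : A2A2_1032_L.ceOK A2A2_1032_ce = true := by decide +kernel

noncomputable def A2A2_2301_ce : Ce := ⟨1, 1,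
    (List.map (fun p : ℕ × ℕ × ℤ => (⟨[p.1], [p.2.1], [(p.2.2, 1, [])]⟩ : Blk)) (List.zip (unp 2 0x2a9) (List.zip
    (unp 2 0x2a9) (unz 2 0xaaa)))) ++ []⟩

theorem A2A2_2301_ceOK : A2A2_2301_L.ceOK A2A2_2301_ce = true := by decide +kernel

noncomputable def A2A2_2310_ce : Ce := ⟨1, 1,
    (List.map (fun p : ℕ × ℕ × ℤ => (⟨[p.1], [p.2.1], [(p.2.2, 1, [])]⟩ : Blk)) (List.zip (unp 2 0x2a9) (List.zip
    (unp 2 0x2a9) (unz 2 0xaaa)))) ++ []⟩

theorem A2A2_2310_ceOK : A2A2_2310_L.ceOK A2A2_2310_ce = true := by decide +kernel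

noncomputable def A2A2A1_ce : Ce := ⟨1, 1,
    (List.map (fun p : ℕ × ℕ × ℤ => (⟨[p.1], [p.2.1], [(p.2.2, 1, [])]⟩ : Blk)) (List.zip (unp 3
    0x23617e74d992e549913bceb8f5291) (List.zip (unp 3 0x23617e74d992e549913bceb8f5291) (unz 2
    0xaaaaaaaaaaaaaaaaaa)))) ++ []⟩

theorem A2A2A1_ceOK : A2A2A1_L.ceOK A2A2A1_ce = true := by decide +kernel

noncomputable def A2A2A1_01324_ce : Ce := ⟨1, 1,
    (List.map (fun p : ℕ × ℕ × ℤ => (⟨[p.1], [p.2.1], [(p.2.2, 1, [])]⟩ : Blk)) (List.zip (unp 3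
    0x23617e74d992e549913bceb8f5291) (List.zip (unp 3 0x23617e74d992e549913bceb8f5291) (unz 2
    0xaaaaaaaaaaaaaaaaaa)))) ++ []⟩

theorem A2A2A1_01324_ceOK : A2A2A1_01324_L.ceOK A2A2A1_01324_ce = true := by decide +kernel

noncomputable def A2A2A1_10324_ce : Ce := ⟨1, 1,
    (List.map (fun p : ℕ × ℕ × ℤ => (⟨[p.1], [p.2.1], [(p.2.2, 1, [])]⟩ : Blk)) (List.zip (unp 3
    0x23617e74d992e549913bceb8f5291) (List.zip (unp 3 0x23617e74d992e549913bceb8f5291) (unz 2
    0xaaaaaaaaaaaaaaaaaa)))) ++ []⟩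

theorem A2A2A1_10324_ceOK : A2A2A1_10324_L.ceOK A2A2A1_10324_ce = true := by decide +kernel

noncomputable def A2A2A1_23014_ce : Ce := ⟨1, 1,
    (List.map (fun p : ℕ × ℕ × ℤ => (⟨[p.1], [p.2.1], [(p.2.2, 1, [])]⟩ : Blk)) (List.zip (unp 2 0xbcfaa9)
    (List.zip (unp 2 0xbcfaa9) (unz 2 0xaaaaaa)))) ++ []⟩

theorem A2A2A1_23014_ceOK : A2A2A1_23014_L.ceOK A2A2A1_23014_ce = true := by decide +kernel

noncomputable def A2A2A1_23104_ce : Ce := ⟨1, 1,
    (List.map (fun p : ℕ × ℕ × ℤ => (⟨[p.1], [p.2.1], [(p.2.2, 1, [])]⟩ : Blk)) (List.zip (unp 2 0xbcfaa9)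
    (List.zip (unp 2 0xbcfaa9) (unz 2 0xaaaaaa)))) ++ []⟩

theorem A2A2A1_23104_ceOK : A2A2A1_23104_L.ceOK A2A2A1_23104_ce = true := by decide +kernel

noncomputable def A5_ce : Ce := ⟨1, 1,
    (List.map (fun p : ℕ × ℕ × ℤ => (⟨[p.1], [p.2.1], [(p.2.2, 1, [])]⟩ : Blk)) (List.zip (unp 3
    0x54ef3ae647135291) (List.zip (unp 3 0x549913bceb8f5291) (unz 2 0xaaaaaaaaaaa)))) ++ []⟩

theorem A5_ceOK : A5_L.ceOK A5_ce = true := by decide +kernel

noncomputable def A5_43210_ce : Ce := ⟨1, 1,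
    (List.map (fun p : ℕ × ℕ × ℤ => (⟨[p.1], [p.2.1], [(p.2.2, 1, [])]⟩ : Blk)) (List.zip (unp 3
    0x54999c4afb8f5291) (List.zip (unp 3 0x549913bceb8f5291) (unz 2 0xaaaaaaaaaaa)))) ++ []⟩

theorem A5_43210_ceOK : A5_43210_L.ceOK A5_43210_ce = true := by decide +kernel

noncomputable def E6_ce : Ce := ⟨6, 72,
    (List.map (fun p : ℕ × ℕ × ℤ => (⟨[p.1], [p.2.1], [(p.2.2, 1, [])]⟩ : Blk)) (List.zip (unp 3
    0x2f6d6967657642e4b9335291) (List.zip (unp 3 0x18b7b6b5b4b3b2b1b0bf35291) (unz 4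
    0x908908908908908908908908908908908908908908)))) ++ [⟨[5, 6, 14], [9, 10, 11], List.map (fun l => (nth 0 l 0,
    nth 0 l 1, l.drop 2)) (List.map (unz 3) [0x4a47, 0x4a3c5, 0x2539e4])⟩, ⟨[7, 8, 15], [12, 13, 14], List.map (fun
    l => (nth 0 l 0, nth 0 l 1, l.drop 2)) (List.map (unz 3) [0x4a47, 0x4a3c5, 0x2659e4])⟩, ⟨[4, 10, 17, 21, 24],
    [8, 7, 6, 5, 4], List.map (fun l => (nth 0 l 0, nth 0 l 1, l.drop 2)) (List.map (unz 3) [0x4a47, 0xca47,
    0x266395, 0x4c86395, 0x158ca5123])⟩]⟩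

theorem E6_ceOK : E6_L.ceOK E6_ce = true := by decide +kernel

noncomputable def E6_514320_ce : Ce := ⟨6, 72,
    (List.map (fun p : ℕ × ℕ × ℤ => (⟨[p.1], [p.2.1], [(p.2.2, 1, [])]⟩ : Blk)) (List.zip (unp 3
    0x316f65636a42ccf9de75c7a1) (List.zip (unp 3 0x18b7b6b5b4b3b2b92e549913b1) (unz 4
    0x908908908908908908908908908908908908908908)))) ++ [⟨[1, 14, 20], [3, 2, 1], List.map (fun l => (nth 0 l 0,
    nth 0 l 1, l.drop 2)) (List.map (unz 3) [0x4a47, 0x263c5, 0x4739e4])⟩, ⟨[2, 13, 19], [4, 5, 6], List.map (fun l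
    => (nth 0 l 0, nth 0 l 1, l.drop 2)) (List.map (unz 3) [0x4a47, 0x263c5, 0x1339e4])⟩, ⟨[8, 11, 12, 21, 22],
    [17, 16, 15, 14, 13], List.map (fun l => (nth 0 l 0, nth 0 l 1, l.drop 2)) (List.map (unz 3) [0x4a47, 0xca47,
    0x266395, 0x4a46395, 0xcc665123])⟩]⟩

theorem E6_514320_ceOK : E6_514320_L.ceOK E6_514320_ce = true := by decide +kernel

/-- the certificates for `E6_Ls` -/
noncomputable def E6_ces : List Ce :=
    [T0_ce, A1_ce, A1A1_ce, A1A1_10_ce, A2_ce, A2_10_ce, A2A1_ce, A2A1_102_ce, A3_ce, A3_210_ce, A4_ce, A4_3210_ce,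
    A1A1A1_ce, A1A1A1_021_ce, A1A1A1_120_ce, A2A1A1_ce, A2A1A1_0132_ce, A2A1A1_1023_ce, A2A1A1_1032_ce, A3A1_ce,
    A3A1_2103_ce, D4_ce, D4_0132_ce, D4_2130_ce, D5_ce, D5_01243_ce, A4A1_ce, A4A1_32104_ce, A2A2_ce, A2A2_0132_ce,
    A2A2_1032_ce, A2A2_2301_ce, A2A2_2310_ce, A2A2A1_ce, A2A2A1_01324_ce, A2A2A1_10324_ce, A2A2A1_23014_ce,
    A2A2A1_23104_ce, A5_ce, A5_43210_ce]

theorem E6_ces_ok : List.Forall₂ (fun (L : Lat) c => L.ceOK c = true) E6_Ls E6_ces :=
    (List.Forall₂.cons T0_ceOK (List.Forall₂.cons A1_ceOK (List.Forall₂.cons A1A1_ceOK (List.Forall₂.cons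
    A1A1_10_ceOK (List.Forall₂.cons A2_ceOK (List.Forall₂.cons A2_10_ceOK (List.Forall₂.cons A2A1_ceOK
    (List.Forall₂.cons A2A1_102_ceOK (List.Forall₂.cons A3_ceOK (List.Forall₂.cons A3_210_ceOK (List.Forall₂.cons
    A4_ceOK (List.Forall₂.cons A4_3210_ceOK (List.Forall₂.cons A1A1A1_ceOK (List.Forall₂.cons A1A1A1_021_ceOK
    (List.Forall₂.cons A1A1A1_120_ceOK (List.Forall₂.cons A2A1A1_ceOK (List.Forall₂.cons A2A1A1_0132_ceOK
    (List.Forall₂.cons A2A1A1_1023_ceOK (List.Forall₂.cons A2A1A1_1032_ceOK (List.Forall₂.cons A3A1_ceOK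
    (List.Forall₂.cons A3A1_2103_ceOK (List.Forall₂.cons D4_ceOK (List.Forall₂.cons D4_0132_ceOK (List.Forall₂.cons
    D4_2130_ceOK (List.Forall₂.cons D5_ceOK (List.Forall₂.cons D5_01243_ceOK (List.Forall₂.cons A4A1_ceOK
    (List.Forall₂.cons A4A1_32104_ceOK (List.Forall₂.cons A2A2_ceOK (List.Forall₂.cons A2A2_0132_ceOK
    (List.Forall₂.cons A2A2_1032_ceOK (List.Forall₂.cons A2A2_2301_ceOK (List.Forall₂.cons A2A2_2310_ceOK
    (List.Forall₂.cons A2A2A1_ceOK (List.Forall₂.cons A2A2A1_01324_ceOK (List.Forall₂.cons A2A2A1_10324_ceOK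
    (List.Forall₂.cons A2A2A1_23014_ceOK (List.Forall₂.cons A2A2A1_23104_ceOK (List.Forall₂.cons A5_ceOK
    (List.Forall₂.cons A5_43210_ceOK List.Forall₂.nil))))))))))))))))))))))))))))))))))))))))


end Cfsg.Agent.LV.W
end

private theorem dce_fa345f174d36 : _root_.True := by
  try have : _root_.True := by simp only [_root_.Cfsg.Agent.LV.Enum.addL.eq_def]
  try have : _root_.True := by simp only [_root_.Cfsg.Agent.LV.Enum.dfs.eq_2]
  try have : _root_.True := by simp only [_root_.Cfsg.Agent.LV.Enum.dfs.eq_def]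
  try have : _root_.True := by simp only [_root_.Cfsg.Agent.LV.Enum.addL.eq_3]
  try have : _root_.True := by simp only [_root_.Cfsg.Agent.LV.Enum.fl.eq_def]
  try have : _root_.True := by simp only [_root_.Cfsg.Agent.LV.W.Lat.a.eq_1]
  try have : _root_.True := by simp only [_root_.Cfsg.Agent.LV.Enum.dt.eq_def]
  try have : _root_.True := by simp only [_root_.Cfsg.Agent.LV.Enum.ldl.eq_def]
  try have : _root_.True := by simp only [_root_.Cfsg.Agent.LV.Enum.solve.eq_def]
  try have : _root_.True := by simp only [_root_.Cfsg.Agent.LV.Enum.ldl._sparseCasesOn_1.else_eq]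
  try have : _root_.True := by simp only [_root_.Cfsg.Agent.LV.Enum.enum.eq_1]
  try have : _root_.True := by simp only [_root_.Cfsg.Agent.LV.Enum.gram.eq_1]
  try have : _root_.True := by simp only [_root_.Cfsg.Agent.LV.Enum.scan.eq_1]
  try have : _root_.True := by simp only [_root_.Cfsg.Agent.LV.Enum.comb.eq_1]
  try have : _root_.True := by simp only [_root_.Cfsg.Agent.LV.Enum.scan.eq_def]
  try have : _root_.True := by simp only [_root_.Cfsg.Agent.LV.Enum.comb.eq_def]
  try have : _root_.True := by simp only [_root_.Cfsg.Agent.LV.Enum.gram.eq_2]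
  try have : _root_.True := by simp only [_root_.Cfsg.Agent.LV.W.Lat.fR.eq_1]
  try have : _root_.True := by simp only [_root_.Cfsg.Agent.LV.Enum.dot.eq_def]
  try have : _root_.True := by simp only [_root_.Cfsg.Agent.LV.W.Lat.enum.eq_1]
  try have : _root_.True := by simp only [_root_.Cfsg.Agent.LV.Enum.dfs.eq_1]
  try have : _root_.True := by simp only [_root_.Cfsg.Agent.LV.Enum.addL.eq_2]
  try have : _root_.True := by simp only [_root_.Cfsg.Agent.LV.W.Lat.ceOK.eq_1]
  try have : _root_.True := by simp only [_root_.Cfsg.Agent.LV.W.Lat.num.eq_1]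
  try have : _root_.True := by simp only [_root_.Cfsg.Agent.LV.Enum.dt._sparseCasesOn_1.else_eq]
  try have : _root_.True := by simp only [_root_.Cfsg.Agent.LV.W.Lat.blkOK.eq_1]
  try have : _root_.True := by simp only [_root_.Cfsg.Agent.LV.Enum.addL.eq_1]
  try have : _root_.True := by simp only [_root_.Cfsg.Agent.LV.W.accum.eq_1]
  try have : _root_.True := by simp only [_root_.Cfsg.Agent.LV.Enum.dense.eq_def]
  try have : _root_.True := by simp only [_root_.Cfsg.Agent.LV.Enum.Q.eq_1]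
  try have : _root_.True := by simp only [_root_.Cfsg.Agent.LV.W.Lat.uu.eq_1]
  try have : _root_.True := by simp only [_root_.Cfsg.Agent.LV.Enum.gram.eq_def]
  try have : _root_.True := by simp only [_root_.Cfsg.Agent.LV.Enum.comb.eq_2]
  try have : _root_.True := by simp only [_root_.Cfsg.Agent.LV.Enum.scan.eq_2]
  try have : _root_.True := by simp only [_root_.Cfsg.Agent.LV.W.Lat.nrm.eq_1]
  try have : _root_.True := by simp only [_root_.Cfsg.Agent.LV.Enum.chk.eq_1]
  try have : _root_.True := by simp only [_root_.Cfsg.Agent.LV.Enum.ldl.eq_1]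
  try have : _root_.True := by simp only [_root_.Cfsg.Agent.LV.Enum.fl.eq_1]
  try have : _root_.True := by simp only [_root_.Cfsg.Agent.LV.Enum.dense.eq_2]
  try have : _root_.True := by simp only [_root_.Cfsg.Agent.LV.Enum.ldl.eq_2]
  try have : _root_.True := by simp only [_root_.Cfsg.Agent.LV.Enum.dense.eq_1]
  try have : _root_.True := by simp only [_root_.Cfsg.Agent.LV.Enum.fl.eq_2]
  exact _root_.True.intro
end
end
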