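import Cfsg.Agent.LV.Cl.Em
import Cfsg.Agent.H614.Degree
import Cfsg.Agent.Characters.Central
import Cfsg.Agent.LV.Cl.Conj_m3
import Cfsg.Agent.FastGrp
import Cfsg.Agent.Prune
set_option linter.all false

section
prune_inst 0x7fbdfff83fa9e1dfffff7fbffed3dff811a0afffa6ffff43ffe96bbfcb9f0f211fc56b871df050fe9e57e0b454b87b03fb7eaffee829dc7ffffdf7b01ffbee0fa5e73508519c9cb00e200ffe83f3670a6f3ffcff77fffffffffffffffffffffffffdebfeffff

-- part: LV/Cl/DefsT_mg
section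
prune_inst 0x80000e2000000000002c00046000000000000030000004000040700080209400620b080041200d0200440050008110000400200000000844000011801a08020100410004119e2000100010a410000300880000000000000000000000000014010000
set_option linter.all false
open scoped Cfsg.Agent.FastGrp

-- part: LV/Cl/DefsT
section
/-!
# LV, classical groups: the chain with the case of equality (helper50)
-/

set_option autoImplicit false
set_option linter.unusedSectionVars false
set_option linter.dupNamespace false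

namespace Cfsg.Agent.LV.Cl

open Equiv Finset Cfsg.Agent.Tits.Core

/-- `BoxChain`, and in the case of equality of the norms the formula holds on the whole coset -/
def BoxChainT : Prop :=
  ∀ {I W : Type} {M : CoxeterMatrix I} [Group W] {cs : CoxeterSystem M W} [Fintype W] {ψ : MulAut W} {n : ℕ} {b : Bool}
    (E : Em cs ψ n b) (k : ℕ), k ≤ n → ∀ (w : W) (y : W → ℂ), Stab (Tk n k) (E.g w).π → T.Lv cs ψ (E.J k) w y →
    E.Inv (E.J k) w y → ∃ a : Bip → ℂ, Dual b k (E.ε k w) a ∧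
      (b = false → 1 ≤ k → ∀ i ∈ bips k, a (i.2, i.1) = ((E.ε k w : ℤ) : ℂ) * a i) ∧ ix b k * nr k a ≤ E.N (E.J k) w y ∧
      (∀ x ∈ WJ cs (E.J k), E.Fine k (x * w) → y (x * w) = cf (Tk n k) a (E.g (x * w))) ∧
      (b = false → E.ε k w = 1 → ∀ j, k = 2 * j → ix b k * nr k a = E.N (E.J k) w y → Dual2 j a) ∧
      (ix b k * nr k a = E.N (E.J k) w y → ∀ x ∈ WJ cs (E.J k), y (x * w) = cf (Tk n k) a (E.g (x * w)))

theorem BoxChainT.chain (h : BoxChainT) : BoxChain := fun E k hk w y h1 h2 h3 =>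
  let ⟨a, h4, h5, h6, h7, h8, _⟩ := h E k hk w y h1 h2 h3
  ⟨a, h4, h5, h6, h7, h8⟩

theorem card_Tk {n k : ℕ} (h : k ≤ n) : #(Tk n k) = k := by
  have : Tk n k = Finset.univ.image fun i : Fin k => (⟨n - k + i, by omega⟩ : Fin n) := by
    ext x
    simp only [Tk, mem_filter, mem_univ, true_and, mem_image]
    exact ⟨fun hx => ⟨⟨x - (n - k), by omega⟩, Fin.ext (by simp only; omega)⟩, by rintro ⟨i, rfl⟩; simp only; omega⟩
  rw [this, card_image_of_injective _ fun i j e => Fin.ext (by have := congrArg Fin.val e; simp only at this; omega)]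
  simp only [_root_.Finset.card_univ, _root_.Fintype.card_fin]

theorem Tk_self (n : ℕ) : Tk n n = univ := by
  ext x
  simp only [Tk, _root_.le_add_iff_nonneg_left, _root_.zero_le, _root_.Finset.filter_true, _root_.Finset.mem_univ]

theorem stab_of_maps {n : ℕ} {T : Finset (Fin n)} {π : Perm (Fin n)} (h : ∀ x ∈ T, π x ∈ T) : Stab T π := fun x =>
  ⟨fun hx => by
    have h1 : T.image π = T := eq_of_subset_of_card_le (fun y hy => by
      obtain ⟨z, hz, rfl⟩ := mem_image.1 hy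
      exact h z hz) (card_image_of_injective _ π.injective).ge
    obtain ⟨z, hz, e⟩ := mem_image.1 (h1.symm ▸ hx)
    exact π.injective e ▸ hz, h x⟩

theorem HasTy.stab {n : ℕ} {g : SG n} {L : List (ℕ × ℤˣ)} {T : Finset (Fin n)} (h : HasTy g T L) : Stab T g.π := by
  refine stab_of_maps ?_
  induction L generalizing T with
  | nil => simp [show T = ∅ from h]
  | cons c L ih =>
    obtain ⟨x, -, h1, -, -, h2⟩ := h
    intro y hy
    by_cases e : y ∈ cyc g.π x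
    · refine h1 ?_
      simp only [cyc, mem_filter, mem_univ, true_and] at e ⊢
      exact e.apply_right
    · exact (mem_sdiff.1 (ih h2 y (mem_sdiff.2 ⟨hy, e⟩))).1

theorem cf_eq (h : BoxMN) {n : ℕ} {g : SG n} {L : List (ℕ × ℤˣ)} {T : Finset (Fin n)} (hT : #T ≤ 10) (hL : HasTy g T L)
    (a : Bip → ℂ) : cf T a g = pr #T a (val L) :=
  congrArg List.sum (List.map_congr_left fun i hi => by rw [(h T g hT hL.stab).2.1 L hL i hi])

end Cfsg.Agent.LV.Cl
end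

-- part: LV/Cl/Avg
section
/-!
# LV, classical groups: the average over a union of components (helper8)
-/

set_option autoImplicit false
set_option linter.unusedSectionVars false
set_option linter.dupNamespace false

namespace Cfsg.Agent.LV.Cl

open CoxeterSystem Cfsg.Agent.Tits.Exchange Cfsg.Agent.Tits.Core Cfsg.Agent.LV.T

namespace Avg

variable {I W : Type} {M : CoxeterMatrix I} [Group W] {cs : CoxeterSystem M W} [Fintype W] {ψ : MulAut W}
  {J K : Set I} {w : W} {y : W → ℂ}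

/-- `W_K` is normal in `W_J` -/
theorem conj_mem (h : ∀ i ∈ K, ∀ j ∈ J, j ∉ K → Commute (cs.simple i) (cs.simple j)) {u x : W} (hu : u ∈ WJ cs J)
    (hx : x ∈ WJ cs K) : u * x * u⁻¹ ∈ WJ cs K := by
  obtain ⟨ω, h1, rfl⟩ := exists_word_of_mem_WJ cs hu
  clear hu
  induction ω with
  | nil => simpa using hx
  | cons j ω ih =>
    have h2 := ih fun i hi => h1 i (by simp [hi])
    rw [wordProd_cons, mul_inv_rev, mul_assoc (cs.simple j), mul_assoc (cs.simple j), ← mul_assoc (_ * x), ← mul_assoc]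
    by_cases hj : j ∈ K
    · exact mul_mem (mul_mem (simple_mem_WJ cs hj) h2) (inv_mem (simple_mem_WJ cs hj))
    · have h3 : WJ cs K ≤ Subgroup.centralizer {cs.simple j} := by
        refine (Subgroup.closure_le _).2 ?_
        rintro _ ⟨i, hi, rfl⟩ _ rfl
        exact (h i hi j (h1 j (by simp)) hj).symm.eq
      rwa [h3 h2 _ rfl, mul_inv_cancel_right]

/-- the shortest element of the coset is a node -/
theorem exists_node' (hψ : Aut cs ψ) (hK : K ⊆ J) (h : ∀ i ∈ K, ∀ j ∈ J, j ∉ K → Commute (cs.simple i) (cs.simple j))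
    (hn : ∀ i ∈ K, w * ψ (cs.simple i) * w⁻¹ ∈ WJ cs K) : ∃ u ∈ WJ cs J, _root_.Cfsg.Agent.LV.T.Min cs J (u * w) ∧ Node cs ψ J K (u * w) := by
  obtain ⟨u, hu, v, rfl, hv⟩ := exists_isMinL cs J w
  refine ⟨u⁻¹, inv_mem hu, ?_⟩
  rw [inv_mul_cancel_left]
  obtain ⟨x, hx, h1, h2⟩ := exists_node (w := v) hψ fun i hi => by
    simpa only [mul_assoc, _root_.mul_inv_rev, _root_.inv_mul_cancel_left, _root_.inv_inv, _root_.inv_mul_cancel, _root_.mul_one] using conj_mem h (inv_mem hu) (hn i hi)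
  rw [IsMinL.unique cs (Min.mono hv hK) h1 hx rfl] at h2
  refine ⟨hv, hK, fun j hj => ?_, h2.nrm⟩
  by_cases e : j ∈ K
  · exact .inl e
  · exact .inr fun i hi => (h i hi j hj e).symm.eq

/-- the level projection without the hypothesis `Min` -/
theorem lev' (hψ : Aut cs ψ) (hy : Lv cs ψ J w y) (hK : K ⊆ J)
    (h : ∀ i ∈ K, ∀ j ∈ J, j ∉ K → Commute (cs.simple i) (cs.simple j))
    (hn : ∀ i ∈ K, w * ψ (cs.simple i) * w⁻¹ ∈ WJ cs K) (c : ℂ) : Lv cs ψ J w (T.lev cs K c y) := by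
  obtain ⟨u, hu, h1, h2⟩ := exists_node' hψ hK h hn
  have h3 := ((hy.mono le_rfl hu).lev hψ h1 h2 c).mono le_rfl (inv_mem hu)
  rwa [inv_mul_cancel_left] at h3

open Classical in
/-- (I3) for a decomposition into eigenfunctions, without the hypothesis `Min` -/
theorem level' (hψ : Aut cs ψ) (hy : Lv cs ψ J w y) (hK : K ⊆ J)
    (h : ∀ i ∈ K, ∀ j ∈ J, j ∉ K → Commute (cs.simple i) (cs.simple j))
    (hn : ∀ i ∈ K, w * ψ (cs.simple i) * w⁻¹ ∈ WJ cs K) {ι : Type} (s : Finset ι) (c : ι → ℂ) (f : ι → W → ℂ)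
    (hf : ∀ x ∈ WJ cs J, y (x * w) = ∑ i ∈ s, f i (x * w))
    (hc : ∀ i ∈ s, ∀ x ∈ WJ cs J, ∑ t ∈ rf cs K, f i (t * (x * w)) = c i * f i (x * w)) (c₀ : ℂ) :
    Lv cs ψ J w fun u => ∑ i ∈ s.filter (fun i => c i = c₀), f i u := by
  obtain ⟨u, hu, h1, h2⟩ := exists_node' hψ hK h hn
  have h3 := ((hy.mono le_rfl hu).level hψ h1 h2 s c f (fun x hx => by rw [← mul_assoc, hf _ (mul_mem hx hu)])
    (fun i hi x hx => by rw [← mul_assoc x, hc i hi _ (mul_mem hx hu)]) c₀).mono le_rfl (inv_mem hu)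
  rwa [inv_mul_cancel_left] at h3

open Classical in
theorem lev_eps {ε : ℤ} (hε : ε * ε = 1) (y : W → ℂ) (u : W) : T.lev cs K ((ε : ℂ) * (rf cs K).card) y u =
    (Nat.card (WJ cs K) : ℂ)⁻¹ * ∑ v with v ∈ WJ cs K, (ε : ℂ) ^ cs.length v * y (v * u) := by
  have hε' : (ε : ℂ) * ε = 1 := by exact_mod_cast hε
  have h3 := sum_aeval_cas (cs := cs) (K := K) (w := u) hε' (_root_.Cfsg.Agent.LV.T.lp cs K ((ε : ℂ) * (rf cs K).card)) y
  rw [lp_self, one_mul] at h3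
  have h4 : ∀ x : WJ cs K, (ε : ℂ) ^ cs.length (x : W) *
      Polynomial.aeval (cas cs K) (_root_.Cfsg.Agent.LV.T.lp cs K ((ε : ℂ) * (rf cs K).card)) y (x * u) =
        T.lev cs K ((ε : ℂ) * (rf cs K).card) y u := fun x => by
    have h5 := eq_of_extreme (ε := (ε : ℝ)) (by exact_mod_cast hε)
      (cas_lev (cs := cs) (K := K) (((ε : ℝ) : ℂ) * (rf cs K).card) y) x.2 u
    rw [Complex.ofReal_intCast] at h5
    rw [← LV.T.lev, h5, ← mul_assoc, ← mul_pow, hε', one_pow, one_mul]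
  simp only [h4, Finset.sum_const, Finset.card_univ, nsmul_eq_mul] at h3
  rw [Finset.sum_subtype (p := fun v => v ∈ WJ cs K) _ (fun v => by simp), ← h3, Nat.card_eq_fintype_card,
    inv_mul_cancel_left₀ (Nat.cast_ne_zero.2 Fintype.card_ne_zero)]

open Classical in
/-- the signed average over a union of components -/
theorem avg_eps (hψ : Aut cs ψ) (hy : Lv cs ψ J w y) (hK : K ⊆ J)
    (h : ∀ i ∈ K, ∀ j ∈ J, j ∉ K → Commute (cs.simple i) (cs.simple j))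
    (hn : ∀ i ∈ K, w * ψ (cs.simple i) * w⁻¹ ∈ WJ cs K) {ε : ℤ} (hε : ε * ε = 1) :
    Lv cs ψ J w fun u => (Nat.card (WJ cs K) : ℂ)⁻¹ * ∑ v with v ∈ WJ cs K, (ε : ℂ) ^ cs.length v * y (v * u) :=
  (lev' hψ hy hK h hn ((ε : ℂ) * (rf cs K).card)).congr fun _ _ => lev_eps hε y _

/-- the average over one simple reflection -/
theorem avg_one (hψ : Aut cs ψ) (hy : Lv cs ψ J w y) {i : I} (hi : i ∈ J)
    (h : ∀ j ∈ J, Commute (cs.simple i) (cs.simple j)) (hn : w * ψ (cs.simple i) = cs.simple i * w) :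
    Lv cs ψ J w fun u => (y u + y (cs.simple i * u)) / 2 := by
  classical
  have h1 : rf cs {i} = {cs.simple i} := by
    ext t
    rw [mem_rf, Finset.mem_singleton]
    refine ⟨fun ⟨h2, h3⟩ => ?_, fun e => e ▸ ⟨cs.isReflection_simple i, simple_mem_WJ cs rfl⟩⟩
    have h4 : ∀ x ∈ WJ cs {i}, x = 1 ∨ x = cs.simple i := fun x hx => by
      obtain ⟨ω, h5, rfl⟩ := exists_word_of_mem_WJ cs hx
      clear hx
      induction ω with
      | nil => exact .inl (by simp)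
      | cons j ω ih =>
        obtain rfl : j = i := h5 j (by simp)
        rcases ih fun j hj => h5 j (by simp [hj]) with e | e <;> simp [wordProd_cons, e]
    refine (h4 t h3).resolve_left fun e => ?_
    have h5 := h2.odd_length
    rw [e, cs.length_one] at h5
    exact absurd h5 (by decide)
  have h2 := level' hψ hy (K := {i}) (Set.singleton_subset_iff.2 hi) (fun a ha j hj _ => ha ▸ h j hj)
    (fun a ha => by rw [ha, hn, mul_inv_cancel_right]; exact simple_mem_WJ cs rfl) (Finset.univ : Finset Bool)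
    (fun b => if b then 1 else -1) (fun b u => if b then (y u + y (cs.simple i * u)) / 2 else (y u - y (cs.simple i * u)) / 2)
    (fun x _ => by simp; ring) (fun b _ x _ => by
      rw [h1, Finset.sum_singleton]
      cases b <;> simp only [_root_.Bool.false_eq_true, ↓ _root_.reduceIte, _root_.CoxeterSystem.simple_mul_simple_cancel_left, _root_.neg_mul, _root_.one_mul, _root_.ne_eq, _root_.OfNat.ofNat_ne_zero, _root_.not_false_eq_true, _root_.div_left_inj'] <;> ring) 1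
  refine h2.congr fun x _ => ?_
  have h3 : ¬ (-1 : ℂ) = 1 := by norm_num
  rw [Finset.sum_filter, Fintype.sum_bool]
  simp [h3]

end Avg

/-- **the average over a union of components** -/
theorem boxAvg : BoxAvg := by
  intro I W M _ cs _ ψ hψ J K w y hy hK h hn
  simpa only [_root_.Int.cast_one, _root_.one_pow, _root_.one_mul] using Avg.avg_eps hψ hy hK h (fun i hi => hn _ (simple_mem_WJ cs hi)) (ε := 1) rfl

end Cfsg.Agent.LV.Cl
end

-- part: LV/Cl/ChainA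
section
/-!
# LV, classical groups: the integrality along the chains (helper8)

`ChA.Ok E` collects the facts on the embedding; `ChA.dual_of_rep`, `ChA.dual2_of`.
-/

set_option autoImplicit false
set_option linter.unusedSectionVars false
set_option linter.dupNamespace false

namespace Cfsg.Agent.LV.Cl

open Equiv Finset CoxeterSystem Cfsg.Agent.Tits.Exchange Cfsg.Agent.Tits.Core

namespace ChA

section sg

variable {n : ℕ}

theorem tt_π (j : Fin n) : (tt j).π = 1 := rfl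

theorem tt_s (j x : Fin n) : (tt j).s x = if x = j then -1 else 1 := rfl

theorem sw_π (x y : Fin n) (e : ℤˣ) : (sw x y e).π = swap x y := rfl

theorem sw_s (x y : Fin n) (e : ℤˣ) (z : Fin n) : (sw x y e).s z = if z = x ∨ z = y then e else 1 := rfl

theorem tt_mul_tt (j : Fin n) : tt j * tt j = 1 := SG.ext (mul_one _) (funext fun _ => Int.units_mul_self _)

theorem tt_comm (i j : Fin n) : tt i * tt j = tt j * tt i := SG.ext rfl (funext fun _ => mul_comm _ _)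

theorem sgn_apply (g : SG n) : sgn g = ∏ j, g.s j := rfl

theorem sgn_sw {x y : Fin n} (h : x ≠ y) (e : ℤˣ) : sgn (sw x y e) = 1 := by
  rw [sgn_apply, ← prod_subset (f := (sw x y e).s) (subset_univ {x, y}) fun z _ hz => if_neg (by simpa using hz), prod_pair h]
  simp [sw_s]

theorem conj_sw (j : Fin n) {x y : Fin n} (h : x ≠ y) (e : ℤˣ) : ∃ e', tt j * sw x y e * tt j = sw x y e' := by
  refine ⟨if j = x ∨ j = y then -e else e, SG.ext (by simp [tt_π, sw_π]) (funext fun z => ?_)⟩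
  simp only [mul_s, tt_π, sw_π, tt_s, sw_s, Perm.one_apply, swap_apply_def]
  by_cases h1 : z = x <;> by_cases h2 : z = y <;> by_cases h3 : j = x <;> by_cases h4 : j = y <;> by_cases h5 : z = j <;>
    simp_all [eq_comm]

theorem sw_inj {x y x' y' : Fin n} {e e' : ℤˣ} (h : x < y) (h' : x' < y') (H : sw x y e = sw x' y' e') :
    x = x' ∧ y = y' ∧ e = e' := by
  have h1 : swap x y x = swap x' y' x := congrArg (fun g : SG n => g.π x) H
  have h2 : (sw x y e).s x = (sw x' y' e').s x := by rw [H]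
  rw [swap_apply_left, swap_apply_def] at h1
  rw [sw_s, sw_s, if_pos (.inl rfl)] at h2
  split_ifs at h1 with h3 h4
  · exact ⟨h3, h1, by rwa [if_pos (.inl h3)] at h2⟩
  · exact absurd (h4 ▸ h1 ▸ h') h.not_gt
  · exact absurd h1 h.ne'

theorem sw_ne_tt {x y z : Fin n} {e : ℤˣ} (h : x < y) : sw x y e ≠ tt z := fun H => by
  have h1 : swap x y x = x := congrArg (fun g : SG n => g.π x) H
  rw [swap_apply_left] at h1
  exact h.ne' h1

theorem tt_inj {x y : Fin n} (H : tt x = tt y) : x = y := by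
  have h1 : (tt x).s x = (tt y).s x := by rw [H]
  rw [tt_s, tt_s, if_pos rfl] at h1
  by_contra h
  rw [if_neg h] at h1
  exact absurd h1 (by decide)

theorem stab_mul {T : Finset (Fin n)} {h g : SG n} (hh : h ∈ On T) (hg : Stab T g.π) : Stab T (h * g).π := fun x => by
  rw [mul_π, Perm.mul_apply, ← hg x]
  refine ⟨fun h1 => by_contra fun h2 => h2 ((hh _ h2).1 ▸ h1), fun h1 => by_contra fun h2 => h2 ?_⟩
  rwa [← h.π.injective (hh _ h2).1] at h1

theorem conj_On {T : Finset (Fin n)} {h g : SG n} (hh : h ∈ On T) (hg : Stab T g.π) : g * h * g⁻¹ ∈ On T := fun j hj => by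
  have h1 : g.π⁻¹ j ∉ T := fun h2 => hj (by simpa using (hg _).2 h2)
  rw [mul_π, mul_π, mul_s, mul_s, inv_π, inv_s, Perm.mul_apply, Perm.mul_apply, (hh _ h1).1, (hh _ h1).2, mul_one,
    Int.units_mul_self]
  exact ⟨by simp, rfl⟩

/-- elements with disjoint supports commute -/
theorem comm_On {T : Finset (Fin n)} {h g : SG n} (hh : h ∈ On T) (hg : g ∈ On Tᶜ) : h * g = g * h := by
  have h1 := stab_mul hh (g := 1) fun _ => Iff.rfl
  have h2 := stab_mul hg (g := 1) fun _ => Iff.rfl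
  rw [mul_one] at h1 h2
  have h3 : ∀ j, (h * g).π j = (g * h).π j ∧ (h * g).s j = (g * h).s j := fun j => by
    simp only [mul_π, mul_s, Perm.mul_apply]
    by_cases hj : j ∈ T
    · have h4 := hg j (by simpa using hj)
      have h5 := hg (h.π j) (by simpa using (h1 j).2 hj)
      rw [h4.1, h4.2, h5.1, h5.2, mul_one, one_mul]
      exact ⟨rfl, rfl⟩
    · have h4 := hh j hj
      have h5 := hh (g.π j) (by simpa using (h2 j).2 (by simpa using hj))
      rw [h4.1, h4.2, h5.1, h5.2, mul_one, one_mul]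
      exact ⟨rfl, rfl⟩
  exact SG.ext (Equiv.ext fun j => (h3 j).1) (funext fun j => (h3 j).2)

theorem tt_comm_of {g : SG n} {j : Fin n} (h : g.π j = j) : tt j * g * tt j = g := by
  refine SG.ext (by simp [tt_π]) (funext fun z => ?_)
  simp only [mul_s, tt_π, tt_s, Perm.one_apply]
  by_cases h1 : z = j
  · simp [h1, h]
  · rw [if_neg h1, if_neg fun h2 => h1 (g.π.injective (h2.trans h.symm)), one_mul, mul_one]

/-- the restriction to `T` is made diagonal -/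
theorem exists_diag {T : Finset (Fin n)} {g : SG n} (hg : Stab T g.π) (δ : Fin n → ℤˣ) :
    ∃ h ∈ On T, sgn h = (∏ j ∈ T, δ j) * ∏ j ∈ T, g.s j ∧ ∀ j ∈ T, (h * g).π j = j ∧ (h * g).s j = δ j := by
  have hg' : ∀ x, g.π⁻¹ x ∈ T ↔ x ∈ T := fun x => by rw [← hg]; simp
  refine ⟨⟨Perm.ofSubtype ((g.π⁻¹).subtypePerm hg'), fun j => if j ∈ T then δ (g.π⁻¹ j) * g.s (g.π⁻¹ j) else 1⟩,
    fun j hj => ⟨Perm.ofSubtype_apply_of_not_mem _ hj, if_neg hj⟩, ?_, fun j hj => ⟨?_, ?_⟩⟩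
  · rw [sgn_apply, ← prod_mul_distrib]
    simp only [prod_ite_mem, univ_inter]
    exact prod_equiv (g.π⁻¹ : Perm (Fin n)) (fun x => (hg' x).symm) fun _ _ => rfl
  · rw [mul_π, Perm.mul_apply, Perm.ofSubtype_subtypePerm_of_mem hg' ((hg j).2 hj)]
    simp
  · simp [(hg j).2 hj, mul_assoc]

theorem mem_cyc {π : Perm (Fin n)} {x y : Fin n} : y ∈ cyc π x ↔ π.SameCycle x y :=
  mem_filter.trans (and_iff_right (mem_univ _))

theorem cyc_fix {π : Perm (Fin n)} {x : Fin n} (h : π x = x) : cyc π x = {x} := by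
  ext y
  simp only [mem_cyc, mem_singleton]
  exact ⟨fun h1 => (h1.eq_of_left h).symm, fun h1 => h1 ▸ Perm.SameCycle.refl _ _⟩

theorem cyc_two {π : Perm (Fin n)} {x y : Fin n} (h : π x = y) (h' : π y = x) : cyc π x = {x, y} := by
  ext z
  simp only [mem_cyc, mem_insert, mem_singleton]
  refine ⟨fun h1 => ?_, ?_⟩
  · obtain ⟨m, rfl⟩ := h1.exists_nat_pow_eq
    clear h1
    induction m with
    | zero => exact .inl rfl
    | succ m ih => rcases ih with e | e <;> simp only [pow_succ', e, h, h', _root_.Equiv.Perm.coe_mul, _root_.Function.comp_apply, _root_.or_true, _root_.true_or]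
  · rintro (rfl | rfl)
    · exact Perm.SameCycle.refl _ _
    · exact h ▸ Perm.sameCycle_apply_right.2 (Perm.SameCycle.refl _ _)

theorem mem_Tk {k : ℕ} {i : Fin n} : i ∈ Tk n k ↔ n ≤ i + k := by simp only [Tk, _root_.Finset.mem_filter, _root_.Finset.mem_univ, _root_.true_and]

theorem Tk_sdiff {k : ℕ} {j : Fin n} (h : (j : ℕ) + (k + 1) = n) : Tk n (k + 1) \ {j} = Tk n k := by
  ext i
  simp only [mem_sdiff, mem_Tk, mem_singleton, Fin.ext_iff]
  omega

theorem Tk_zero : Tk n 0 = ∅ := by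
  ext i
  simp [mem_Tk]

theorem card_Tk {k : ℕ} (h : k ≤ n) : #(Tk n k) = k := by
  induction k with
  | zero => rw [Tk_zero, card_empty]
  | succ k ih =>
    have h1 : ((⟨n - (k + 1), by omega⟩ : Fin n) : ℕ) + (k + 1) = n := by simp only; omega
    have h2 := card_sdiff_add_card_eq_card (singleton_subset_iff.2 (mem_Tk.2 h1.ge))
    rw [Tk_sdiff h1, ih (by omega), card_singleton] at h2
    exact h2.symm

theorem prod_Tk {k : ℕ} {j : Fin n} (h : (j : ℕ) + (k + 1) = n) (δ : Fin n → ℤˣ) :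
    ∏ i ∈ Tk n (k + 1), δ i = (∏ i ∈ Tk n k, δ i) * δ j := by
  rw [← Tk_sdiff h, prod_eq_prod_sdiff_singleton_mul (mem_Tk.2 h.ge)]

theorem Tk_mono {k : ℕ} : Tk n k ⊆ Tk n (k + 1) := fun i hi => by
  rw [mem_Tk] at hi ⊢
  omega

theorem stab_of_fix {T T' : Finset (Fin n)} {π : Perm (Fin n)} (h : T' ⊆ T) (h1 : ∀ j ∈ T, π j = j) : Stab T' π := fun x => by
  refine ⟨fun h2 => ?_, fun h2 => (h1 x (h h2)).symm ▸ h2⟩
  rwa [π.injective (h1 _ (h h2))] at h2

theorem cf_avg (T : Finset (Fin n)) (a a' : Bip → ℂ) (g : SG n) :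
    cf T (fun i => (a i + a' i) / 2) g = (cf T a g + cf T a' g) / 2 := by
  unfold cf
  induction bips #T with
  | nil => simp
  | cons i l ih =>
    simp only [List.map_cons, List.sum_cons, ih]
    ring

end sg

variable {I W : Type} {M : CoxeterMatrix I} [Group W] {cs : CoxeterSystem M W} [Fintype W] {ψ : MulAut W} {n : ℕ}
  {b : Bool} (E : Em cs ψ n b)

/-- the facts on the embedding which are used -/
structure Ok : Prop where
  aut : T.Aut cs ψ
  mem_J : ∀ k ≤ n, ∀ v, v ∈ WJ cs (E.J k) ↔ E.emb v ∈ On (Tk n k)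
  rf_J : ∀ k ≤ n, ∀ t, t ∈ T.rf cs (E.J k) ↔
    (∃ x ∈ Tk n k, ∃ y ∈ Tk n k, x < y ∧ ∃ e, E.emb t = sw x y e) ∨ (b = true ∧ ∃ x ∈ Tk n k, E.emb t = tt x)

/-- `cf a` is the part of `y` which is invariant under the sign change at the first coordinate of `Tk n k` -/
def Rep (k : ℕ) (w : W) (y : W → ℂ) (a : Bip → ℂ) : Prop :=
  ∀ x ∈ WJ cs (E.J k), (k = 0 → y (x * w) = cf (Tk n k) a (E.g (x * w))) ∧ ∀ j : Fin n, (j : ℕ) + k = n → ∀ u,
    E.g u = tt j * E.g (x * w) * tt j → y (x * w) + y u = 2 * cf (Tk n k) a (E.g (x * w))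

theorem g_mul (x w : W) : E.g (x * w) = E.emb x * E.g w := by rw [Em.g, Em.g, map_mul, mul_assoc]

theorem g_inj : Function.Injective E.g := fun _ _ h => E.inj (mul_right_cancel h)

theorem emb_tw (w v : W) : E.emb (w * ψ v * w⁻¹) = E.g w * E.emb v * (E.g w)⁻¹ := by
  rw [map_mul, map_mul, map_inv, E.tw, Em.g, mul_inv_rev]
  simp only [mul_assoc]

theorem J_mono {k : ℕ} : E.J k ⊆ E.J (k + 1) := fun _ hi => ⟨Tk_mono hi.1, hi.2.imp_right fun h => by omega⟩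

/-- the conjugation by a sign change -/
theorem exists_sig (j : Fin n) : ∃ σ : W ≃* W, (∀ v, E.emb (σ v) = tt j * E.emb v * tt j) ∧
    ∀ v, E.g (σ v) = tt j * E.g v * tt j := by
  have h1 : ∀ v, ∃ v', E.emb v' = tt j * E.emb v * tt j := fun v => E.surj _ fun hb => by
    rw [map_mul, map_mul, E.even hb, mul_one, Int.units_mul_self]
  choose σ hσ using h1
  have h2 : Function.Involutive σ := fun v => E.inj (by
    rw [hσ, hσ, ← mul_assoc, ← mul_assoc, tt_mul_tt, one_mul, mul_assoc, tt_mul_tt, mul_one])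
  refine ⟨⟨h2.toPerm σ, fun u v => E.inj ?_⟩, hσ, fun v => ?_⟩
  · show E.emb (σ (u * v)) = E.emb (σ u * σ v)
    rw [map_mul, hσ, hσ, hσ, map_mul]
    simp only [mul_assoc]
    rw [← mul_assoc (tt j) (tt j), tt_mul_tt, one_mul]
  · show E.emb (σ v) * E.τ = _
    have h3 : tt j * E.τ = E.τ * tt j := by
      rcases E.hτ with e | ⟨-, i, -, e⟩ <;> rw [e]
      · rw [mul_one, one_mul]
      · exact tt_comm _ _
    rw [hσ, Em.g, mul_assoc, h3]
    simp only [mul_assoc]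

variable {E} (ok : Ok E)
include ok

theorem sum_rf {k : ℕ} (hk : k ≤ n) (Φ : SG n → ℤ) : ∑ t ∈ T.rf cs (E.J k), Φ (E.emb t) =
    ∑ x ∈ Tk n k, ∑ y ∈ Tk n k with x < y, (Φ (sw x y 1) + Φ (sw x y (-1))) +
      if b then ∑ x ∈ Tk n k, Φ (tt x) else 0 := by
  classical
  have h1 : (T.rf cs (E.J k)).image E.emb =
      (((Tk n k ×ˢ Tk n k).filter fun p => p.1 < p.2) ×ˢ (univ : Finset ℤˣ)).image (fun p => sw p.1.1 p.1.2 p.2) ∪
        if b then (Tk n k).image tt else ∅ := by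
    ext g
    simp only [mem_image, ok.rf_J k hk, mem_union, mem_product, mem_filter, mem_univ, and_true, Prod.exists]
    constructor
    · rintro ⟨t, ⟨x, hx, y, hy, h, e, he⟩ | ⟨hb, x, hx, he⟩, rfl⟩
      · exact .inl ⟨x, y, e, ⟨⟨hx, hy⟩, h⟩, he.symm⟩
      · exact .inr (by rw [if_pos hb]; exact mem_image.2 ⟨x, hx, he.symm⟩)
    · rintro (⟨x, y, e, ⟨⟨hx, hy⟩, h⟩, rfl⟩ | h)
      · obtain ⟨t, ht⟩ := E.surj (sw x y e) fun _ => sgn_sw h.ne e
        exact ⟨t, .inl ⟨x, hx, y, hy, h, e, ht⟩, ht⟩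
      · split_ifs at h with hb
        · obtain ⟨x, hx, rfl⟩ := mem_image.1 h
          obtain ⟨t, ht⟩ := E.surj (tt x) fun h => by simp [hb] at h
          exact ⟨t, .inr ⟨hb, x, hx, ht⟩, ht⟩
        · simp at h
  rw [← sum_image (f := Φ) E.inj.injOn, h1, sum_union, sum_image, sum_product, sum_filter, sum_product]
  · congr 1
    · refine sum_congr rfl fun x _ => ?_
      rw [sum_filter]
      refine sum_congr rfl fun y _ => ?_
      rw [UnitsInt.univ, sum_pair (by decide)]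
    · split_ifs
      · exact sum_image fun _ _ _ _ => tt_inj
      · rfl
  · rintro ⟨⟨x, y⟩, e⟩ h ⟨⟨x', y'⟩, e'⟩ h' H
    obtain ⟨rfl, rfl, rfl⟩ := sw_inj (mem_filter.1 (mem_product.1 h).1).2 (mem_filter.1 (mem_product.1 h').1).2 H
    rfl
  · refine disjoint_left.2 fun g h h' => ?_
    obtain ⟨p, hp, rfl⟩ := mem_image.1 h
    split_ifs at h'
    · obtain ⟨z, -, hz⟩ := mem_image.1 h'
      exact sw_ne_tt (mem_filter.1 (mem_product.1 hp).1).2 hz.symm
    · simp at h'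

theorem stab_x {k : ℕ} (hk : k ≤ n) {w x : W} (hw : Stab (Tk n k) (E.g w).π) (hx : x ∈ WJ cs (E.J k)) :
    Stab (Tk n k) (E.g (x * w)).π := g_mul E x w ▸ stab_mul ((ok.mem_J k hk x).1 hx) hw

theorem lv_lev {k : ℕ} (hk : k ≤ n) {w : W} {y : W → ℂ} (hw : Stab (Tk n k) (E.g w).π) (hy : T.Lv cs ψ (E.J k) w y)
    (c : ℂ) : T.Lv cs ψ (E.J k) w (T.lev cs (E.J k) c y) :=
  Avg.lev' ok.aut hy le_rfl (fun _ _ _ hj h => absurd hj h) (fun _ hi => (ok.mem_J k hk _).2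
    (emb_tw E w _ ▸ conj_On ((ok.mem_J k hk _).1 (simple_mem_WJ cs hi)) hw)) c

theorem lev_cf (hC : BoxCas) {k : ℕ} (hk : k ≤ n) {w : W} (hw : Stab (Tk n k) (E.g w).π) (a : Bip → ℂ) (c : ℤ) {x : W}
    (hx : x ∈ WJ cs (E.J k)) : T.lev cs (E.J k) ((c - 480 - 18 * k : ℤ) : ℂ) (fun u => cf (Tk n k) a (E.g u)) (x * w) =
      cf (Tk n k) (cut b c a) (E.g (x * w)) := by
  classical
  have h1 : ∀ l : List Bip, (∀ i ∈ l, i ∈ bips #(Tk n k)) →
      T.lev cs (E.J k) ((c - 480 - 18 * k : ℤ) : ℂ) (fun u => (l.map fun i => a i * phi (Tk n k) i (E.g u)).sum) (x * w) =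
        (l.map fun i => cut b c a i * phi (Tk n k) i (E.g (x * w))).sum := fun l hl => by
    induction l with
    | nil => exact congrFun (map_zero (T.lev cs (E.J k) _)) _
    | cons i l ih =>
      have h2 := T.lev_eig (cs := cs) (w := w) (le_refl (E.J k)) (y := fun u => a i * phi (Tk n k) i (E.g u))
        (c := ((lev b i - 480 - 18 * k : ℤ) : ℂ)) (fun x hx => by
          have h3 := hC b (Tk n k) (E.g (x * w)) ((card_Tk hk).trans_le (hk.trans E.ten)) (stab_x ok hk hw hx) i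
            (hl i (by simp))
          rw [← sum_rf ok hk fun g => phi (Tk n k) i (g * E.g (x * w)), card_Tk hk] at h3
          simp only [g_mul E _ (x * w)]
          rw [← mul_sum, ← Int.cast_sum, h3]
          push_cast; ring) ((c - 480 - 18 * k : ℤ) : ℂ) hx
      simp only [List.map_cons, List.sum_cons]
      rw [← ih fun j hj => hl j (by simp [hj])]
      refine (congrFun (map_add (T.lev cs (E.J k) _) (fun u => a i * phi (Tk n k) i (E.g u)) _) _).trans ?_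
      rw [Pi.add_apply, h2]
      unfold cut
      congr 1
      by_cases e : lev b i = c
      · rw [if_pos e, if_pos (by rw [e])]
      · rw [if_neg e, if_neg fun h => e (by have := Int.cast_injective h; omega), zero_mul]
  exact h1 _ fun _ h => h

/-- the level projection at the elements which fix the first coordinate -/
theorem lev_rep (hC : BoxCas) {k : ℕ} (hk : k + 1 ≤ n) {w : W} {y : W → ℂ} {a : Bip → ℂ}
    (hw : Stab (Tk n (k + 1)) (E.g w).π) (h : Rep E (k + 1) w y a) (c : ℤ) {j : Fin n} (hj : (j : ℕ) + (k + 1) = n) {x : W}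
    (hx : x ∈ WJ cs (E.J (k + 1))) (h1 : (E.g (x * w)).π j = j) :
    T.lev cs (E.J (k + 1)) ((c - 480 - 18 * (k + 1 : ℕ) : ℤ) : ℂ) y (x * w) = cf (Tk n (k + 1)) (cut b c a) (E.g (x * w)) := by
  obtain ⟨σ, h2, h3⟩ := exists_sig E j
  have h4 : ∀ t, t ∈ T.rf cs (E.J (k + 1)) → σ t ∈ T.rf cs (E.J (k + 1)) := fun t ht => by
    rw [ok.rf_J _ hk] at ht ⊢
    rw [h2]
    rcases ht with ⟨x, hx, y, hy, h, e, he⟩ | ⟨hb, x, hx, he⟩
    · exact .inl ⟨x, hx, y, hy, h, he ▸ conj_sw j h.ne e⟩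
    · exact .inr ⟨hb, x, hx, by rw [he, tt_comm j, mul_assoc, tt_mul_tt, mul_one]⟩
  have h5 : ∀ t, σ (σ t) = t := fun t => E.inj (by
    rw [h2, h2, ← mul_assoc, ← mul_assoc, tt_mul_tt, one_mul, mul_assoc, tt_mul_tt, mul_one])
  have h6 := T.aeval_cas_comp (g := σ) σ.toEquiv (fun t => ⟨h4 t, fun ht => h5 t ▸ h4 _ ht⟩) (fun t _ u => map_mul σ t u)
    (T.lp cs (E.J (k + 1)) ((c - 480 - 18 * (k + 1 : ℕ) : ℤ) : ℂ)) y (x * w)
  rw [g_inj E ((h3 (x * w)).trans (tt_comm_of h1))] at h6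
  have h7 := T.aeval_cas_zero (cs := cs) (w := w) (le_refl (E.J (k + 1)))
    (y := y + (fun u => y (σ u)) - (2 : ℂ) • fun u => cf (Tk n (k + 1)) a (E.g u))
    (fun x hx => sub_eq_zero.2 ((h x hx).2 j hj _ (h3 _))) (T.lp cs (E.J (k + 1)) ((c - 480 - 18 * (k + 1 : ℕ) : ℤ) : ℂ)) x hx
  rw [map_sub, map_add, map_smul, Pi.sub_apply, Pi.add_apply, h6, Pi.smul_apply, smul_eq_mul, ← two_mul, sub_eq_zero] at h7
  exact (mul_left_cancel₀ two_ne_zero h7).trans (lev_cf ok hC hk hw a c hx)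

theorem rep_of (hM : BoxMN) {k : ℕ} (hk : k ≤ n) {w : W} {y : W → ℂ} {a : Bip → ℂ} (hw : Stab (Tk n k) (E.g w).π)
    (h : ∀ x ∈ WJ cs (E.J k), y (x * w) = cf (Tk n k) a (E.g (x * w))) : Rep E k w y a := fun x hx => by
  refine ⟨fun _ => h x hx, fun j hj u hu => ?_⟩
  have h1 : tt j ∈ On (Tk n k) := fun i hi => ⟨rfl, if_neg fun e : i = j => hi (e ▸ mem_Tk.2 hj.ge)⟩
  have h2 : u * w⁻¹ ∈ WJ cs (E.J k) := by
    have h3 : E.emb (u * w⁻¹) = tt j * E.emb x * (E.g w * tt j * (E.g w)⁻¹) := by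
      rw [← mul_inv_cancel_right (E.emb _) (E.g w), ← g_mul, inv_mul_cancel_right, hu, g_mul]
      simp only [mul_assoc]
    rw [ok.mem_J k hk, h3]
    exact mul_mem (mul_mem h1 ((ok.mem_J k hk x).1 hx)) (conj_On h1 hw)
  have h4 := h _ h2
  rw [inv_mul_cancel_right] at h4
  rw [h4, h x hx, hu, two_mul]
  unfold cf
  congr 2
  refine List.map_congr_left fun i _ => ?_
  have h5 := (hM (Tk n k) (E.g (x * w)) ((card_Tk hk).trans_le (hk.trans E.ten)) (stab_x ok hk hw hx)).2.2.2.1 (tt j)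
    (fun _ => Iff.rfl) i
  rw [inv_eq_of_mul_eq_one_right (tt_mul_tt j)] at h5
  rw [h5]

omit ok in
theorem base (hM : BoxMN) {w : W} {y : W → ℂ} {a : Bip → ℂ} (hy : T.Lv cs ψ (E.J 0) w y)
    (h : y (1 * w) = cf (Tk n 0) a (E.g (1 * w))) : ∃ z : ℤ, a (vc, vc) = z := by
  obtain ⟨z, hz⟩ := hy.int (one_mem _)
  refine ⟨z, ?_⟩
  have h1 : bips #(∅ : Finset (Fin n)) = [(vc, vc)] := rfl
  have h2 := (hM ∅ (E.g (1 * w)) (by simp) (fun _ => by simp)).2.1 [] rfl (vc, vc) (h1 ▸ List.mem_singleton_self _)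
  have h3 : val [] (vc, vc) = 1 := if_pos rfl
  rw [← hz, h, Tk_zero]
  unfold cf
  rw [h1, List.map_singleton, List.sum_singleton, h2, h3, Int.cast_one, mul_one]

theorem exists_x {k : ℕ} (hk : k ≤ n) {w : W} (hw : Stab (Tk n k) (E.g w).π) (δ : Fin n → ℤˣ)
    (h : b = false → ∏ j ∈ Tk n k, δ j = E.ε k w) :
    ∃ x ∈ WJ cs (E.J k), ∀ j ∈ Tk n k, (E.g (x * w)).π j = j ∧ (E.g (x * w)).s j = δ j := by
  obtain ⟨g, h1, h2, h3⟩ := exists_diag hw δ
  obtain ⟨x, rfl⟩ := E.surj g fun hb => by rw [h2, h hb]; exact Int.units_mul_self _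
  exact ⟨x, (ok.mem_J k hk x).2 h1, g_mul E x w ▸ h3⟩

theorem dual_aux (hM : BoxMN) (hC : BoxCas) (k : ℕ) (hk : k ≤ n) (w : W) (y : W → ℂ) (a : Bip → ℂ) (ε : ℤˣ)
    (hw : Stab (Tk n k) (E.g w).π) (hy : T.Lv cs ψ (E.J k) w y) (h : Rep E k w y a) (hε : b = false → ε = E.ε k w) :
    Dual b k ε a := by
  induction k generalizing w y a ε with
  | zero => exact fun _ => base hM hy ((h 1 (one_mem _)).1 rfl)
  | succ k ih =>
    intro c η
    obtain ⟨j, hj⟩ : ∃ j : Fin n, (j : ℕ) + (k + 1) = n := ⟨⟨n - (k + 1), by omega⟩, by simp only; omega⟩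
    have hjT : j ∈ Tk n (k + 1) := mem_Tk.2 hj.ge
    have hjT' : j ∉ Tk n k := fun h => by have := mem_Tk.1 h; omega
    by_cases h0 : b = false ∧ k = 0 ∧ ε * η ≠ 1
    · obtain ⟨hb, rfl, h1⟩ := h0
      rintro (h2 | h2)
      · simp [hb] at h2
      · exact absurd h2 h1
    obtain ⟨δ, h1, h2⟩ : ∃ δ : Fin n → ℤˣ, δ j = η ∧ (b = false → ∏ i ∈ Tk n k, δ i = ε * η) := by
      rcases Nat.eq_zero_or_pos k with rfl | h1
      · refine ⟨fun _ => η, rfl, fun hb => ?_⟩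
        rw [Tk_zero, prod_empty]
        exact (not_not.1 fun h2 => h0 ⟨hb, rfl, h2⟩).symm
      · have h2 : (⟨n - 1, by omega⟩ : Fin n) ∈ Tk n k := mem_Tk.2 (by simp only; omega)
        refine ⟨fun i => if i = j then η else if i = ⟨n - 1, by omega⟩ then ε * η else 1, if_pos rfl, fun _ => ?_⟩
        rw [prod_congr rfl fun i hi => if_neg fun e : i = j => hjT' (e ▸ hi), prod_ite_eq', if_pos h2]
    obtain ⟨x₀, hx₀, h3⟩ := exists_x ok hk hw δ fun hb => by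
      rw [prod_Tk hj, h2 hb, h1, mul_assoc, Int.units_mul_self, mul_one, hε hb]
    have h4 : Stab (Tk n k) (E.g (x₀ * w)).π := stab_of_fix Tk_mono fun i hi => (h3 i hi).1
    refine ih (by omega) (x₀ * w) _ _ _ h4 ((lv_lev ok hk hw hy ((c - 480 - 18 * (k + 1 : ℕ) : ℤ) : ℂ)).mono (J_mono E) hx₀)
      (rep_of ok hM (by omega) h4 fun x hx => ?_) fun hb => ?_
    · have h5 := (ok.mem_J k (by omega) x).1 hx j hjT'
      have h6 : (E.g (x * (x₀ * w))).π j = j := by rw [g_mul, mul_π, Perm.mul_apply, (h3 j hjT).1, h5.1]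
      have h7 : (E.g (x * (x₀ * w))).s j = η := by rw [g_mul, mul_s, (h3 j hjT).1, h5.2, one_mul, (h3 j hjT).2, h1]
      have h8 := mul_mem (WJ_mono cs (J_mono E) hx) hx₀
      rw [← mul_assoc] at h6 h7 ⊢
      rw [lev_rep ok hC hk hw h c hj h8 h6, (hM _ _ ((card_Tk hk).trans_le (hk.trans E.ten)) (stab_x ok hk hw h8)).1 j hjT,
        cyc_fix h6, Tk_sdiff hj, card_Tk hk, card_singleton, prod_singleton, h7]
    · rw [← h2 hb]
      exact prod_congr rfl fun i hi => (h3 i (Tk_mono hi)).2.symm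

/-- **The integrality along the chains.** -/
theorem dual_of_rep (hM : BoxMN) (hC : BoxCas) {k : ℕ} (hk : k ≤ n) {w : W} {y : W → ℂ} {a : Bip → ℂ}
    (hw : Stab (Tk n k) (E.g w).π) (hy : T.Lv cs ψ (E.J k) w y) (h : Rep E k w y a) : Dual b k (E.ε k w) a :=
  dual_aux ok hM hC k hk w y a _ hw hy h fun _ => rfl

/-- **The integrality along the chains which average over a transposition.** -/
theorem dual2_of (hM : BoxMN) (hC : BoxCas) (hb : b = false) (k : ℕ) (hk : 2 * k ≤ n) (w : W) (y : W → ℂ) (a : Bip → ℂ)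
    (hw : Stab (Tk n (2 * k)) (E.g w).π) (hy : T.Lv cs ψ (E.J (2 * k)) w y) (hε : E.ε (2 * k) w = 1)
    (h : ∀ x ∈ WJ cs (E.J (2 * k)), y (x * w) = cf (Tk n (2 * k)) a (E.g (x * w))) : Dual2 k a := by
  induction k generalizing w y a with
  | zero => exact base hM hy (h 1 (one_mem _))
  | succ k ih =>
    intro c
    change Stab (Tk n (2 * k + 1 + 1)) _ at hw
    change T.Lv cs ψ (E.J (2 * k + 1 + 1)) w y at hy
    change E.ε (2 * k + 1 + 1) w = 1 at hε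
    change ∀ x ∈ WJ cs (E.J (2 * k + 1 + 1)), y (x * w) = cf (Tk n (2 * k + 1 + 1)) a (E.g (x * w)) at h
    replace hk : 2 * k + 1 + 1 ≤ n := hk
    obtain ⟨j, hj⟩ : ∃ j : Fin n, (j : ℕ) + (2 * k + 1 + 1) = n := ⟨⟨n - (2 * k + 2), by omega⟩, by simp only; omega⟩
    obtain ⟨j', hj'⟩ : ∃ j : Fin n, (j : ℕ) + (2 * k + 1) = n := ⟨⟨n - (2 * k + 1), by omega⟩, by simp only; omega⟩
    have hjT : j ∈ Tk n (2 * k + 1 + 1) := mem_Tk.2 hj.ge
    have hjT1 : j' ∈ Tk n (2 * k + 1) := mem_Tk.2 hj'.ge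
    have hne : j ≠ j' := fun e => by rw [e] at hj; omega
    have hout : ∀ i ∈ Tk n (2 * k), i ≠ j ∧ i ≠ j' := fun i hi => by
      have := mem_Tk.1 hi
      constructor <;> rintro rfl <;> omega
    obtain ⟨x₀, hx₀, h3⟩ := exists_x ok hk hw 1 fun _ => by rw [hε]; simp
    have hJ : E.J (2 * k) ⊆ E.J (2 * k + 1 + 1) := (J_mono E).trans (J_mono E)
    have h4 : Stab (Tk n (2 * k)) (E.g (x₀ * w)).π := stab_of_fix (Tk_mono.trans Tk_mono) fun i hi => (h3 i hi).1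
    have hs : E.emb (cs.simple (E.nd j)) = sw j j' 1 := E.simple j j' (by omega)
    have hi : E.nd j ∈ E.J (2 * k + 1 + 1) := ⟨by rwa [Equiv.symm_apply_apply], .inr (by omega)⟩
    have hsw : sw j j' 1 ∈ On ({j, j'} : Finset (Fin n)) := fun i hi => by
      rw [mem_insert, mem_singleton, not_or] at hi
      exact ⟨swap_apply_of_ne_of_ne hi.1 hi.2, by rw [sw_s, ite_self]⟩
    have hx' : ∀ x ∈ WJ cs (E.J (2 * k)), E.emb x ∈ On ({j, j'} : Finset (Fin n))ᶜ := fun x hx i hi =>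
      (ok.mem_J _ (by omega) x).1 hx i fun h => hi (by simpa using hout i h)
    have hw' : E.g (x₀ * w) ∈ On ({j, j'} : Finset (Fin n))ᶜ := fun i hi => by
      rw [mem_compl, not_not, mem_insert, mem_singleton] at hi
      rcases hi with rfl | rfl
      · exact h3 _ hjT
      · exact h3 _ (Tk_mono hjT1)
    have h5 := (Avg.avg_one ok.aut ((lv_lev ok hk hw hy ((c - 480 - 18 * (2 * k + 1 + 1 : ℕ) : ℤ) : ℂ)).mono
      (J' := insert (E.nd j) (E.J (2 * k))) (Set.insert_subset hi hJ) hx₀) (Set.mem_insert _ _) (by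
        rintro i (rfl | hi)
        · exact Commute.refl _
        · refine E.inj ?_
          rw [map_mul, map_mul, hs]
          exact comm_On hsw (hx' _ (simple_mem_WJ cs hi))) (by
        rw [← mul_inv_eq_iff_eq_mul]
        refine E.inj ?_
        rw [emb_tw, hs, ← comm_On hsw hw', mul_inv_cancel_right])).mono (Set.subset_insert _ _) (one_mem _)
    rw [one_mul] at h5
    refine ih (by omega) (x₀ * w) _ _ h4 h5 (prod_eq_one fun i hi => (h3 i (Tk_mono (Tk_mono hi))).2) fun x hx => ?_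
    have h6 : E.g (x * (x₀ * w)) ∈ On ({j, j'} : Finset (Fin n))ᶜ := g_mul E x _ ▸ mul_mem (hx' x hx) hw'
    have h7 := h6 j (by simp)
    have h8 := h6 j' (by simp)
    have h9 := mul_mem (WJ_mono cs hJ hx) hx₀
    have h10 := mul_mem (simple_mem_WJ cs hi) h9
    have hc := (card_Tk hk).trans_le (hk.trans E.ten)
    have hl : ∀ v ∈ WJ cs (E.J (2 * k + 1 + 1)), T.lev cs (E.J (2 * k + 1 + 1)) ((c - 480 - 18 * (2 * k + 1 + 1 : ℕ) : ℤ) : ℂ)
        y (v * w) = cf (Tk n (2 * k + 1 + 1)) (cut false c a) (E.g (v * w)) := fun v hv => by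
      have h11 := T.aeval_cas_zero (cs := cs) (w := w) (le_refl (E.J (2 * k + 1 + 1)))
        (y := y - fun u => cf (Tk n (2 * k + 1 + 1)) a (E.g u)) (fun x hx => sub_eq_zero.2 (h x hx))
        (T.lp cs (E.J (2 * k + 1 + 1)) ((c - 480 - 18 * (2 * k + 1 + 1 : ℕ) : ℤ) : ℂ)) v hv
      rw [map_sub, Pi.sub_apply, sub_eq_zero] at h11
      exact h11.trans (hb ▸ lev_cf ok hC hk hw a c hv)
    have e1 := hl _ h9
    have e2 := hl _ h10
    have s1 := stab_x ok hk hw h9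
    have s2 := stab_x ok hk hw h10
    rw [mul_assoc] at e1 s1
    rw [mul_assoc, mul_assoc] at e2 s2
    have s3 : Stab (Tk n (2 * k + 1)) (E.g (x * (x₀ * w))).π :=
      stab_x ok (by omega) (stab_of_fix Tk_mono fun i hi => (h3 i hi).1) (WJ_mono cs (J_mono E) hx)
    have g2 : E.g (cs.simple (E.nd j) * (x * (x₀ * w))) = sw j j' 1 * E.g (x * (x₀ * w)) := by rw [g_mul, hs]
    have c2 : cyc (E.g (cs.simple (E.nd j) * (x * (x₀ * w)))).π j = {j, j'} := cyc_two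
      (by rw [g2, mul_π, Perm.mul_apply, h7.1, sw_π, swap_apply_left])
      (by rw [g2, mul_π, Perm.mul_apply, h8.1, sw_π, swap_apply_right])
    have t2 : Tk n (2 * k + 1 + 1) \ {j, j'} = Tk n (2 * k) := by
      rw [← Tk_sdiff hj', ← Tk_sdiff hj, sdiff_sdiff_left]; rfl
    rw [(hM _ _ hc s1).1 j hjT, cyc_fix h7.1, Tk_sdiff hj, card_Tk hk, card_singleton, prod_singleton, h7.2,
      (hM _ _ ((card_Tk (by omega)).trans_le (by have := E.ten; (clear * - hj' this; omega))) s3).1 j' hjT1, cyc_fix h8.1, Tk_sdiff hj',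
      card_Tk (by omega), card_singleton, prod_singleton, h8.2] at e1
    rw [(hM _ _ hc s2).1 j hjT, c2, t2, card_Tk hk, card_pair hne, prod_pair hne, g2, mul_s, mul_s, h7.2, h8.2, sw_s, sw_s,
      ite_self, ite_self, mul_one, mul_one] at e2
    rw [cf_avg, e1, e2]
    congr 2
    refine congrArg List.sum (List.map_congr_left fun i _ => ?_)
    have s4 := stab_x ok (by omega) h4 hx
    rw [(hM _ _ ((card_Tk (by omega)).trans_le (by have := E.ten; (clear * - hj' this; omega))) s4).2.2.1 _ fun i hi => ?_]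
    have h11 := hsw _ (by simpa using hout _ ((s4 i).2 hi))
    rw [mul_π, mul_s, Perm.mul_apply, h11.1, h11.2, one_mul]
    exact ⟨rfl, rfl⟩

omit ok in
theorem ok_em (E : Em cs ψ n b) : Ok E where
  aut := E.aut
  mem_J _ _ _ := E.mem_J
  rf_J _ _ _ := E.mem_rf_J.trans (or_congr_left
    ⟨fun ⟨x, hx, y, hy, e, h1, h2⟩ => ⟨x, hx, y, hy, h1, e, h2⟩, fun ⟨x, hx, y, hy, h1, e, h2⟩ => ⟨x, hx, y, hy, e, h1, h2⟩⟩)

omit ok in
theorem rep_of_R {k : ℕ} {w : W} {y : W → ℂ} {a : Bip → ℂ} (hw : Stab (Tk n k) (E.g w).π) (hi : E.Inv (E.J k) w y)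
    (h : 1 ≤ k → ∀ x ∈ WJ cs (E.J k), y (x * w) + y (E.cj (tt E.lst) (x * w)) = 2 * cf (Tk n k) a (E.g (x * w)))
    (h0 : k = 0 → y w = cf (Tk n k) a (E.g w)) : Rep E k w y a := fun x hx => by
  refine ⟨fun e => ?_, fun j hj u hu => ?_⟩
  · have h1 := E.mem_J.1 hx
    rw [e, Tk_zero] at h1
    have h2 : x = 1 := E.inj ((SG.ext (Equiv.ext fun j => (h1 j (notMem_empty j)).1)
      (funext fun j => (h1 j (notMem_empty j)).2)).trans (map_one E.emb).symm)
    rw [h2, one_mul]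
    exact h0 e
  · have hk : 1 ≤ k := by omega
    have h1 : ∀ i ∈ Tk n k, tt i ∈ On (Tk n k) := fun i hi l hl => ⟨rfl, if_neg fun e : l = i => hl (e ▸ hi)⟩
    have h2 := h1 _ (E.lst_mem hk)
    obtain ⟨v, hv, e⟩ := E.exists_mem_J (mul_mem (h1 j (mem_Tk.2 hj.ge)) h2) fun _ => by
      rw [map_mul, Ey.sgn_tt, Ey.sgn_tt]; rfl
    have h3 := E.g_cj E.tt_τ (x * w)
    have h4 : E.cj (tt E.lst) (x * w) * w⁻¹ ∈ WJ cs (E.J k) := by
      have h5 : E.emb (E.cj (tt E.lst) (x * w) * w⁻¹) = tt E.lst * E.emb x * (E.g w * (tt E.lst)⁻¹ * (E.g w)⁻¹) := by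
        rw [← mul_inv_cancel_right (E.emb _) (E.g w), ← g_mul, inv_mul_cancel_right, h3, g_mul]
        simp only [mul_assoc]
      rw [E.mem_J, h5]
      exact mul_mem (mul_mem h2 (E.mem_J.1 hx)) (conj_On (inv_mem h2) hw)
    have h5 := hi v hv _ h4
    rw [inv_mul_cancel_right] at h5
    have h6 : u = v * E.cj (tt E.lst) (x * w) * (ψ v)⁻¹ := E.g_inj (by
      rw [E.g_conj, e, h3, hu, mul_inv_rev, inv_eq_of_mul_eq_one_right (tt_mul_tt j),
        inv_eq_of_mul_eq_one_right (tt_mul_tt E.lst)]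
      simp only [mul_assoc]
      rw [← mul_assoc (tt E.lst) (tt E.lst), tt_mul_tt, one_mul, ← mul_assoc (tt E.lst) (tt E.lst), tt_mul_tt, one_mul])
    rw [h6, h5]
    exact h hk x hx

omit ok in
/-- **The integrality along the chains**, from the symmetrisation under the last sign change. -/
theorem dual_of_R (hM : BoxMN) (hC : BoxCas) {k : ℕ} (hk : k ≤ n) {w : W} {y : W → ℂ} {a : Bip → ℂ}
    (hw : Stab (Tk n k) (E.g w).π) (hy : T.Lv cs ψ (E.J k) w y) (hi : E.Inv (E.J k) w y)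
    (h : 1 ≤ k → ∀ x ∈ WJ cs (E.J k), y (x * w) + y (E.cj (tt E.lst) (x * w)) = 2 * cf (Tk n k) a (E.g (x * w)))
    (h0 : k = 0 → y w = cf (Tk n k) a (E.g w)) : Dual b k (E.ε k w) a :=
  dual_of_rep (ok_em E) hM hC hk hw hy (rep_of_R hw hi h h0)

omit ok in
theorem dual2_of' (hM : BoxMN) (hC : BoxCas) (hb : b = false) {k j : ℕ} (hk : k ≤ n) (hj : k = 2 * j) {w : W} {y : W → ℂ}
    {a : Bip → ℂ} (hw : Stab (Tk n k) (E.g w).π) (hy : T.Lv cs ψ (E.J k) w y) (hε : E.ε k w = 1)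
    (h : ∀ x ∈ WJ cs (E.J k), y (x * w) = cf (Tk n k) a (E.g (x * w))) : Dual2 j a := by
  subst hj
  exact dual2_of (ok_em E) hM hC hb j hk w y a hw hy hε h

end ChA

end Cfsg.Agent.LV.Cl
end

private theorem dce_7a0d211aa9d0 : _root_.True := by
  try have : _root_.True := by simp only [_root_.Cfsg.Agent.LV.Cl.cyc.eq_1]
  exact _root_.True.intro
end

-- part: LV/Cl/Chain
section
prune_inst 0x6400400000000000000000001844c400050000000000080000400008220020010800002010000020000000000000040000004000000000000000000404010008000000000000000010000084000000000000000000000000000000000000200000000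
set_option linter.all false
open scoped Cfsg.Agent.FastGrp

-- part: LV/Cl/ChainB
section
/-!
# LV, classical groups: the coefficient vector of an invariant function on a coset (helper52)

`Chn.exists_a`.
-/

set_option autoImplicit false
set_option linter.unusedSectionVars false
set_option linter.dupNamespace false
set_option maxHeartbeats 400000

namespace Cfsg.Agent.LV.Cl

open Equiv Finset Cfsg.Agent.Tits.Exchange Cfsg.Agent.Tits.Core Ey

namespace Chn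

variable {n : ℕ} {I W : Type} {M : CoxeterMatrix I} [Group W] {cs : CoxeterSystem M W} {ψ : MulAut W} {b : Bool}
  (E : Em cs ψ n b)

theorem cf_congr (hM : BoxMN) {T : Finset (Fin n)} (hT : #T ≤ 10) {g g' : SG n} (hg : Stab T g.π)
    (h : ∀ j ∈ T, g'.π j = g.π j ∧ g'.s j = g.s j) (a : Bip → ℂ) : cf T a g' = cf T a g :=
  congrArg List.sum (List.map_congr_left fun i _ => by rw [(hM T g hT hg).2.2.1 g' h i])

theorem cf_out (hM : BoxMN) {T : Finset (Fin n)} (hT : #T ≤ 10) {h o : SG n} (hh : h ∈ On T)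
    (ho : ∀ j ∈ T, o.π j = j ∧ o.s j = 1) (a : Bip → ℂ) : cf T a (h * o) = cf T a h :=
  cf_congr hM hT (stab_of_On hh) (fun j hj => by
    rw [mul_π, mul_s, Perm.mul_apply, (ho j hj).1, (ho j hj).2, mul_one]; exact ⟨rfl, rfl⟩) a

theorem card_Tk_le {k : ℕ} : #(Tk n k) ≤ n := (card_le_univ _).trans (Fintype.card_fin n).le

theorem one_le_of_sgn {k : ℕ} {h : SG n} (hh : h ∈ On (Tk n k)) (hs : sgn h ≠ 1) : 1 ≤ k := by
  by_contra h1
  obtain rfl : k = 0 := by omega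
  exact hs (by rw [sgn_On hh, Tk_zero, prod_empty])

theorem card_On (k : ℕ) : (Nat.card (On (Tk n k)) : ℝ) = ix b k * Nat.card (WJ cs (E.J k)) := by
  have h1 : (WJ cs (E.J k)).map E.emb ≤ On (Tk n k) := by
    rintro _ ⟨v, hv, rfl⟩
    exact E.mem_J.1 hv
  have h2 : ∀ h : On (Tk n k), h ∈ ((WJ cs (E.J k)).map E.emb).subgroupOf (On (Tk n k)) ↔ (b = false → sgn h.1 = 1) :=
    fun h => ⟨fun ⟨v, _, e⟩ hb => by rw [show h.1 = E.emb v from e.symm, E.even hb], fun h3 => E.exists_mem_J h.2 h3⟩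
  rw [← (((WJ cs (E.J k)).map E.emb).subgroupOf (On (Tk n k))).index_mul_card,
    Nat.card_congr (Subgroup.subgroupOfEquivOfLe h1).toEquiv, Subgroup.card_map_of_injective E.inj, Nat.cast_mul, ix]
  congr 1
  split_ifs with h3
  · have h4 : (((WJ cs (E.J k)).map E.emb).subgroupOf (On (Tk n k))).index = 2 := by
      refine Subgroup.index_eq_two_iff.2 ⟨⟨tt E.lst, tt_mem_On.2 (E.lst_mem h3.2)⟩, fun h => ?_⟩
      rw [h2, h2, Subgroup.coe_mul, map_mul, sgn_tt]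
      rcases Int.units_eq_one_or (sgn h.1) with h5 | h5 <;> simp [h5, h3.1]
    rw [h4, Nat.cast_ofNat]
  · rw [Subgroup.index_eq_one.2 (eq_top_iff.2 fun h _ => (h2 h).2 fun hb => by_contra fun h4 =>
      h3 ⟨hb, one_le_of_sgn h.2 h4⟩), Nat.cast_one]

theorem par (A B : ℂ) : ‖(A + B) / 2‖ ^ 2 + ‖(A - B) / 2‖ ^ 2 = (‖A‖ ^ 2 + ‖B‖ ^ 2) / 2 := by
  have h := parallelogram_law_with_norm ℝ A B
  rw [norm_div, norm_div, Complex.norm_two]
  linarith only [h]

variable [Fintype W]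

/-- **the coefficient vector** -/
theorem exists_a (hM : BoxMN) (hB : BoxBasis) {k : ℕ} (hk : k ≤ n) {w : W} {y : W → ℂ} (hw : Stab (Tk n k) (E.g w).π)
    (hy : E.Inv (E.J k) w y) : ∃ a : Bip → ℂ,
      (b = false → 1 ≤ k → ∀ i ∈ bips k, a (i.2, i.1) = ((E.ε k w : ℤ) : ℂ) * a i) ∧ ix b k * nr k a ≤ E.N (E.J k) w y ∧
      (∀ x ∈ WJ cs (E.J k), E.Fine k (x * w) → y (x * w) = cf (Tk n k) a (E.g (x * w))) ∧
      (ix b k * nr k a = E.N (E.J k) w y → ∀ x ∈ WJ cs (E.J k), y (x * w) = cf (Tk n k) a (E.g (x * w))) ∧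
      (1 ≤ k → ∀ x ∈ WJ cs (E.J k), y (x * w) + y (E.cj (tt E.lst) (x * w)) = 2 * cf (Tk n k) a (E.g (x * w))) := by
  classical
  have hT : #(Tk n k) ≤ 10 := card_Tk_le.trans E.ten
  have hr := res_mem hw
  have hε : sgn (res _ _ hw) = E.ε k w := sgn_res hw
  have ho : ∀ j ∈ Tk n k, ((res _ _ hw)⁻¹ * E.g w).π j = j ∧ ((res _ _ hw)⁻¹ * E.g w).s j = 1 := fun _ => res_out hw
  have hx : ∀ d ∈ On (Tk n k), (b = false → sgn d = E.ε k w) →
      ∃ x ∈ WJ cs (E.J k), E.g (x * w) = d * ((res _ _ hw)⁻¹ * E.g w) := fun _ => E.exists_x hw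
  have hg : ∀ x, E.g (x * w) = E.emb x * res _ _ hw * ((res _ _ hw)⁻¹ * E.g w) := fun x => by
    rw [E.g_mul, mul_assoc, mul_inv_cancel_left]
  have hs : b = false → ∀ u, sgn (E.g u) = E.ε k w * sgn ((res _ _ hw)⁻¹ * E.g w) := fun hb u => by
    rw [← hε, ← map_mul, mul_inv_cancel_left, Em.g, Em.g, map_mul, map_mul, E.even hb, E.even hb]
  generalize (res _ _ hw)⁻¹ * E.g w = o at ho hx hg hs
  generalize res _ _ hw = r at hr hε hg
  let Y : SG n → ℂ := fun h => Function.extend E.g y 0 (h * o)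
  have hY : ∀ h u, E.g u = h * o → Y h = y u := fun h u e => by
    simp only [Y]
    rw [← e, E.g_inj.extend_apply]
  have hY0 : b = false → ∀ h, sgn h ≠ E.ε k w → Y h = 0 := fun hb h h1 =>
    Function.extend_apply' _ _ _ fun ⟨u, e⟩ => h1 (mul_right_cancel ((map_mul sgn h o).symm.trans (e ▸ hs hb u)))
  have hc : ∀ c ∈ On (Tk n k), ∀ h, c * h * c⁻¹ * o = c * (h * o) * c⁻¹ := fun c h1 h => by
    rw [mul_assoc, (commute_On ho h1).inv_left.eq, mul_assoc, mul_assoc, mul_assoc]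
  have hI : ∀ c ∈ On (Tk n k), (b = false → sgn c = 1) → ∀ h ∈ On (Tk n k), Y (c * h * c⁻¹) = Y h := fun c h1 h2 h h3 => by
    by_cases h4 : b = false → sgn h = E.ε k w
    · obtain ⟨x, h5, h6⟩ := hx h h3 h4
      obtain ⟨v, h7, rfl⟩ := E.exists_mem_J h1 h2
      rw [hY h _ h6, hY _ (v * (x * w) * (ψ v)⁻¹) (by rw [E.g_conj, h6, hc _ h1]), hy v h7 x h5]
    · obtain ⟨hb, h4⟩ := Classical.not_imp.1 h4
      rw [hY0 hb h h4, hY0 hb _ (by rwa [map_mul, map_mul, map_inv, mul_inv_cancel_comm])]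
  obtain ⟨t, ht, ht1, ht2, ht3⟩ : ∃ t ∈ On (Tk n k), t * t = 1 ∧ (1 ≤ k → t = tt E.lst) ∧ (¬ 1 ≤ k → t = 1) := by
    by_cases h : 1 ≤ k
    · exact ⟨_, tt_mem_On.2 (E.lst_mem h), tt_mul_self _, fun _ => rfl, fun h1 => absurd h h1⟩
    · exact ⟨1, one_mem _, one_mul _, fun h1 => absurd h1 h, fun _ => rfl⟩
  have htt : ∀ h, t * (t * h * t⁻¹) * t⁻¹ = h := fun h => by
    rw [← mul_assoc, ← mul_assoc, ht1, one_mul, mul_assoc, ← mul_inv_rev, ht1, inv_one, mul_one]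
  have hm : ∀ c ∈ On (Tk n k), ∀ h ∈ On (Tk n k), c * h * c⁻¹ ∈ On (Tk n k) := fun c h1 h h2 =>
    mul_mem (mul_mem h1 h2) (inv_mem h1)
  have hI2 : ∀ c ∈ On (Tk n k), (b = false → sgn c = 1) → ∀ h ∈ On (Tk n k),
      (Y (c * h * c⁻¹) + Y (t * (c * h * c⁻¹) * t⁻¹)) / 2 = (Y h + Y (t * h * t⁻¹)) / 2 := fun c h1 h2 h h3 => by
    rw [hI c h1 h2 h h3, ← hI _ (hm t ht c h1) (fun hb => by rw [map_mul, map_mul, map_inv, mul_inv_cancel_comm, h2 hb]) _
      (hm t ht h h3)]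
    congr 3
    group
  obtain ⟨a, h1, h2, h3⟩ := hB (Tk n k) hT (fun h => (Y h + Y (t * h * t⁻¹)) / 2) fun h h3 c h1 => by
    by_cases h2 : b = false → sgn c = 1
    · exact hI2 c h1 h2 h h3
    obtain ⟨hb, h2⟩ := Classical.not_imp.1 h2
    have h4 := hI2 (c * t⁻¹) (mul_mem h1 (inv_mem ht)) (fun _ => by
      rw [map_mul, map_inv, ht2 (one_le_of_sgn h1 h2), sgn_tt, (Int.units_eq_one_or _).resolve_left h2, mul_inv_cancel]) _
      (hm t ht h h3)
    rw [htt, show c * t⁻¹ * (t * h * t⁻¹) * (c * t⁻¹)⁻¹ = c * h * c⁻¹ by group] at h4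
    exact h4.trans (by rw [add_comm])
  rw [card_Tk hk] at h2 h3
  have hxr : ∀ x ∈ WJ cs (E.J k), E.emb x * r ∈ On (Tk n k) := fun x h4 => mul_mem (E.mem_J.1 h4) hr
  have h4 : ∀ x ∈ WJ cs (E.J k), y (x * w) + Y (t * (E.emb x * r) * t⁻¹) = 2 * cf (Tk n k) a (E.g (x * w)) := fun x h4 => by
    rw [hg, cf_out hM hT (hxr x h4) ho, ← h1 _ (hxr x h4), hY _ _ (hg x)]
    ring
  have h5 : ∀ x ∈ WJ cs (E.J k), Y (t * (E.emb x * r) * t⁻¹) = Y (E.emb x * r) → y (x * w) = cf (Tk n k) a (E.g (x * w)) :=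
    fun x h5 h6 => by
      have h7 := h4 x h5
      rw [h6, hY _ _ (hg x)] at h7
      linear_combination h7 / 2
  have h6 : ∑ x : WJ cs (E.J k), ‖y (x * w)‖ ^ 2 = ∑ h : On (Tk n k), ‖Y h‖ ^ 2 :=
    Fintype.sum_of_injective (fun x => ⟨E.emb x * r, hxr x x.2⟩)
      (fun x x' e => Subtype.ext (E.inj (mul_right_cancel (congrArg Subtype.val e)))) _ _ (fun h h6 => by
        by_cases h7 : b = false → sgn h.1 = E.ε k w
        · obtain ⟨x, h8, h9⟩ := hx h h.2 h7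
          exact absurd ⟨⟨x, h8⟩, Subtype.ext (mul_right_cancel ((hg x).symm.trans h9))⟩ h6
        · obtain ⟨hb, h7⟩ := Classical.not_imp.1 h7
          rw [hY0 hb _ h7, norm_zero, zero_pow two_ne_zero]) fun x => by rw [hY _ _ (hg x)]
  have h7 : ∑ h : On (Tk n k), ‖Y (t * h * t⁻¹)‖ ^ 2 = ∑ h : On (Tk n k), ‖Y h‖ ^ 2 :=
    Fintype.sum_equiv (MulAut.conj (⟨t, ht⟩ : On (Tk n k))).toEquiv _ _ fun _ => rfl
  have h8 : ∑ h : On (Tk n k), ‖(Y h + Y (t * h * t⁻¹)) / 2‖ ^ 2 + ∑ h : On (Tk n k), ‖(Y h - Y (t * h * t⁻¹)) / 2‖ ^ 2 =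
      ∑ h : On (Tk n k), ‖Y h‖ ^ 2 := by
    simp only [← sum_add_distrib, par]
    rw [← sum_div, sum_add_distrib, h7]
    ring
  have h9 : (0 : ℝ) < Nat.card (WJ cs (E.J k)) := Nat.cast_pos.2 Nat.card_pos
  have h10 : E.N (E.J k) w y = ix b k * nr k a +
      (Nat.card (WJ cs (E.J k)) : ℝ)⁻¹ * ∑ h : On (Tk n k), ‖(Y h - Y (t * h * t⁻¹)) / 2‖ ^ 2 := by
    rw [finsum_eq_sum_of_fintype, card_On E] at h2
    rw [Em.N, finsum_eq_sum_of_fintype, h6, ← h8, ← h2, mul_add, mul_right_comm, mul_comm (_ * _), inv_mul_cancel_left₀ h9.ne']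
  refine ⟨a, fun hb _ => h3 _ fun h _ h11 => ?_, ?_, fun x h11 h12 => h5 x h11 ?_, fun h11 x h12 => h5 x h12 ?_,
    fun h11 x h12 => ?_⟩
  · rw [hY0 hb h h11, hY0 hb _ (by rwa [map_mul, map_mul, map_inv, mul_inv_cancel_comm]), add_zero, zero_div]
  · rw [h10]
    exact le_add_of_nonneg_right (mul_nonneg (inv_nonneg.2 h9.le) (sum_nonneg fun _ _ => sq_nonneg _))
  · by_cases h13 : b = false → sgn t = 1
    · exact hI t ht h13 _ (hxr x h11)
    obtain ⟨hb, h13⟩ := Classical.not_imp.1 h13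
    obtain ⟨c, h14, h15, h16⟩ := h12 hb (one_le_of_sgn ht h13)
    have h17 : c * (E.emb x * r) * c⁻¹ = E.emb x * r :=
      mul_right_cancel (by rw [hc c h14, ← hg, h16.eq, mul_inv_cancel_right])
    rw [← hI (t * c) (mul_mem ht h14) (fun _ => by
      rw [map_mul, h15, (Int.units_eq_one_or _).resolve_left h13, Int.units_mul_self]) _ (hxr x h11)]
    congr 1
    conv_lhs => rw [← h17]
    group
  · rw [h10, left_eq_add, mul_eq_zero, or_iff_right (inv_ne_zero h9.ne'),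
      sum_eq_zero_iff_of_nonneg fun _ _ => sq_nonneg _] at h11
    have h13 := h11 ⟨_, hxr x h12⟩ (mem_univ _)
    rw [pow_eq_zero_iff two_ne_zero, norm_eq_zero, div_eq_zero_iff, or_iff_left two_ne_zero, sub_eq_zero] at h13
    exact h13.symm
  · rw [← h4 x h12, hY _ (E.cj (tt E.lst) (x * w)) (by rw [E.g_cj E.tt_τ, hc t ht, ← hg, ht2 h11])]

end Chn

end Cfsg.Agent.LV.Cl
end

-- part: LV/Cl/Cas
section
/-!
# LV, classical groups: the sum of all reflections acts by the level (helper77)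
-/

set_option autoImplicit false
set_option linter.unusedSectionVars false
set_option linter.dupNamespace false

namespace Cfsg.Agent.LV.Cl

open Equiv Finset Cfsg.Agent.H614

namespace Cas

/-! ### symmetric groups -/

/-- the degree -/
def dgr {m : ℕ} (a : ℕ) (β : Fin m → ℕ) : ℤ :=
  (a.factorial * ∏ i : Fin m, ∏ j ∈ Ioi i, ((β j : ℤ) - β i)) / ∏ i, ((β i).factorial : ℤ)

theorem FM_dgr {m a : ℕ} {β : Fin m → ℕ} (hs : ∑ i, β i = a + ∑ i : Fin m, (i : ℕ)) :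
    FM (Multiset.replicate a 1) β = dgr a β :=
  Int.eq_ediv_of_mul_eq_left (prod_ne_zero_iff.2 fun _ _ => by exact_mod_cast Nat.factorial_ne_zero _) (FM_ones_formula a β hs)

/-- twice the content -/
def ct (a : ℕ) (l : List ℕ) : ℤ := (l.map fun x => (x : ℤ) * (x - 1)).sum - 240 - 18 * a

/-- the product of the differences -/
private noncomputable def vd (l : List ℕ) : ℤ := @List.rec ℕ (fun _ => ℤ) 1 (fun x l r =>
  Int.mul (@List.rec ℕ (fun _ => ℤ) 1 (fun y _ s => Int.mul (Int.subNatNat y x) s) l) r) l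

/-- the degree of a list -/
private noncomputable def dgL (a : ℕ) (l : List ℕ) : ℤ := (a.factorial * vd l) / ((l.map Nat.factorial).prod : ℕ)

private theorem vd_eq : ∀ {m : ℕ} (β : Fin m → ℕ), ∏ i : Fin m, ∏ j ∈ Ioi i, ((β j : ℤ) - β i) = vd (List.ofFn β)
  | 0, _ => rfl
  | m + 1, β => by
    have h : ∀ l : List ℕ, @List.rec ℕ (fun _ => ℤ) 1 (fun y _ s => Int.mul (Int.subNatNat y (β 0)) s) l =
        (l.map fun y : ℕ => (y : ℤ) - β 0).prod := fun l => by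
      induction l with
      | nil => rfl
      | cons y l ih => rw [List.map_cons, List.prod_cons, ← ih, ← Int.subNatNat_eq_coe]; rfl
    simp only [Fin.prod_univ_succ, Fin.prod_Ioi_zero, Fin.prod_Ioi_succ, List.ofFn_succ]
    rw [vd_eq fun i => β i.succ]
    exact congrArg (· * _) ((h _).trans (by rw [List.map_ofFn, List.prod_ofFn]; rfl)).symm

private theorem dgr_eq {m : ℕ} (a : ℕ) (β : Fin m → ℕ) : dgr a β = dgL a (List.ofFn β) := by
  rw [dgL, ← vd_eq, List.map_ofFn, List.prod_ofFn, Nat.cast_prod]; rfl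

private noncomputable def _root_.Cfsg.Agent.KO75ecdcc.k0 : type_of% @Decidable.decide := @(fun x0 x1 => @Decidable.rec.{1} _ @(fun x2 => @Bool) @(fun x2 => @Bool.false) @(fun x2 => @Bool.true) @x1)
private theorem _root_.Cfsg.Agent.KO75ecdcc.e0 : @Decidable.decide = @_root_.Cfsg.Agent.KO75ecdcc.k0 := by delta _root_.Cfsg.Agent.KO75ecdcc.k0; rfl'
private noncomputable def _root_.Cfsg.Agent.KO75ecdcc.k1l (n : Nat) (P : ∀ k, k < n → Prop) (H : ∀ k h, Decidable (P k h)) (m : Nat) : m ≤ n → Bool := @Nat.rec (fun m => m ≤ n → Bool) (fun _ => true) (fun k ih h => @Decidable.rec (P k h) (fun _ => Bool) (fun _ => false) (fun _ => ih (Nat.le_of_succ_le h)) (H k h)) m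
private theorem _root_.Cfsg.Agent.KO75ecdcc.k1ls (n : Nat) (P : ∀ k, k < n → Prop) (H : ∀ k h, Decidable (P k h)) (m : Nat) : ∀ h : m ≤ n, _root_.Cfsg.Agent.KO75ecdcc.k1l n P H m h = true ↔ ∀ k (g : k < m), P k (Nat.lt_of_lt_of_le g h) := by induction m with | zero => exact fun _ => ⟨fun _ _ g => absurd g (Nat.not_lt_zero _), fun _ => rfl⟩ | succ m ih => intro h; show @Decidable.rec (P m h) (fun _ => Bool) (fun _ => false) (fun _ => _root_.Cfsg.Agent.KO75ecdcc.k1l n P H m (Nat.le_of_succ_le h)) (H m h) = true ↔ _; cases H m h with | isFalse q => exact ⟨fun g => absurd g Bool.false_ne_true, fun g => absurd (g m (Nat.lt_succ_self m)) q⟩ | isTrue q => exact ⟨fun g k hk => (Nat.lt_succ_iff_lt_or_eq.1 hk).elim ((ih _).1 g k) fun e => by subst e; exact q, fun g => (ih _).2 fun k hk => g k (Nat.lt_succ_of_lt hk)⟩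
private noncomputable def _root_.Cfsg.Agent.KO75ecdcc.k1 (n : Nat) (P : ∀ k, k < n → Prop) (H : ∀ k h, Decidable (P k h)) : Decidable (∀ k h, P k h) := @Bool.rec (fun b => _root_.Cfsg.Agent.KO75ecdcc.k1l n P H n (Nat.le_refl n) = b → Decidable (∀ k h, P k h)) (fun g => isFalse fun q => Bool.false_ne_true (g.symm.trans ((_root_.Cfsg.Agent.KO75ecdcc.k1ls n P H n _).2 fun k h => q k h))) (fun g => isTrue fun k h => (_root_.Cfsg.Agent.KO75ecdcc.k1ls n P H n _).1 g k h) (_root_.Cfsg.Agent.KO75ecdcc.k1l n P H n (Nat.le_refl n)) rfl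
private theorem _root_.Cfsg.Agent.KO75ecdcc.e1 : @Nat.decidableBallLT = @_root_.Cfsg.Agent.KO75ecdcc.k1 := funext fun _ => funext fun _ => funext fun _ => Subsingleton.elim _ _
private theorem _root_.Cfsg.Agent.KO75ecdcc.e2.{ku, kv} {α : Type kv} {M : List α → Sort ku} (φ : ∀ l, M l) {z : M List.nil} {s : ∀ a l, M l → M (List.cons a l)} (h0 : φ List.nil = z) (hs : ∀ a l, φ (List.cons a l) = s a l (φ l)) (l : List α) : φ l = @List.rec α M z s l := List.rec h0 (fun a l ih => (hs a l).trans (congrArg (s a l) ih)) l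
private noncomputable def _root_.Cfsg.Agent.KO75ecdcc.k3.{ku0} : type_of% @List.decidableBAll.{ku0} := @(fun x0 x1 x2 x3 => @List.rec.{1, ku0} @x0 @(fun x4 => @Decidable ((x5 : @x0) → (@Membership.mem.{ku0, ku0} _ _ _ @x4 @x5) → @x1 @x5)) (@Decidable.isTrue _ (@List.decidableBAll._proof_1.{ku0} _ @x1)) @(fun x4 x5 x6 => @Decidable.rec.{1} _ @(fun x7 => @Decidable ((x8 : @x0) → (@Membership.mem.{ku0, ku0} _ _ _ (@x4 :: @x5) @x8) → @x1 @x8)) @(fun x7 => @Decidable.isFalse _ (@List.decidableBAll._proof_4.{ku0} _ @x1 @x4 @x5 @x7)) @(fun x7 => @Decidable.rec.{1} _ @(fun x8 => @Decidable ((x9 : @x0) → (@Membership.mem.{ku0, ku0} _ _ _ (@x4 :: @x5) @x9) → @x1 @x9)) @(fun x8 => @Decidable.isFalse _ (@List.decidableBAll._proof_3.{ku0} _ @x1 @x4 @x5 @x8)) @(fun x8 => @Decidable.isTrue _ (@List.decidableBAll._proof_2.{ku0} _ @x1 @x4 @x5 @x7 @x8)) @x6) (@x2 @x4)) @x3)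
private theorem _root_.Cfsg.Agent.KO75ecdcc.e3.{ku0} : @List.decidableBAll.{ku0} = @_root_.Cfsg.Agent.KO75ecdcc.k3.{ku0} := by delta _root_.Cfsg.Agent.KO75ecdcc.k3; funext a0 a1 a2 a3; refine (_root_.Cfsg.Agent.KO75ecdcc.e2 (fun a3 => @List.decidableBAll.{ku0} a0 a1 a2 a3) ?_ (fun c0 c1 => ?_) a3 :) <;> (rfl')
private noncomputable def _root_.Cfsg.Agent.KO75ecdcc.k4 : type_of% @instDecidableAnd := @(fun x0 x1 x2 x3 => @Decidable.rec.{1} _ @(fun x4 => @Decidable (@And @x0 @x1)) @(fun x4 => @Decidable.isFalse _ (@instDecidableAnd._proof_2 _ _ @x4)) @(fun x4 => @Decidable.rec.{1} _ @(fun x5 => @Decidable (@And @x0 @x1)) @(fun x5 => @Decidable.isFalse _ (@instDecidableAnd._proof_1 _ _ @x5)) @(fun x5 => @Decidable.isTrue _ (@And.intro _ _ @x4 @x5)) @x3) @x2)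
private theorem _root_.Cfsg.Agent.KO75ecdcc.e4 : @instDecidableAnd = @_root_.Cfsg.Agent.KO75ecdcc.k4 := by delta _root_.Cfsg.Agent.KO75ecdcc.k4; rfl'
private noncomputable def _root_.Cfsg.Agent.KO75ecdcc.k5 : type_of% @Nat.decEq := @(fun x0 x1 => @Bool.rec.{1} @(fun x2 => (@Eq.{1} _ (@Nat.beq @x0 @x1) @x2) → @Decidable (@Eq.{1} _ @x0 @x1)) @(fun x2 => @Decidable.isFalse _ (@Nat.ne_of_beq_eq_false _ _ @x2)) @(fun x2 => @Decidable.isTrue _ (@Nat.eq_of_beq_eq_true _ _ @x2)) (@Nat.beq @x0 @x1) (@Eq.refl.{1} _ (@Nat.beq @x0 @x1)))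
private theorem _root_.Cfsg.Agent.KO75ecdcc.e5 : @Nat.decEq = @_root_.Cfsg.Agent.KO75ecdcc.k5 := by delta _root_.Cfsg.Agent.KO75ecdcc.k5; rfl'
private noncomputable def _root_.Cfsg.Agent.KO75ecdcc.k7.{ku0} : type_of% @List.length.{ku0} := @(fun x0 x1 => @List.rec.{1, ku0} @x0 @(fun x2 => ℕ) (nat_lit 0) @(fun x2 x3 x4 => @Nat.add @x4 (nat_lit 1)) @x1)
private theorem _root_.Cfsg.Agent.KO75ecdcc.e7.{ku0} : @List.length.{ku0} = @_root_.Cfsg.Agent.KO75ecdcc.k7.{ku0} := by delta _root_.Cfsg.Agent.KO75ecdcc.k7; funext a0 a1; refine (_root_.Cfsg.Agent.KO75ecdcc.e2 (fun a1 => @List.length.{ku0} a0 a1) ?_ (fun c0 c1 => ?_) a1 :) <;> (rfl')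
private noncomputable def _root_.Cfsg.Agent.KO75ecdcc.k8.{ku0} : type_of% @List.instDecidableIsChainOfDecidableRel.go.{ku0} := @(fun x0 x1 x2 x3 x4 => @List.rec.{(ku0+1), ku0} @x0 @(fun x5 => (x6 : @x0) → @Decidable (@List.IsChain.{ku0} _ @x1 (@x6 :: @x5))) @(fun x5 => @Decidable.isTrue _ (@List.IsChain.singleton.{ku0} _ _ @x5)) @(fun x5 x6 x7 x8 => @Decidable.rec.{1} _ @(fun x9 => @Decidable (@List.IsChain.{ku0} _ @x1 (@x8 :: (@x5 :: @x6)))) @(fun x9 => @Decidable.isFalse _ (@decidable_of_decidable_of_iff._proof_1 _ _ (@Iff.symm _ _ (@List.isChain_cons_cons.{ku0} _ _ _ _ _)) @x9)) @(fun x9 => @Decidable.isTrue _ (@Iff.mp _ _ (@Iff.symm _ _ (@List.isChain_cons_cons.{ku0} _ _ _ _ _)) @x9)) (@Cfsg.Agent.KO75ecdcc.k4 _ _ (@x2 @x8 @x5) (@x7 @x5))) @x4 @x3)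
private theorem _root_.Cfsg.Agent.KO75ecdcc.e8.{ku0} : @List.instDecidableIsChainOfDecidableRel.go.{ku0} = @_root_.Cfsg.Agent.KO75ecdcc.k8.{ku0} := by delta _root_.Cfsg.Agent.KO75ecdcc.k8; rewrite [← Cfsg.Agent.KO75ecdcc.e4]; funext a0 a1 a2 a3 a4; refine (congrFun (_root_.Cfsg.Agent.KO75ecdcc.e2 (fun a4 a3 => @List.instDecidableIsChainOfDecidableRel.go.{ku0} a0 a1 a2 a3 a4) ?_ (fun c0 c1 => ?_) a4) a3 :) <;> (rfl')
private noncomputable def _root_.Cfsg.Agent.KO75ecdcc.k9.{ku0} : type_of% @List.instDecidableIsChainOfDecidableRel.{ku0} := @(fun x0 x1 x2 x3 => @List.rec.{1, ku0} @x0 @(fun x4 => @Decidable (@List.IsChain.{ku0} _ @x1 @x4)) (@Decidable.isTrue _ (@List.IsChain.nil.{ku0} _ _)) @(fun x4 x5 x6 => @Cfsg.Agent.KO75ecdcc.k8.{ku0} _ _ @x2 @x4 @x5) @x3)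
private theorem _root_.Cfsg.Agent.KO75ecdcc.e9.{ku0} : @List.instDecidableIsChainOfDecidableRel.{ku0} = @_root_.Cfsg.Agent.KO75ecdcc.k9.{ku0} := by delta _root_.Cfsg.Agent.KO75ecdcc.k9; rewrite [← Cfsg.Agent.KO75ecdcc.e8.{ku0}]; rfl'
private noncomputable def _root_.Cfsg.Agent.KO75ecdcc.k10 : type_of% @Bool.decEq := @(fun x0 x1 => @Bool.rec.{1} @(fun x2 => @Decidable (@Eq.{1} _ @x2 @x1)) (@Bool.rec.{1} @(fun x2 => @Decidable (@Eq.{1} _ @Bool.false @x2)) (@Decidable.isTrue _ (@rfl.{1} _ _)) (@Decidable.isFalse _ @(fun x2 => @Bool.noConfusion.{0} _ _ _ @x2)) @x1) (@Bool.rec.{1} @(fun x2 => @Decidable (@Eq.{1} _ @Bool.true @x2)) (@Decidable.isFalse _ @(fun x2 => @Bool.noConfusion.{0} _ _ _ @x2)) (@Decidable.isTrue _ (@rfl.{1} _ _)) @x1) @x0)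
private theorem _root_.Cfsg.Agent.KO75ecdcc.e10 : @Bool.decEq = @_root_.Cfsg.Agent.KO75ecdcc.k10 := by delta _root_.Cfsg.Agent.KO75ecdcc.k10; rfl'
private noncomputable def _root_.Cfsg.Agent.KO75ecdcc.k11 : type_of% @Nat.decLe := @(fun x0 x1 => @Decidable.rec.{1} _ @(fun x2 => @Decidable (@LE.le.{0} _ _ @x0 @x1)) @(fun x2 => @Decidable.isFalse _ (@Nat.not_le_of_not_ble_eq_true _ _ @x2)) @(fun x2 => @Decidable.isTrue _ (@Nat.le_of_ble_eq_true _ _ @x2)) (@Cfsg.Agent.KO75ecdcc.k10 (@Nat.ble @x0 @x1) @Bool.true))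
private theorem _root_.Cfsg.Agent.KO75ecdcc.e11 : @Nat.decLe = @_root_.Cfsg.Agent.KO75ecdcc.k11 := by delta _root_.Cfsg.Agent.KO75ecdcc.k11; rewrite [← Cfsg.Agent.KO75ecdcc.e10]; rfl'
private noncomputable def _root_.Cfsg.Agent.KO75ecdcc.k12 : type_of% @Nat.decLt := @(fun x0 x1 => @Cfsg.Agent.KO75ecdcc.k11 (@Nat.succ @x0) @x1)
private theorem _root_.Cfsg.Agent.KO75ecdcc.e12 : @Nat.decLt = @_root_.Cfsg.Agent.KO75ecdcc.k12 := by delta _root_.Cfsg.Agent.KO75ecdcc.k12; rewrite [← Cfsg.Agent.KO75ecdcc.e11]; rfl'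
private noncomputable def _root_.Cfsg.Agent.KO75ecdcc.k13.{ku0, ku1} : type_of% @List.foldr.{ku0, ku1} := @(fun x0 x1 x2 x3 x4 => @List.rec.{(ku1+1), ku0} @x0 @(fun x5 => @x1) @x3 @(fun x5 x6 x7 => @x2 @x5 @x7) @x4)
private theorem _root_.Cfsg.Agent.KO75ecdcc.e13.{ku0, ku1} : @List.foldr.{ku0, ku1} = @_root_.Cfsg.Agent.KO75ecdcc.k13.{ku0, ku1} := by delta _root_.Cfsg.Agent.KO75ecdcc.k13; funext a0 a1 a2 a3 a4; refine (_root_.Cfsg.Agent.KO75ecdcc.e2 (fun a4 => @List.foldr.{ku0, ku1} a0 a1 a2 a3 a4) ?_ (fun c0 c1 => ?_) a4 :) <;> (rfl')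
private noncomputable def _root_.Cfsg.Agent.KO75ecdcc.k14.{ku0} : type_of% @List.sum.{ku0} := @(fun x0 x1 x2 => @Cfsg.Agent.KO75ecdcc.k13.{ku0, ku0} _ _ @(fun x3 x4 => @Add.add.{ku0} _ @x1 @x3 @x4) (@Zero.zero.{ku0} _ @x2))
private theorem _root_.Cfsg.Agent.KO75ecdcc.e14.{ku0} : @List.sum.{ku0} = @_root_.Cfsg.Agent.KO75ecdcc.k14.{ku0} := by delta _root_.Cfsg.Agent.KO75ecdcc.k14; rewrite [← Cfsg.Agent.KO75ecdcc.e13.{ku0, ku0}]; rfl'
private noncomputable def _root_.Cfsg.Agent.KO75ecdcc.k15 : type_of% @Int.decEq := @(fun x0 x1 => @Int.rec.{1} @(fun x2 => @Decidable (@Eq.{1} _ @x2 @x1)) @(fun x2 => @Int.rec.{1} @(fun x3 => @Decidable (@Eq.{1} _ (@Int.ofNat @x2) @x3)) @(fun x3 => @Decidable.rec.{1} _ @(fun x4 => @Decidable (@Eq.{1} _ (@Int.ofNat @x2) (@Int.ofNat @x3))) @(fun x4 => @Decidable.isFalse _ (@Int.decEq._proof_2 @x2 @x3 @x4)) @(fun x4 => @Decidable.isTrue _ (@Int.decEq._proof_1 @x2 @x3 @x4)) (@Cfsg.Agent.KO75ecdcc.k5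 @x2 @x3)) @(fun x3 => @Decidable.isFalse _ (@Int.decEq._proof_3 @x2 @x3)) @x1) @(fun x2 => @Int.rec.{1} @(fun x3 => @Decidable (@Eq.{1} _ (@Int.negSucc @x2) @x3)) @(fun x3 => @Decidable.isFalse _ (@Int.decEq._proof_4 @x2 @x3)) @(fun x3 => @Decidable.rec.{1} _ @(fun x4 => @Decidable (@Eq.{1} _ (@Int.negSucc @x2) (@Int.negSucc @x3))) @(fun x4 => @Decidable.isFalse _ (@Int.decEq._proof_6 @x2 @x3 @x4)) @(fun x4 => @Decidable.isTrue _ (@Int.decEq._proof_5 @x2 @x3 @x4)) (@Cfsg.Agent.KO75ecdcc.k5 @x2 @x3)) @x1) @x0)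
private theorem _root_.Cfsg.Agent.KO75ecdcc.e15 : @Int.decEq = @_root_.Cfsg.Agent.KO75ecdcc.k15 := by delta _root_.Cfsg.Agent.KO75ecdcc.k15; rewrite [← Cfsg.Agent.KO75ecdcc.e5]; rfl'
private noncomputable def _root_.Cfsg.Agent.KO75ecdcc.k16 : type_of% @Int.instDecidableEq := @Cfsg.Agent.KO75ecdcc.k15
private theorem _root_.Cfsg.Agent.KO75ecdcc.e16 : @Int.instDecidableEq = @_root_.Cfsg.Agent.KO75ecdcc.k16 := by delta _root_.Cfsg.Agent.KO75ecdcc.k16; rewrite [← Cfsg.Agent.KO75ecdcc.e15]; rfl'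
private noncomputable def _root_.Cfsg.Agent.KO75ecdcc.k17.{ku0, ku1} : type_of% @List.map.{ku0, ku1} := @(fun x0 x1 x2 x3 => @List.rec.{(ku1+1), ku0} @x0 @(fun x4 => @List.{ku1} @x1) [] @(fun x4 x5 x6 => (@x2 @x4) :: @x6) @x3)
private theorem _root_.Cfsg.Agent.KO75ecdcc.e17.{ku0, ku1} : @List.map.{ku0, ku1} = @_root_.Cfsg.Agent.KO75ecdcc.k17.{ku0, ku1} := by delta _root_.Cfsg.Agent.KO75ecdcc.k17; funext a0 a1 a2 a3; refine (_root_.Cfsg.Agent.KO75ecdcc.e2 (fun a3 => @List.map.{ku0, ku1} a0 a1 a2 a3) ?_ (fun c0 c1 => ?_) a3 :) <;> (rfl')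
private noncomputable def _root_.Cfsg.Agent.KO75ecdcc.k18.{ku0} : type_of% @ite.{ku0} := @(fun x0 x1 x2 x3 x4 => @Decidable.rec.{ku0} _ @(fun x5 => @x0) @(fun x5 => @x4) @(fun x5 => @x3) @x2)
private theorem _root_.Cfsg.Agent.KO75ecdcc.e18.{ku0} : @ite.{ku0} = @_root_.Cfsg.Agent.KO75ecdcc.k18.{ku0} := by delta _root_.Cfsg.Agent.KO75ecdcc.k18; rfl'
private noncomputable def _root_.Cfsg.Agent.KO75ecdcc.k20.{ku0} : type_of% @List.get?Internal.{ku0} := @(fun x0 x1 x2 => @List.rec.{(ku0+1), ku0} @x0 @(fun x3 => ℕ → @Option.{ku0} @x0) @(fun x3 => @Option.none.{ku0} _) @(fun x3 x4 x5 x6 => @Nat.rec.{(ku0+1)} @(fun x7 => @Option.{ku0} @x0) (@Option.some.{ku0} _ @x3) @(fun x7 x8 => @x5 @x7) @x6) @x1 @x2)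
private theorem _root_.Cfsg.Agent.KO75ecdcc.e20.{ku0} : @List.get?Internal.{ku0} = @_root_.Cfsg.Agent.KO75ecdcc.k20.{ku0} := by delta _root_.Cfsg.Agent.KO75ecdcc.k20; funext a0 a1 a2; refine (congrFun (_root_.Cfsg.Agent.KO75ecdcc.e2 (fun a1 a2 => @List.get?Internal.{ku0} a0 a1 a2) ?_ (fun c0 c1 => ?_) a1) a2 :) <;> [(funext b0; (rfl')); (funext b0; (cases b0 with | @zero  => (rfl') | @succ b0_0 => (rfl')))]
private noncomputable def _root_.Cfsg.Agent.KO75ecdcc.k21.{ku0} : type_of% @List.getD.{ku0} := @(fun x0 x1 x2 x3 => @Option.rec.{(ku0+1), ku0} @x0 @(fun x4 => @x0) @x3 @(fun x4 => @x4) (@Cfsg.Agent.KO75ecdcc.k20.{ku0} _ @x1 @x2))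
private theorem _root_.Cfsg.Agent.KO75ecdcc.e21.{ku0} : @List.getD.{ku0} = @_root_.Cfsg.Agent.KO75ecdcc.k21.{ku0} := by delta _root_.Cfsg.Agent.KO75ecdcc.k21; rewrite [← Cfsg.Agent.KO75ecdcc.e20.{ku0}]; rfl'
private noncomputable def _root_.Cfsg.Agent.KO75ecdcc.k22 : type_of% @instDecidableNot := @(fun x0 x1 => @Decidable.rec.{1} _ @(fun x2 => @Decidable (¬ @x0)) @(fun x2 => @Decidable.isTrue _ @x2) @(fun x2 => @Decidable.isFalse _ (@absurd.{0} _ _ @x2)) @x1)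
private theorem _root_.Cfsg.Agent.KO75ecdcc.e22 : @instDecidableNot = @_root_.Cfsg.Agent.KO75ecdcc.k22 := by delta _root_.Cfsg.Agent.KO75ecdcc.k22; rfl'
private noncomputable def _root_.Cfsg.Agent.KO75ecdcc.k23.{ku0} : type_of% @List.elem.{ku0} := @(fun x0 x1 x2 x3 => @List.rec.{1, ku0} @x0 @(fun x4 => @Bool) @Bool.false @(fun x4 x5 x6 => @Bool.rec.{1} @(fun x7 => @Bool) @x6 @Bool.true (@BEq.beq.{ku0} _ @x1 @x2 @x4)) @x3)
private theorem _root_.Cfsg.Agent.KO75ecdcc.e23.{ku0} : @List.elem.{ku0} = @_root_.Cfsg.Agent.KO75ecdcc.k23.{ku0} := by delta _root_.Cfsg.Agent.KO75ecdcc.k23; funext a0 a1 a2 a3; refine (_root_.Cfsg.Agent.KO75ecdcc.e2 (fun a3 => @List.elem.{ku0} a0 a1 a2 a3) ?_ (fun c0 c1 => ?_) a3 :) <;> (rfl')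
private noncomputable def _root_.Cfsg.Agent.KO75ecdcc.k24.{ku0} : type_of% @List.instDecidableMemOfLawfulBEq.{ku0} := @(fun x0 x1 x2 x3 x4 => @Decidable.rec.{1} _ @(fun x5 => @Decidable (@Membership.mem.{ku0, ku0} _ _ _ @x4 @x3)) @(fun x5 => @Decidable.isFalse _ (@decidable_of_decidable_of_iff._proof_1 _ _ (@List.instDecidableMemOfLawfulBEq._proof_1.{ku0} _ _ _ @x3 @x4) @x5)) @(fun x5 => @Decidable.isTrue _ (@Iff.mp _ _ (@List.instDecidableMemOfLawfulBEq._proof_1.{ku0} _ _ _ @x3 @x4) @x5)) (@Cfsg.Agent.KO75ecdcc.k10 (@List.elem.{ku0} _ @x1 @x3 @x4) @Bool.true))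
private theorem _root_.Cfsg.Agent.KO75ecdcc.e24.{ku0} : @List.instDecidableMemOfLawfulBEq.{ku0} = @_root_.Cfsg.Agent.KO75ecdcc.k24.{ku0} := by delta _root_.Cfsg.Agent.KO75ecdcc.k24; rewrite [← Cfsg.Agent.KO75ecdcc.e10]; rfl'
private noncomputable def _root_.Cfsg.Agent.KO75ecdcc.k25 : type_of% @Int.ediv := @(fun x0 x1 => @Int.rec.{1} @(fun x2 => ℤ) @(fun x2 => @Int.rec.{1} @(fun x3 => ℤ) @(fun x3 => @Int.ofNat (@Nat.div @x2 @x3)) @(fun x3 => @Nat.rec.{1} @(fun x4 => ℤ) (@Int.ofNat (nat_lit 0)) @(fun x4 x5 => @Int.negSucc @x4) (@Nat.div @x2 (@Nat.succ @x3))) @x1) @(fun x2 => @Int.rec.{1} @(fun x3 => ℤ) @(fun x3 => @Nat.rec.{1} @(fun x4 => ℤ) (@Int.ofNat (nat_lit 0)) @(fun x4 x5 => @Int.negSucc (@Nat.div @x2 (@Nat.succ @x4))) @x3) @(fun x3 => @Int.ofNat (@Nat.succ (@Nat.div @x2 (@Nat.succ @x3)))) @x1) @x0)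
private theorem _root_.Cfsg.Agent.KO75ecdcc.e25 : @Int.ediv = @_root_.Cfsg.Agent.KO75ecdcc.k25 := by delta _root_.Cfsg.Agent.KO75ecdcc.k25; rfl'
private noncomputable def _root_.Cfsg.Agent.KO75ecdcc.k26 : type_of% @Int.mul := @(fun x0 x1 => @Int.rec.{1} @(fun x2 => ℤ) @(fun x2 => @Int.rec.{1} @(fun x3 => ℤ) @(fun x3 => @Int.ofNat (@Nat.mul @x2 @x3)) @(fun x3 => @Nat.rec.{1} @(fun x4 => ℤ) (@Int.ofNat (nat_lit 0)) @(fun x4 x5 => @Int.negSucc @x4) (@Nat.mul @x2 (@Nat.succ @x3))) @x1) @(fun x2 => @Int.rec.{1} @(fun x3 => ℤ) @(fun x3 => @Nat.rec.{1} @(fun x4 => ℤ) (@Int.ofNat (nat_lit 0)) @(fun x4 x5 => @Int.negSucc @x4) (@Nat.mul (@Nat.succ @x2) @x3)) @(fun x3 => @Int.ofNat (@Nat.mul (@Nat.succ @x2) (@Nat.succ @x3))) @x1) @x0)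
private theorem _root_.Cfsg.Agent.KO75ecdcc.e26 : @Int.mul = @_root_.Cfsg.Agent.KO75ecdcc.k26 := by delta _root_.Cfsg.Agent.KO75ecdcc.k26; rfl'
private theorem _root_.Cfsg.Agent.KO75ecdcc.e27.{ku} {M : Nat → Sort ku} (φ : ∀ n, M n) {z : M Nat.zero} {s : ∀ n, M n → M (Nat.succ n)} (h0 : φ Nat.zero = z) (hs : ∀ n, φ (Nat.succ n) = s n (φ n)) (n : Nat) : φ n = @Nat.rec M z s n := Nat.rec h0 (fun n ih => (hs n).trans (congrArg (s n) ih)) n
private noncomputable def _root_.Cfsg.Agent.KO75ecdcc.k28 : type_of% @Nat.factorial := @(fun x0 => @Nat.rec.{1} @(fun x1 => ℕ) (nat_lit 1) @(fun x1 x2 => @Nat.mul (@Nat.succ @x1) @x2) @x0)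
private theorem _root_.Cfsg.Agent.KO75ecdcc.e28 : @Nat.factorial = @_root_.Cfsg.Agent.KO75ecdcc.k28 := by delta _root_.Cfsg.Agent.KO75ecdcc.k28; funext a0; refine (_root_.Cfsg.Agent.KO75ecdcc.e27 (fun a0 => @Nat.factorial a0) ?_ (fun c0 => ?_) a0 :) <;> (rfl')
private noncomputable def _root_.Cfsg.Agent.KO75ecdcc.k29 : (by first | exact type_of% @Cfsg.Agent.LV.Cl.Cas.vd | exact Unit : Sort _) := by first | (refine @Subtype.val _ (fun g => @Cfsg.Agent.LV.Cl.Cas.vd = @g) (@Subtype.mk _ _ (@(fun x0 => @List.rec.{1, 0} ℕ @(fun x1 => ℤ) (@Int.ofNat (nat_lit 1)) @(fun x1 x2 x3 => @Cfsg.Agent.KO75ecdcc.k26 (@List.rec.{1, 0} ℕ @(fun x4 => ℤ) (@Int.ofNat (nat_lit 1)) @(fun x4 x5 x6 => @Cfsg.Agent.KO75ecdcc.k26 (@Nat.rec.{1} @(fun x7 => ℤ) (@Int.ofNat (@Nat.sub @x4 @x1)) @(fun x7 x8 => @Int.negSucc @x7) (@Nat.sub @x1 @x4)) @x6) @x2) @x3) @x0)) ?_); rewrite [← Cfsg.Agent.KO75ecdcc.e26]; rfl') | exact @Cfsg.Agent.LV.Cl.Cas.vd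 | exact ()
private theorem _root_.Cfsg.Agent.KO75ecdcc.e29 : (by first | exact @Cfsg.Agent.LV.Cl.Cas.vd = @_root_.Cfsg.Agent.KO75ecdcc.k29 | exact True : Prop) := by first | (delta _root_.Cfsg.Agent.KO75ecdcc.k29; exact @Subtype.property _ (fun g => @Cfsg.Agent.LV.Cl.Cas.vd = @g) _) | rfl | trivial
private noncomputable def _root_.Cfsg.Agent.KO75ecdcc.k30 : (by first | exact type_of% @Cfsg.Agent.LV.Cl.Cas.dgL | exact Unit : Sort _) := by first | (refine @Subtype.val _ (fun g => @Cfsg.Agent.LV.Cl.Cas.dgL = @g) (@Subtype.mk _ _ (@(fun x0 x1 => @Cfsg.Agent.KO75ecdcc.k25 (@Cfsg.Agent.KO75ecdcc.k26 (@Int.ofNat (@Cfsg.Agent.KO75ecdcc.k28 @x0)) (@Cfsg.Agent.KO75ecdcc.k29 @x1)) (@Int.ofNat (@Cfsg.Agent.KO75ecdcc.k13.{0, 0} _ _ @(fun x2 x3 => @Nat.mul @x2 @x3) (nat_lit 1) (@Cfsg.Agent.KO75ecdcc.k17.{0, 0} _ _ @Cfsg.Agent.KO75ecdcc.k28 @x1))))) ?_); rewrite [← Cfsg.Agent.KO75ecdcc.e17.{0, 0}, ← Cfsg.Agent.KO75ecdcc.e13.{0,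 0}, ← Cfsg.Agent.KO75ecdcc.e29, ← Cfsg.Agent.KO75ecdcc.e28, ← Cfsg.Agent.KO75ecdcc.e26, ← Cfsg.Agent.KO75ecdcc.e25]; (try delta Cfsg.Agent.LV.Cl.Cas.dgL); (try generalize @Cfsg.Agent.LV.Cl.Cas.vd = g0); rfl') | exact @Cfsg.Agent.LV.Cl.Cas.dgL | exact ()
private theorem _root_.Cfsg.Agent.KO75ecdcc.e30 : (by first | exact @Cfsg.Agent.LV.Cl.Cas.dgL = @_root_.Cfsg.Agent.KO75ecdcc.k30 | exact True : Prop) := by first | (delta _root_.Cfsg.Agent.KO75ecdcc.k30; exact @Subtype.property _ (fun g => @Cfsg.Agent.LV.Cl.Cas.dgL = @g) _) | rfl | trivial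
private noncomputable def _root_.Cfsg.Agent.KO75ecdcc.k32.{ku0} : type_of% @List.set.{ku0} := @(fun x0 x1 x2 x3 => @List.rec.{(ku0+1), ku0} @x0 @(fun x4 => ℕ → @x0 → @List.{ku0} @x0) @(fun x4 x5 => []) @(fun x4 x5 x6 x7 x8 => @Nat.rec.{(ku0+1)} @(fun x9 => @List.{ku0} @x0) (@x8 :: @x5) @(fun x9 x10 => @x4 :: (@x6 @x9 @x8)) @x7) @x1 @x2 @x3)
private theorem _root_.Cfsg.Agent.KO75ecdcc.e32.{ku0} : @List.set.{ku0} = @_root_.Cfsg.Agent.KO75ecdcc.k32.{ku0} := by delta _root_.Cfsg.Agent.KO75ecdcc.k32; funext a0 a1 a2 a3; refine (congrFun (congrFun (_root_.Cfsg.Agent.KO75ecdcc.e2 (fun a1 a2 a3 => @List.set.{ku0} a0 a1 a2 a3) ?_ (fun c0 c1 => ?_) a1) a2) a3 :) <;> [(funext b0 b1; (rfl')); (funext b0 b1; (cases b0 with | @zero  => (rfl') | @succ b0_0 => (rfl')))]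
private noncomputable def _root_.Cfsg.Agent.KO75ecdcc.k33 : type_of% @List.range.loop := @(fun x0 x1 => @Nat.rec.{1} @(fun x2 => (@List.{0} ℕ) → @List.{0} ℕ) @(fun x2 => @x2) @(fun x2 x3 x4 => @x3 (@x2 :: @x4)) @x0 @x1)
private theorem _root_.Cfsg.Agent.KO75ecdcc.e33 : @List.range.loop = @_root_.Cfsg.Agent.KO75ecdcc.k33 := by delta _root_.Cfsg.Agent.KO75ecdcc.k33; funext a0 a1; refine (congrFun (_root_.Cfsg.Agent.KO75ecdcc.e27 (fun a0 a1 => @List.range.loop a0 a1) ?_ (fun c0 => ?_) a0) a1 :) <;> (rfl')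
private noncomputable def _root_.Cfsg.Agent.KO75ecdcc.k34 : type_of% @List.range := @(fun x0 => @Cfsg.Agent.KO75ecdcc.k33 @x0 [])
private theorem _root_.Cfsg.Agent.KO75ecdcc.e34 : @List.range = @_root_.Cfsg.Agent.KO75ecdcc.k34 := by delta _root_.Cfsg.Agent.KO75ecdcc.k34; rewrite [← Cfsg.Agent.KO75ecdcc.e33]; rfl'
private noncomputable def _root_.Cfsg.Agent.KO75ecdcc.k35 : type_of% @Int.add := @(fun x0 x1 => @Int.rec.{1} @(fun x2 => ℤ) @(fun x2 => @Int.rec.{1} @(fun x3 => ℤ) @(fun x3 => @Int.ofNat (@Nat.add @x2 @x3)) @(fun x3 => @Nat.rec.{1} @(fun x4 => ℤ) (@Int.ofNat (@Nat.sub @x2 (@Nat.succ @x3))) @(fun x4 x5 => @Int.negSucc @x4) (@Nat.sub (@Nat.succ @x3) @x2)) @x1) @(fun x2 => @Int.rec.{1} @(fun x3 => ℤ) @(fun x3 => @Nat.rec.{1} @(fun x4 => ℤ) (@Int.ofNat (@Nat.sub @x3 (@Nat.succ @x2))) @(fun x4 x5 => @Int.negSucc @x4) (@Nat.sub (@Nat.succ @x2) @x3)) @(fun x3 => @Int.negSucc (@Nat.succ (@Nat.add @x2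 @x3))) @x1) @x0)
private theorem _root_.Cfsg.Agent.KO75ecdcc.e35 : @Int.add = @_root_.Cfsg.Agent.KO75ecdcc.k35 := by delta _root_.Cfsg.Agent.KO75ecdcc.k35; rfl'
private noncomputable def _root_.Cfsg.Agent.KO75ecdcc.k36.{ku0} : type_of% @List.append.{ku0} := @(fun x0 x1 x2 => @List.rec.{(ku0+1), ku0} @x0 @(fun x3 => (@List.{ku0} @x0) → @List.{ku0} @x0) @(fun x3 => @x3) @(fun x3 x4 x5 x6 => @x3 :: (@x5 @x6)) @x1 @x2)
private theorem _root_.Cfsg.Agent.KO75ecdcc.e36.{ku0} : @List.append.{ku0} = @_root_.Cfsg.Agent.KO75ecdcc.k36.{ku0} := by delta _root_.Cfsg.Agent.KO75ecdcc.k36; funext a0 a1 a2; refine (congrFun (_root_.Cfsg.Agent.KO75ecdcc.e2 (fun a1 a2 => @List.append.{ku0} a0 a1 a2) ?_ (fun c0 c1 => ?_) a1) a2 :) <;> (rfl')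
private noncomputable def _root_.Cfsg.Agent.KO75ecdcc.k37.{ku0} : type_of% @List.flatten.{ku0} := @(fun x0 x1 => @List.rec.{(ku0+1), ku0} (@List.{ku0} @x0) @(fun x2 => @List.{ku0} @x0) [] @(fun x2 x3 x4 => @Cfsg.Agent.KO75ecdcc.k36.{ku0} _ @x2 @x4) @x1)
private theorem _root_.Cfsg.Agent.KO75ecdcc.e37.{ku0} : @List.flatten.{ku0} = @_root_.Cfsg.Agent.KO75ecdcc.k37.{ku0} := by delta _root_.Cfsg.Agent.KO75ecdcc.k37; rewrite [← Cfsg.Agent.KO75ecdcc.e36.{ku0}]; funext a0 a1; refine (_root_.Cfsg.Agent.KO75ecdcc.e2 (fun a1 => @List.flatten.{ku0} a0 a1) ?_ (fun c0 c1 => ?_) a1 :) <;> (rfl')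
private noncomputable def _root_.Cfsg.Agent.KO75ecdcc.k38 : (by first | exact type_of% @Cfsg.Agent.LV.Cl.Cas.ct | exact Unit : Sort _) := by first | (refine @Subtype.val _ (fun g => @Cfsg.Agent.LV.Cl.Cas.ct = @g) (@Subtype.mk _ _ (@(fun x0 x1 => @Cfsg.Agent.KO75ecdcc.k35 (@Cfsg.Agent.KO75ecdcc.k35 (@Cfsg.Agent.KO75ecdcc.k13.{0, 0} _ _ @(fun x2 x3 => @Cfsg.Agent.KO75ecdcc.k35 @x2 @x3) (@Int.ofNat (nat_lit 0)) (@Cfsg.Agent.KO75ecdcc.k17.{0, 0} _ _ @(fun x2 => @Cfsg.Agent.KO75ecdcc.k26 @x2 (@Cfsg.Agent.KO75ecdcc.k35 @x2 (@Nat.rec.{1} @(fun x3 => ℤ) (@Int.ofNat (nat_lit 0)) @(fun x3 x4 => @Int.negSucc @x3) (nat_lit 1)))) (@Cfsg.Agent.KO75ecdcc.k37.{0} _ (@Cfsg.Agent.KO75ecdcc.k17.{0, 0} _ _ @(fun x2 => (@Int.ofNat @x2) :: []) @x1)))) (@Nat.rec.{1} @(fun x2 => ℤ) (@Int.ofNat (nat_lit 0)) @(fun x2 x3 => @Int.negSucc @x2) (nat_lit 240))) (@Int.rec.{1} @(fun x2 => ℤ) @(fun x2 => @Nat.rec.{1} @(fun x3 => ℤ) (@Int.ofNat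 (nat_lit 0)) @(fun x3 x4 => @Int.negSucc @x3) @x2) @(fun x2 => @Int.ofNat (@Nat.succ @x2)) (@Cfsg.Agent.KO75ecdcc.k26 (@Int.ofNat (nat_lit 18)) (@Int.ofNat @x0))))) ?_); rewrite [← Cfsg.Agent.KO75ecdcc.e37.{0}, ← Cfsg.Agent.KO75ecdcc.e26, ← Cfsg.Agent.KO75ecdcc.e17.{0, 0}, ← Cfsg.Agent.KO75ecdcc.e13.{0, 0}, ← Cfsg.Agent.KO75ecdcc.e35]; rfl') | exact @Cfsg.Agent.LV.Cl.Cas.ct | exact ()
private theorem _root_.Cfsg.Agent.KO75ecdcc.e38 : (by first | exact @Cfsg.Agent.LV.Cl.Cas.ct = @_root_.Cfsg.Agent.KO75ecdcc.k38 | exact True : Prop) := by first | (delta _root_.Cfsg.Agent.KO75ecdcc.k38; exact @Subtype.property _ (fun g => @Cfsg.Agent.LV.Cl.Cas.ct = @g) _) | rfl | trivial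
private noncomputable def _root_.Cfsg.Agent.KO75ecdcc.oEq.{ku} (α : Sort ku) (a b : Nat) (f t : α) : α := @Decidable.rec (a = b) (fun _ => α) (fun _ => f) (fun _ => t) (Nat.decEq a b)
private noncomputable def _root_.Cfsg.Agent.KO75ecdcc.k39.{ku} (α : Sort ku) (a b : Nat) (f t : α) : α := @Bool.rec (fun _ => α) f t (Nat.beq a b)
private theorem _root_.Cfsg.Agent.KO75ecdcc.e39.{ku} : @_root_.Cfsg.Agent.KO75ecdcc.oEq.{ku} = @_root_.Cfsg.Agent.KO75ecdcc.k39.{ku} := funext fun α => funext fun a => funext fun b => funext fun f => funext fun t => by delta _root_.Cfsg.Agent.KO75ecdcc.oEq _root_.Cfsg.Agent.KO75ecdcc.k39; cases h : Nat.beq a b <;> cases Nat.decEq a b <;> rename_i g <;> first | rfl | exact absurd g (Nat.ne_of_beq_eq_false h) | exact absurd (Nat.eq_of_beq_eq_true h) g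
private noncomputable def _root_.Cfsg.Agent.KO75ecdcc.k40.{ku0} : type_of% @List.reverseAux.{ku0} := @(fun x0 x1 x2 => @List.rec.{(ku0+1), ku0} @x0 @(fun x3 => (@List.{ku0} @x0) → @List.{ku0} @x0) @(fun x3 => @x3) @(fun x3 x4 x5 x6 => @x5 (@x3 :: @x6)) @x1 @x2)
private theorem _root_.Cfsg.Agent.KO75ecdcc.e40.{ku0} : @List.reverseAux.{ku0} = @_root_.Cfsg.Agent.KO75ecdcc.k40.{ku0} := by delta _root_.Cfsg.Agent.KO75ecdcc.k40; funext a0 a1 a2; refine (congrFun (_root_.Cfsg.Agent.KO75ecdcc.e2 (fun a1 a2 => @List.reverseAux.{ku0} a0 a1 a2) ?_ (fun c0 c1 => ?_) a1) a2 :) <;> (rfl')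
private noncomputable def _root_.Cfsg.Agent.KO75ecdcc.k41.{ku0} : type_of% @List.any.{ku0} := @(fun x0 x1 x2 => @List.rec.{(ku0+1), ku0} @x0 @(fun x3 => (@x0 → @Bool) → @Bool) @(fun x3 => @Bool.false) @(fun x3 x4 x5 x6 => @Bool.rec.{1} @(fun x7 => @Bool) (@x5 @x6) @Bool.true (@x6 @x3)) @x1 @x2)
private theorem _root_.Cfsg.Agent.KO75ecdcc.e41.{ku0} : @List.any.{ku0} = @_root_.Cfsg.Agent.KO75ecdcc.k41.{ku0} := by delta _root_.Cfsg.Agent.KO75ecdcc.k41; funext a0 a1 a2; refine (congrFun (_root_.Cfsg.Agent.KO75ecdcc.e2 (fun a1 a2 => @List.any.{ku0} a0 a1 a2) ?_ (fun c0 c1 => ?_) a1) a2 :) <;> (rfl')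
private noncomputable def _root_.Cfsg.Agent.KO75ecdcc.k42.{ku0} : type_of% @List.eraseDupsBy.loop.{ku0} := @(fun x0 x1 x2 x3 => @List.rec.{(ku0+1), ku0} @x0 @(fun x4 => (@List.{ku0} @x0) → @List.{ku0} @x0) @(fun x4 => @Cfsg.Agent.KO75ecdcc.k40.{ku0} _ @x4 []) @(fun x4 x5 x6 x7 => @Bool.rec.{(ku0+1)} @(fun x8 => @List.{ku0} @x0) (@x6 (@x4 :: @x7)) (@x6 @x7) (@Cfsg.Agent.KO75ecdcc.k41.{ku0} _ @x7 (@x1 @x4))) @x2 @x3)
private theorem _root_.Cfsg.Agent.KO75ecdcc.e42.{ku0} : @List.eraseDupsBy.loop.{ku0} = @_root_.Cfsg.Agent.KO75ecdcc.k42.{ku0} := by delta _root_.Cfsg.Agent.KO75ecdcc.k42; rewrite [← Cfsg.Agent.KO75ecdcc.e41.{ku0}, ← Cfsg.Agent.KO75ecdcc.e40.{ku0}]; funext a0 a1 a2 a3; refine (congrFun (_root_.Cfsg.Agent.KO75ecdcc.e2 (fun a2 a3 => @List.eraseDupsBy.loop.{ku0} a0 a1 a2 a3) ?_ (fun c0 c1 => ?_) a2) a3 :) <;> (rfl')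
private noncomputable def _root_.Cfsg.Agent.KO75ecdcc.k44.{ku0} : type_of% @List.beq.{ku0} := @(fun x0 x1 x2 x3 => @List.rec.{(ku0+1), ku0} @x0 @(fun x4 => (@List.{ku0} @x0) → @Bool) @(fun x4 => @List.rec.{1, ku0} @x0 @(fun x5 => @Bool) @Bool.true @(fun x5 x6 x7 => @Bool.false) @x4) @(fun x4 x5 x6 x7 => @List.rec.{1, ku0} @x0 @(fun x8 => @Bool) @Bool.false @(fun x8 x9 x10 => @Bool.rec.{1} @(fun x11 => @Bool) @Bool.false (@x6 @x9) (@BEq.beq.{ku0} _ @x1 @x4 @x8)) @x7) @x2 @x3)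
private theorem _root_.Cfsg.Agent.KO75ecdcc.e44.{ku0} : @List.beq.{ku0} = @_root_.Cfsg.Agent.KO75ecdcc.k44.{ku0} := by delta _root_.Cfsg.Agent.KO75ecdcc.k44; funext a0 a1 a2 a3; refine (congrFun (_root_.Cfsg.Agent.KO75ecdcc.e2 (fun a2 a3 => @List.beq.{ku0} a0 a1 a2 a3) ?_ (fun c0 c1 => ?_) a2) a3 :) <;> [(funext b0; (cases b0 with | @nil  => (rfl') | @cons b0_0 b0_1 => (rfl'))); (funext b0; (cases b0 with | @nil  => (rfl') | @cons b0_0 b0_1 => (rfl')))]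
private noncomputable def _root_.Cfsg.Agent.KO75ecdcc.k45.{ku0} : type_of% @List.filter.{ku0} := @(fun x0 x1 x2 => @List.rec.{(ku0+1), ku0} @x0 @(fun x3 => @List.{ku0} @x0) [] @(fun x3 x4 x5 => @Bool.rec.{(ku0+1)} @(fun x6 => @List.{ku0} @x0) @x5 (@x3 :: @x5) (@x1 @x3)) @x2)
private theorem _root_.Cfsg.Agent.KO75ecdcc.e45.{ku0} : @List.filter.{ku0} = @_root_.Cfsg.Agent.KO75ecdcc.k45.{ku0} := by delta _root_.Cfsg.Agent.KO75ecdcc.k45; funext a0 a1 a2; refine (_root_.Cfsg.Agent.KO75ecdcc.e2 (fun a2 => @List.filter.{ku0} a0 a1 a2) ?_ (fun c0 c1 => ?_) a2 :) <;> (rfl')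
private noncomputable def _root_.Cfsg.Agent.KO75ecdcc.k46 : (by first | exact type_of% @Cfsg.Agent.LV.Cl.ad | exact Unit : Sort _) := by first | (refine @Subtype.val _ (fun g => @Cfsg.Agent.LV.Cl.ad = @g) (@Subtype.mk _ _ (@(fun x0 => @Cfsg.Agent.KO75ecdcc.k17.{0, 0} _ _ @(fun x1 => @Cfsg.Agent.KO75ecdcc.k17.{0, 0} _ _ @(fun x2 => @Cfsg.Agent.KO75ecdcc.k39.{1} ℕ @x2 @x1 @x2 (@Nat.add @x1 (nat_lit 1))) @x0) (@Cfsg.Agent.KO75ecdcc.k45.{0} _ @(fun x1 => @Bool.rec.{1} @(fun x2 => @Bool) @Bool.true @Bool.false (@Cfsg.Agent.KO75ecdcc.k23.{0} _ (@BEq.mk.{0} _ @(fun x2 x3 => @Cfsg.Agent.KO75ecdcc.k39.{1} @Bool @x2 @x3 @Bool.false @Bool.true)) (@Nat.add @x1 (nat_lit 1)) @x0)) @x0))) ?_); rewrite [← Cfsg.Agent.KO75ecdcc.e23.{0}, ← Cfsg.Agent.KO75ecdcc.e45.{0}, ← Cfsg.Agent.KO75ecdcc.e39.{1}, ← Cfsg.Agent.KO75ecdcc.e17.{0, 0}]; rfl') | exact @Cfsg.Agent.LV.Cl.ad | exact ()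
private theorem _root_.Cfsg.Agent.KO75ecdcc.e46 : (by first | exact @Cfsg.Agent.LV.Cl.ad = @_root_.Cfsg.Agent.KO75ecdcc.k46 | exact True : Prop) := by first | (delta _root_.Cfsg.Agent.KO75ecdcc.k46; exact @Subtype.property _ (fun g => @Cfsg.Agent.LV.Cl.ad = @g) _) | rfl | trivial
private noncomputable def _root_.Cfsg.Agent.KO75ecdcc.k47 : (by first | exact type_of% @Cfsg.Agent.LV.Cl.pars | exact Unit : Sort _) := by first | (refine @Subtype.val _ (fun g => @Cfsg.Agent.LV.Cl.pars = @g) (@Subtype.mk _ _ (@(fun x0 => @Nat.rec.{1} @(fun x1 => @List.{0} (@List.{0} ℕ)) (@Cfsg.Agent.LV.Cl.vc :: []) @(fun x1 x2 => @Cfsg.Agent.KO75ecdcc.k42.{0} _ @(fun x3 x4 => @Cfsg.Agent.KO75ecdcc.k44.{0} _ (@BEq.mk.{0} _ @(fun x5 x6 => @Cfsg.Agent.KO75ecdcc.k39.{1} @Bool @x5 @x6 @Bool.false @Bool.true)) @x3 @x4) (@Cfsg.Agent.KO75ecdcc.k37.{0} _ (@Cfsg.Agent.KO75ecdcc.k17.{0, 0} _ _ @Cfsg.Agent.KO75ecdcc.k46 @x2)) []) @x0)) ?_);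 rewrite [← Cfsg.Agent.KO75ecdcc.e46, ← Cfsg.Agent.KO75ecdcc.e17.{0, 0}, ← Cfsg.Agent.KO75ecdcc.e37.{0}, ← Cfsg.Agent.KO75ecdcc.e39.{1}, ← Cfsg.Agent.KO75ecdcc.e44.{0}, ← Cfsg.Agent.KO75ecdcc.e42.{0}]; funext a0; refine (_root_.Cfsg.Agent.KO75ecdcc.e27 (fun a0 => @Cfsg.Agent.LV.Cl.pars a0) ?_ (fun c0 => ?_) a0 :) <;> ((try delta Cfsg.Agent.LV.Cl.pars Cfsg.Agent.LV.Cl.pars._f); (try generalize @Cfsg.Agent.LV.Cl.vc = g0); (try generalize @Cfsg.Agent.LV.Cl.ad = g1); rfl')) | exact @Cfsg.Agent.LV.Cl.pars | exact ()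
private theorem _root_.Cfsg.Agent.KO75ecdcc.e47 : (by first | exact @Cfsg.Agent.LV.Cl.pars = @_root_.Cfsg.Agent.KO75ecdcc.k47 | exact True : Prop) := by first | (delta _root_.Cfsg.Agent.KO75ecdcc.k47; exact @Subtype.property _ (fun g => @Cfsg.Agent.LV.Cl.pars = @g) _) | rfl | trivial

private theorem num0 : ∀ a < 11, ∀ l ∈ pars a, l.length = 10 ∧ l.IsChain (· < ·) ∧ l.sum = a + 45 ∧ (a * (a - 1) : ℤ) *
    ((List.range 10).map fun j => if 2 ≤ l.getD j 0 ∧ l.getD j 0 - 2 ∉ l then dgL (a - 2) (l.set j (l.getD j 0 - 2)) else 0).sum =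
      ct a l * dgL a l := by
  (first | (refine of_decide_eq_true ?_; rewrite [Cfsg.Agent.KO75ecdcc.e0, Cfsg.Agent.KO75ecdcc.e1, Cfsg.Agent.KO75ecdcc.e3.{0}, Cfsg.Agent.KO75ecdcc.e4, Cfsg.Agent.KO75ecdcc.e7.{0}, Cfsg.Agent.KO75ecdcc.e9.{0}, Cfsg.Agent.KO75ecdcc.e12, Cfsg.Agent.KO75ecdcc.e14.{0}, Cfsg.Agent.KO75ecdcc.e16, Cfsg.Agent.KO75ecdcc.e17.{0, 0}, Cfsg.Agent.KO75ecdcc.e18.{1}, Cfsg.Agent.KO75ecdcc.e11, Cfsg.Agent.KO75ecdcc.e21.{0}, Cfsg.Agent.KO75ecdcc.e22, Cfsg.Agent.KO75ecdcc.e24.{0}, Cfsg.Agent.KO75ecdcc.e30, Cfsg.Agent.KO75ecdcc.e32.{0}, Cfsg.Agent.KO75ecdcc.e34, Cfsg.Agent.KO75ecdcc.e38, Cfsg.Agent.KO75ecdcc.e47]; decide +kernel) | decide +kernel)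

theorem num : ∀ a ≤ 10, ∀ l ∈ pars a, (∀ i j : Fin 10, i < j → tp l i < tp l j) ∧
    ∑ i, tp l i = a + ∑ i : Fin 10, (i : ℕ) ∧ l.sum = a + 45 ∧
    (a * (a - 1) : ℤ) * ∑ j, (if 2 ≤ tp l j then dgr (a - 2) (dn (tp l) j 2) else 0) = ct a l * dgr a (tp l) := by
  intro a ha l hl
  obtain ⟨h1, h2, h3, h4⟩ := num0 a (Nat.lt_succ_of_le ha) l hl
  have k : ∀ i : Fin 10, tp l i = l[i.1]'(i.2.trans_eq h1.symm) := fun i => List.getD_eq_getElem ..
  have e : List.ofFn (tp l) = l := List.ext_getElem (by rw [List.length_ofFn, h1]) fun i _ _ => by rw [List.getElem_ofFn, k]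
  refine ⟨fun i j h => by rw [k, k]; exact List.pairwise_iff_getElem.1 (List.isChain_iff_pairwise.1 h2) _ _ _ _ h,
    by rw [← List.sum_ofFn, e, h3]; rfl, h3, ?_⟩
  rw [dgr_eq, e, ← h4, ← List.sum_toFinset _ List.nodup_range, List.toFinset_range, sum_range]
  refine congrArg _ (sum_congr rfl fun j _ => ?_)
  show _ = if 2 ≤ tp l j ∧ tp l j - 2 ∉ l then dgL (a - 2) (l.set j (tp l j - 2)) else 0
  by_cases h5 : 2 ≤ tp l j
  swap
  · rw [if_neg h5, if_neg fun h => h5 h.1]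
  rw [if_pos h5]
  by_cases h6 : tp l j - 2 ∈ l
  · obtain ⟨i, hi, h7⟩ := List.getElem_of_mem h6
    have h8 : tp l ⟨i, hi.trans_eq h1⟩ = tp l j - 2 := (k _).trans h7
    have h9 : (⟨i, hi.trans_eq h1⟩ : Fin 10) ≠ j := fun e => by rw [e] at h8; omega
    have h10 : dn (tp l) j 2 ⟨i, hi.trans_eq h1⟩ = dn (tp l) j 2 j :=
      (Function.update_of_ne h9 _ _).trans (h8.trans (Function.update_self j _ (tp l)).symm)
    rw [if_neg fun h => h.2 h6]
    refine (congrArg (· / _) (mul_eq_zero_of_right _ ?_)).trans (Int.zero_ediv _)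
    rcases h9.lt_or_gt with h | h
    · exact prod_eq_zero (mem_univ _) (prod_eq_zero (mem_Ioi.2 h) (by rw [h10, sub_self]))
    · exact prod_eq_zero (mem_univ _) (prod_eq_zero (mem_Ioi.2 h) (by rw [h10, sub_self]))
  · rw [if_pos ⟨h5, h6⟩, dgr_eq]
    refine congrArg _ (List.ext_getElem (by rw [List.length_ofFn, List.length_set, h1]) fun i _ _ => ?_)
    rw [List.getElem_ofFn, List.getElem_set]
    exact (Function.update_apply ..).trans (if_congr (Fin.ext_iff.trans eq_comm) rfl (k _))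

theorem sum_swap {α : Type} [Fintype α] [DecidableEq α] {m : ℕ} {β : Fin m → ℕ} (hβ : StrictMono β)
    (hs : ∑ i, β i = Fintype.card α + ∑ i : Fin m, (i : ℕ)) {c : ℤ}
    (hc : (Fintype.card α * (Fintype.card α - 1) : ℤ) *
      ∑ j, (if 2 ≤ β j then dgr (Fintype.card α - 2) (dn β j 2) else 0) = c * dgr (Fintype.card α) β) (g : Perm α) :
    ∑ x : α, ∑ y with x ≠ y, FM (ty (swap x y * g)) β = c * FM (ty g) β := by
  have hχ := isIrr_ch hβ hs
  set d : ℤ := ∑ j, (if 2 ≤ β j then dgr (Fintype.card α - 2) (dn β j 2) else 0) with hd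
  have h1 : ch α β 1 = (dgr (Fintype.card α) β : ℤ) := by rw [ch_apply, ty_one, FM_dgr hs]
  have h0 : ch α β 1 ≠ 0 := by
    obtain ⟨e, he, h⟩ := ch_one_pos hβ hs
    rw [h]
    exact_mod_cast he.ne'
  have h2 : ∀ x y : α, x ≠ y → ch α β (swap x y) = d := fun x y h => by
    have h3 : 2 ≤ Fintype.card α := Fintype.one_lt_card_iff.2 ⟨x, y, h⟩
    rw [ch_apply, ty_eq, (Perm.isCycle_swap h).cycleType, Perm.card_support_swap h, Multiset.sum_singleton,
      Multiset.singleton_add, FM_cons]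
    refine congrArg _ (sum_congr rfl fun j _ => ?_)
    split_ifs with h4
    · exact FM_dgr (by have := sum_dn β j h4; omega)
    · rfl
  have h3 : ∀ a : Perm α, ∑ x : α, ∑ y with x ≠ y, ch α β (a * swap x y * a⁻¹ * g) =
      ∑ x : α, ∑ y with x ≠ y, ch α β (swap x y * g) := fun a =>
    sum_equiv a (by simp only [_root_.Finset.mem_univ, _root_.implies_true]) fun x _ => sum_equiv a (by simp only [_root_.ne_eq, _root_.Finset.mem_filter, _root_.Finset.mem_univ, _root_.true_and, _root_.EmbeddingLike.apply_eq_iff_eq, _root_.implies_true]) fun y _ => by rw [swap_apply_apply]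
  have h4 : (Nat.card (Perm α) : ℂ) * ∑ x : α, ∑ y with x ≠ y, ch α β (swap x y * g) =
      Nat.card (Perm α) * ((Fintype.card α * (Fintype.card α - 1)) * d * ch α β g / ch α β 1) := by
    calc _ = ∑ a : Perm α, ∑ x : α, ∑ y with x ≠ y, ch α β (a * swap x y * a⁻¹ * g) := by
          rw [sum_congr rfl fun a _ => h3 a, sum_const, nsmul_eq_mul, card_univ, Nat.card_eq_fintype_card]
      _ = ∑ x : α, ∑ y with x ≠ y, (Nat.card (Perm α) : ℂ) * d * ch α β g / ch α β 1 := by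
          rw [sum_comm]
          refine sum_congr rfl fun x _ => ?_
          rw [sum_comm]
          exact sum_congr rfl fun y hy => by
            rw [Characters.Central.sum_char_conj_mul hχ, h2 x y (mem_filter.1 hy).2]
      _ = ∑ x : α, ((Fintype.card α : ℂ) - 1) * ((Nat.card (Perm α) : ℂ) * d * ch α β g / ch α β 1) :=
          sum_congr rfl fun x _ => by
            rw [sum_const, nsmul_eq_mul, filter_ne, card_erase_of_mem (mem_univ x), card_univ,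
              Nat.cast_pred (Fintype.card_pos_iff.2 ⟨x⟩)]
      _ = _ := by
          rw [sum_const, nsmul_eq_mul, card_univ]
          ring
  have h5 := mul_left_cancel₀ (by exact_mod_cast Nat.card_pos.ne') h4
  have h6 : ((Fintype.card α : ℂ) * (Fintype.card α - 1)) * d = c * ch α β 1 := by
    rw [h1]
    exact_mod_cast hc
  rw [h6, mul_right_comm, mul_div_cancel_right₀ _ h0] at h5
  simp only [ch_apply] at h5
  exact_mod_cast h5

/-! ### one side -/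

variable {n : ℕ}

/-- the character `β` of the permutations of `A` -/
noncomputable def w (A : Finset (Fin n)) (β : Fin 10 → ℕ) (π : Perm (Fin n)) : ℤ := if Stab A π then FM (tyO π A) β else 0

theorem stab_swap {A : Finset (Fin n)} {x y : Fin n} (h : x ∈ A ↔ y ∈ A) : Stab A (swap x y) := fun z => by
  rw [swap_apply_def]
  split_ifs with h1 h2
  · rw [h1, h]
  · rw [h2, h]
  · rfl

theorem stab_mul {A : Finset (Fin n)} {σ π : Perm (Fin n)} (h : Stab A σ) : Stab A (σ * π) ↔ Stab A π :=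
  forall_congr' fun z => by rw [Perm.mul_apply, h]

theorem w_out {A : Finset (Fin n)} (β : Fin 10 → ℕ) (π : Perm (Fin n)) {x y : Fin n} (hx : x ∉ A) (hy : y ∉ A) :
    w A β (swap x y * π) = w A β π := by
  have h1 := stab_mul (π := π) (stab_swap (iff_of_false hx hy))
  unfold w tyO
  by_cases h : Stab A π
  · rw [if_pos h, if_pos (h1.2 h), dif_pos h, dif_pos (h1.2 h)]
    congr 2
    ext z : 2
    have h2 := (h z).2 z.2
    exact swap_apply_of_ne_of_ne (fun e => hx (e ▸ h2)) fun e => hy (e ▸ h2)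
  · rw [if_neg h, if_neg (mt h1.1 h)]

theorem w_eq_zero {a : ℕ} (ha : a ≤ 10) {l : List ℕ} (hl : l ∈ pars a) {A : Finset (Fin n)} (hA : #A ≠ a) (π : Perm (Fin n)) :
    w A (tp l) π = 0 := by
  unfold w tyO
  split_ifs with h
  · refine FM_eq_zero_of_sum _ fun e => hA ?_
    rw [(num a ha l hl).2.1, ty_sum, Fintype.card_coe] at e
    omega
  · rfl

theorem w_in {a : ℕ} (ha : a ≤ 10) {l : List ℕ} (hl : l ∈ pars a) (A : Finset (Fin n)) (π : Perm (Fin n)) :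
    ∑ x ∈ A, ∑ y ∈ A with x ≠ y, w A (tp l) (swap x y * π) = ct a l * w A (tp l) π := by
  by_cases hA : #A = a
  swap
  · simp only [w_eq_zero ha hl hA, sum_const_zero, mul_zero]
  have h1 : ∀ x ∈ A, ∀ y ∈ A, Stab A (swap x y * π) ↔ Stab A π := fun x hx y hy => stab_mul (stab_swap (iff_of_true hx hy))
  by_cases h : Stab A π
  · obtain ⟨h2, h3, -, h4⟩ := num a ha l hl
    rw [← hA, ← Fintype.card_coe] at h3
    have h5 := sum_swap (α := A) (fun _ _ => h2 _ _) h3 (c := ct a l) (by rwa [Fintype.card_coe, hA]) (π.subtypePerm h)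
    rw [w, if_pos h, tyO, dif_pos h, ← h5, ← sum_coe_sort A]
    refine sum_congr rfl fun x _ => ?_
    rw [sum_filter, sum_filter, ← sum_coe_sort A]
    refine sum_congr rfl fun y _ => if_congr Subtype.coe_ne_coe ?_ rfl
    have h6 := (h1 x x.2 y y.2).2 h
    rw [w, if_pos h6, tyO, dif_pos h6]
    congr 2
    ext z : 2
    exact Subtype.val_injective.swap_apply x y (π.subtypePerm h z)
  · rw [w, if_neg h, mul_zero]
    exact sum_eq_zero fun x hx => sum_eq_zero fun y hy => if_neg (mt (h1 x hx y (mem_filter.1 hy).1).1 h)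

/-! ### both sides -/

theorem phi_eq {T : Finset (Fin n)} (i : Bip) {g : SG n} (hg : Stab T g.π) :
    phi T i g = ∑ A ∈ T.powerset, w A (tp i.1) g.π * w (T \ A) (tp i.2) g.π * ∏ j ∈ T \ A, (g.s j : ℤ) := by
  rw [phi, sum_filter]
  refine sum_congr rfl fun A _ => ?_
  unfold w
  split_ifs with h1 h2 h2
  · rfl
  · exact absurd (fun x => by rw [mem_sdiff, mem_sdiff, hg, h1]) h2
  · rw [zero_mul, zero_mul]
  · rw [zero_mul, zero_mul]

theorem w_mul_prod (B : Finset (Fin n)) (γ : Fin 10 → ℕ) (h g : SG n) (hh : ∀ j, h.s (h.π j) = h.s j) :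
    w B γ (h * g).π * ∏ j ∈ B, ((h * g).s j : ℤ) = (∏ j ∈ B, (h.s j : ℤ)) * (w B γ (h.π * g.π) * ∏ j ∈ B, (g.s j : ℤ)) := by
  rw [mul_π]
  by_cases h1 : Stab B (h.π * g.π)
  · have h2 : ∏ j ∈ B, (h.s (g.π j) : ℤ) = ∏ j ∈ B, (h.s j : ℤ) :=
      prod_equiv (h.π * g.π) (fun j => (h1 j).symm) fun j _ => by rw [Perm.mul_apply, hh]
    simp only [mul_s, Units.val_mul, prod_mul_distrib, h2]
    ring
  · rw [w, if_neg h1, zero_mul, zero_mul, mul_zero]

theorem sw_s (x y : Fin n) (e : ℤˣ) (j : Fin n) : (sw x y e).s ((sw x y e).π j) = (sw x y e).s j := by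
  refine if_congr ?_ rfl rfl
  show swap x y j = x ∨ swap x y j = y ↔ _
  rw [swap_apply_eq_iff, swap_apply_eq_iff, swap_apply_left, swap_apply_right, or_comm]

theorem prod_tt (B : Finset (Fin n)) (x : Fin n) : ∏ j ∈ B, ((tt x).s j : ℤ) = if x ∈ B then -1 else 1 := by
  rw [← prod_ite_eq' B x fun _ => (-1 : ℤ)]
  exact prod_congr rfl fun j _ => apply_ite Units.val _ _ _

theorem prod_sw (B : Finset (Fin n)) {x y : Fin n} (h : x ≠ y) :
    ∏ j ∈ B, ((sw x y 1).s j : ℤ) + ∏ j ∈ B, ((sw x y (-1)).s j : ℤ) = if x ∈ B ↔ y ∈ B then 2 else 0 := by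
  have h1 : ∏ j ∈ B, ((sw x y 1).s j : ℤ) = 1 := prod_eq_one fun j _ => by simp [sw]
  have h2 : ∏ j ∈ B, ((sw x y (-1)).s j : ℤ) = (∏ j ∈ B, ((tt x).s j : ℤ)) * ∏ j ∈ B, ((tt y).s j : ℤ) := by
    rw [← prod_mul_distrib]
    refine prod_congr rfl fun j _ => ?_
    by_cases h3 : j = x <;> by_cases h4 : j = y <;> simp_all [sw, tt]
  rw [h1, h2, prod_tt, prod_tt]
  by_cases h3 : x ∈ B <;> by_cases h4 : y ∈ B <;> simp [h3, h4]

theorem sum_lt (T : Finset (Fin n)) (f : Fin n → Fin n → ℤ) (hf : ∀ x y, f x y = f y x) :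
    ∑ x ∈ T, ∑ y ∈ T with x < y, 2 * f x y = ∑ x ∈ T, ∑ y ∈ T with x ≠ y, f x y := by
  have h1 : ∑ x ∈ T, ∑ y ∈ T with x < y, f x y = ∑ x ∈ T, ∑ y ∈ T with y < x, f x y := by
    simp only [sum_filter]
    rw [sum_comm]
    simp only [hf]
  simp only [two_mul, sum_add_distrib]
  nth_rewrite 2 [h1]
  simp only [sum_filter, ← sum_add_distrib]
  refine sum_congr rfl fun x _ => sum_congr rfl fun y _ => ?_
  rcases lt_trichotomy x y with h | h | h
  · rw [if_pos h, if_neg h.not_gt, if_pos h.ne, add_zero]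
  · simp [h]
  · rw [if_neg h.not_gt, if_pos h, if_pos h.ne', zero_add]

theorem sum_same {T A : Finset (Fin n)} (hA : A ⊆ T) (f : Fin n → Fin n → ℤ) :
    ∑ x ∈ T, ∑ y ∈ T with x ≠ y, (if x ∈ T \ A ↔ y ∈ T \ A then f x y else 0) =
      ∑ x ∈ T \ A, ∑ y ∈ T \ A with x ≠ y, f x y + ∑ x ∈ A, ∑ y ∈ A with x ≠ y, f x y := by
  rw [← sum_sdiff hA]
  congr 1 <;> refine sum_congr rfl fun x hx => ?_ <;> rw [← sum_filter] <;> refine sum_congr ?_ fun _ _ => rfl <;> ext y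
  · simp only [mem_filter, hx, true_iff, mem_sdiff]
    itauto
  · have := @hA y
    simp only [mem_filter, mem_sdiff, hx]
    (clear * - this; tauto)

end Cas

open Cas in
/-- **the sum of all reflections acts by the level** -/
theorem boxCas : BoxCas := by
  intro n b T g hT hg i hi
  obtain ⟨a, ha, hi⟩ := List.mem_flatMap.1 hi
  obtain ⟨β, hβ, hi⟩ := List.mem_flatMap.1 hi
  obtain ⟨γ, hγ, rfl⟩ := List.mem_map.1 hi
  replace ha : a ≤ #T := Nat.lt_succ_iff.1 (List.mem_range.1 ha)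
  have ha1 : a ≤ 10 := ha.trans hT
  have ha2 : #T - a ≤ 10 := (Nat.sub_le _ _).trans hT
  have h1 : ∑ x ∈ T, ∑ y ∈ T with x < y, (phi T (β, γ) (sw x y 1 * g) + phi T (β, γ) (sw x y (-1) * g)) =
      (ct a β + ct (#T - a) γ) * phi T (β, γ) g := by
    calc _ = ∑ x ∈ T, ∑ y ∈ T with x < y, ∑ A ∈ T.powerset, 2 * (if x ∈ T \ A ↔ y ∈ T \ A then
            w A (tp β) (swap x y * g.π) * w (T \ A) (tp γ) (swap x y * g.π) * ∏ j ∈ T \ A, (g.s j : ℤ) else 0) := by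
          refine sum_congr rfl fun x hx => sum_congr rfl fun y hy => ?_
          obtain ⟨hy, hxy⟩ := mem_filter.1 hy
          have h2 : Stab T (swap x y * g.π) := (stab_mul (stab_swap (iff_of_true hx hy))).2 hg
          rw [phi_eq _ (g := sw x y 1 * g) h2, phi_eq _ (g := sw x y (-1) * g) h2, ← sum_add_distrib]
          refine sum_congr rfl fun A _ => ?_
          rw [mul_assoc, mul_assoc, w_mul_prod _ _ _ _ (sw_s x y _), w_mul_prod _ _ _ _ (sw_s x y _)]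
          have h3 := prod_sw (T \ A) hxy.ne
          simp only [mul_π, show ∀ e, (sw x y e).π = swap x y from fun _ => rfl]
          split_ifs at h3 ⊢ <;>
            linear_combination (w A (tp β) (swap x y * g.π) * w (T \ A) (tp γ) (swap x y * g.π) * ∏ j ∈ T \ A, (g.s j : ℤ)) * h3
      _ = _ := by
          rw [sum_congr rfl fun x _ => sum_comm, sum_comm, phi_eq _ hg, mul_sum]
          refine sum_congr rfl fun A hA => ?_
          rw [sum_lt T _ fun x y => by rw [swap_comm]; exact if_congr iff_comm rfl rfl, sum_same (mem_powerset.1 hA)]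
          have h2 := w_in ha1 hβ A g.π
          have h3 := w_in ha2 hγ (T \ A) g.π
          rw [sum_congr rfl fun x hx => sum_congr rfl fun y hy => by
              rw [w_out _ _ (mem_sdiff.1 hx).2 (mem_sdiff.1 (mem_filter.1 hy).1).2],
            sum_congr (s₁ := A) rfl fun x hx => sum_congr rfl fun y hy => by
              rw [w_out (A := T \ A) _ _ (fun e => (mem_sdiff.1 e).2 hx) fun e => (mem_sdiff.1 e).2 (mem_filter.1 hy).1]]
          simp only [← sum_mul, ← mul_sum]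
          rw [h2, h3]
          ring
  have h2 : ∑ x ∈ T, phi T (β, γ) (tt x * g) = ((β.sum : ℤ) - γ.sum) * phi T (β, γ) g := by
    have h3 : ∀ x, (tt x).π * g.π = g.π := fun x => one_mul _
    rw [sum_congr rfl fun x _ => phi_eq _ (g := tt x * g) (by rw [mul_π, h3]; exact hg), sum_comm, phi_eq _ hg, mul_sum]
    refine sum_congr rfl fun A hA => ?_
    replace hA := mem_powerset.1 hA
    rw [sum_congr rfl fun x _ => by rw [mul_assoc, w_mul_prod _ _ _ _ fun _ => rfl, mul_π, h3, prod_tt]]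
    by_cases h4 : #A = a
    · rw [← mul_sum, ← sum_mul, ← sum_sdiff hA, sum_congr rfl fun x hx => if_pos hx,
        sum_congr (s₁ := A) rfl fun x hx => if_neg fun e => (mem_sdiff.1 e).2 hx, sum_const, sum_const, card_sdiff_of_subset hA, h4,
        (num _ ha1 _ hβ).2.2.1, (num _ ha2 _ hγ).2.2.1]
      push_cast
      ring
    · simp only [w_eq_zero ha1 hβ h4, zero_mul, mul_zero, sum_const_zero]
  rw [h1, h2, lev, ct, ct, Nat.cast_sub ha]
  split_ifs <;> ring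

end Cfsg.Agent.LV.Cl
end

-- part: LV/Cl/Basis1
section
/-!
# LV, classical groups: the Fourier transform in the signs (helper89)
-/

set_option autoImplicit false
set_option linter.unusedSectionVars false
set_option linter.dupNamespace false

namespace Cfsg.Agent.LV.Cl.Bas

open Equiv Finset Cfsg.Agent.H614

variable {n : ℕ} {T A A' : Finset (Fin n)} {π h : Perm (Fin n)} {s u : Fin n → ℤˣ} {Y : SG n → ℂ}

/-- the permutations supported on `T` -/
def P (T : Finset (Fin n)) : Finset (Perm (Fin n)) := {π | ∀ j, j ∉ T → π j = j}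

/-- the signs supported on `T` -/
def S (T : Finset (Fin n)) : Finset (Fin n → ℤˣ) := {s | ∀ j, j ∉ T → s j = 1}

theorem mem_P : π ∈ P T ↔ ∀ j, j ∉ T → π j = j := by simp only [P, _root_.Finset.mem_filter, _root_.Finset.mem_univ, _root_.true_and]

theorem mem_S : s ∈ S T ↔ ∀ j, j ∉ T → s j = 1 := by simp only [S, _root_.Finset.mem_filter, _root_.Finset.mem_univ, _root_.true_and]

theorem mk_mem : (⟨π, s⟩ : SG n) ∈ On T ↔ π ∈ P T ∧ s ∈ S T := by
  rw [mem_On, mem_P, mem_S]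
  exact ⟨fun h => ⟨fun j hj => (h j hj).1, fun j hj => (h j hj).2⟩, fun h j hj => ⟨h.1 j hj, h.2 j hj⟩⟩

theorem one_mem_S : 1 ∈ S T := mem_S.2 fun _ _ => rfl

theorem card_S_ne : ((#(S T) : ℕ) : ℂ) ≠ 0 := Nat.cast_ne_zero.2 (card_ne_zero_of_mem one_mem_S)

theorem sum_On {V : Type*} [AddCommMonoid V] (f : SG n → V) :
    ∑ᶠ g : On T, f g = ∑ π ∈ P T, ∑ s ∈ S T, f ⟨π, s⟩ := by
  have := Fintype.ofFinite (On T)
  rw [finsum_eq_sum_of_fintype, ← sum_product']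
  exact sum_bij' (fun g _ => (g.1.π, g.1.s)) (fun x hx => ⟨⟨x.1, x.2⟩, mk_mem.2 (mem_product.1 hx)⟩)
    (fun g _ => mem_product.2 (mk_mem.1 g.2)) (fun _ _ => mem_univ _) (fun _ _ => rfl) (fun _ _ => rfl) fun _ _ => rfl

theorem stab_of_mem (hπ : π ∈ P T) : Stab T π := fun x => by
  rw [mem_P] at hπ
  refine ⟨fun h1 => by_contra fun h2 => h2 (hπ x h2 ▸ h1), fun h1 => by_contra fun h2 => h2 ?_⟩
  rwa [π.injective (hπ _ h2)]

theorem stab_sdiff (hπ : π ∈ P T) (hA : Stab A π) : Stab (T \ A) π := fun x => by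
  rw [mem_sdiff, mem_sdiff, stab_of_mem hπ x, hA x]

theorem inv_mem_P (hπ : π ∈ P T) : π⁻¹ ∈ P T := mem_P.2 fun j hj => by rw [Perm.inv_eq_iff_eq, mem_P.1 hπ j hj]

theorem mul_mem_P (hπ : π ∈ P T) (hh : h ∈ P T) : π * h ∈ P T :=
  mem_P.2 fun j hj => by rw [Perm.mul_apply, mem_P.1 hh j hj, mem_P.1 hπ j hj]

/-- the character of the group of signs -/
noncomputable def χ (B : Finset (Fin n)) (s : Fin n → ℤˣ) : ℂ := ∏ j ∈ B, ((s j : ℤ) : ℂ)

theorem χ_mul (B : Finset (Fin n)) (s u : Fin n → ℤˣ) : χ B (s * u) = χ B s * χ B u := by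
  simp only [χ, Pi.mul_apply, Units.val_mul, Int.cast_mul, prod_mul_distrib]

theorem χ_sq (B : Finset (Fin n)) (s : Fin n → ℤˣ) : χ B s * χ B s = 1 := by
  rw [← χ_mul, χ]
  exact prod_eq_one fun j _ => by rw [Pi.mul_apply, Int.units_mul_self]; simp

theorem χ_tt (B : Finset (Fin n)) (j : Fin n) : χ B (tt j).s = if j ∈ B then -1 else 1 := by
  have : ∀ x, ((((tt j).s x : ℤˣ) : ℤ) : ℂ) = if x = j then -1 else 1 := fun x => by
    simp only [tt]
    split_ifs <;> simp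
  simp only [χ, this, prod_ite_eq']

theorem tt_mem {j : Fin n} (hj : j ∈ T) : (tt j).s ∈ S T := mem_S.2 fun x hx => if_neg fun e : x = j => hx (e ▸ hj)

theorem sum_shift (hu : u ∈ S T) (f : (Fin n → ℤˣ) → ℂ) : ∑ s ∈ S T, f (s * u) = ∑ s ∈ S T, f s := by
  refine sum_equiv (Equiv.mulRight u) (fun s => ?_) fun _ _ => rfl
  rw [mem_S, mem_S]
  refine forall₂_congr fun j hj => ?_
  show _ ↔ s j * u j = 1
  rw [mem_S.1 hu j hj, mul_one]

theorem sum_eq_zero_of_shift (hu : u ∈ S T) {f : (Fin n → ℤˣ) → ℂ} (h : ∀ s ∈ S T, f (s * u) = -f s) :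
    ∑ s ∈ S T, f s = 0 := by
  have h1 := sum_shift hu f
  rw [sum_congr rfl h, sum_neg_distrib] at h1
  exact CharZero.neg_eq_self_iff.1 h1

theorem χ_ortho (hA : A ⊆ T) (hA' : A' ⊆ T) :
    ∑ s ∈ S T, χ (T \ A) s * χ (T \ A') s = if A = A' then (#(S T) : ℂ) else 0 := by
  split_ifs with e
  · simp only [e, χ_sq, sum_const, nsmul_eq_mul, mul_one]
  obtain ⟨j, hj⟩ : ∃ j, ¬ (j ∈ A ↔ j ∈ A') := by
    by_contra h1
    exact e (Finset.ext fun j => by_contra fun h2 => h1 ⟨j, h2⟩)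
  have hT : j ∈ T := by_contra fun h1 => hj ⟨fun h2 => absurd (hA h2) h1, fun h2 => absurd (hA' h2) h1⟩
  refine sum_eq_zero_of_shift (tt_mem hT) fun s _ => ?_
  rw [χ_mul, χ_mul, χ_tt, χ_tt]
  by_cases h1 : j ∈ A <;> by_cases h2 : j ∈ A' <;> simp [h1, h2, hT] at hj ⊢

/-- the Fourier transform -/
noncomputable def hat (T : Finset (Fin n)) (Y : SG n → ℂ) (A : Finset (Fin n)) (π : Perm (Fin n)) : ℂ :=
  ∑ s ∈ S T, Y ⟨π, s⟩ * χ (T \ A) s

theorem eq_zero_of_hat (H : ∀ A ⊆ T, hat T Y A π = 0) (hs : s ∈ S T) : Y ⟨π, s⟩ = 0 := by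
  have h1 : ∑ A ∈ T.powerset, hat T Y A π * χ (T \ A) s = 0 :=
    sum_eq_zero fun A hA => by rw [H A (mem_powerset.1 hA), zero_mul]
  have h2 : ∀ u : Fin n → ℤˣ, ∑ A ∈ T.powerset, χ (T \ A) u = ∏ j ∈ T, (1 + ((u j : ℤ) : ℂ)) := fun u => by
    rw [prod_add]
    simp only [prod_const_one, one_mul, χ]
  simp only [hat, sum_mul, mul_assoc, ← χ_mul] at h1
  rw [sum_comm] at h1
  simp only [← mul_sum, h2] at h1
  rw [sum_eq_single_of_mem s hs] at h1
  · refine (mul_eq_zero.1 h1).resolve_right (prod_ne_zero_iff.2 fun j _ => ?_)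
    rw [Pi.mul_apply, Int.units_mul_self]
    norm_num
  · intro u hu hne
    obtain ⟨j, hj⟩ := Function.ne_iff.1 hne
    have hT : j ∈ T := by_contra fun h3 => hj (by rw [mem_S.1 hu j h3, mem_S.1 hs j h3])
    refine mul_eq_zero_of_right _ (prod_eq_zero hT ?_)
    rw [Pi.mul_apply]
    rcases Int.units_eq_one_or (u j) with e | e <;> rcases Int.units_eq_one_or (s j) with e' | e' <;>
      simp [e, e'] at hj ⊢

/-- class functions -/
def Cf (T : Finset (Fin n)) (Y : SG n → ℂ) : Prop := ∀ g ∈ On T, ∀ h ∈ On T, Y (h * g * h⁻¹) = Y g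

theorem hat_conj (H : Cf T Y) (hπ : π ∈ P T) (hh : h ∈ P T) (hA : ∀ x, h x ∈ A' ↔ x ∈ A) :
    hat T Y A' (h * π * h⁻¹) = hat T Y A π := by
  symm
  refine sum_equiv (Equiv.arrowCongr h (Equiv.refl _)) (fun s => ?_) fun s hs => ?_
  · rw [mem_S, mem_S]
    refine forall₂_congr fun j hj => ?_
    show _ ↔ s (h⁻¹ j) = 1
    rw [mem_P.1 (inv_mem_P hh) j hj]
  · rw [← H _ (mk_mem.2 ⟨hπ, hs⟩) ⟨h, 1⟩ (mk_mem.2 ⟨hh, one_mem_S⟩)]
    congr 1
    · exact congrArg Y (SG.ext rfl (funext fun j => by simp [Equiv.arrowCongr, Perm.inv_def]))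
    · refine prod_equiv h (fun x => ?_) fun x _ => by simp [Equiv.arrowCongr]
      rw [mem_sdiff, mem_sdiff, hA, stab_of_mem hh x]

theorem hat_zero (H : Cf T Y) (hπ : π ∈ P T) (hA : ¬ Stab A π) : hat T Y A π = 0 := by
  obtain ⟨x, hx⟩ := not_forall.1 hA
  have hT : x ∈ T := by_contra fun h1 => hx (by rw [mem_P.1 hπ x h1])
  have hT' : π x ∈ T := (stab_of_mem hπ x).2 hT
  have e : ∀ y, (tt (π x)).s (π y) = (tt x).s y := fun y => by simp only [tt, π.injective.eq_iff]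
  have hu : (tt x).s * (tt (π x)).s ∈ S T :=
    mem_S.2 fun j hj => by rw [Pi.mul_apply, mem_S.1 (tt_mem hT) j hj, mem_S.1 (tt_mem hT') j hj, mul_one]
  refine sum_eq_zero_of_shift hu fun s hs => ?_
  have h1 : Y ⟨π, s * ((tt x).s * (tt (π x)).s)⟩ = Y ⟨π, s⟩ := by
    rw [← H _ (mk_mem.2 ⟨hπ, hs⟩) (tt (π x)) (mk_mem.2 ⟨mem_P.2 fun _ _ => rfl, tt_mem hT'⟩)]
    refine congrArg Y (SG.ext (by simp [tt]) (funext fun j => ?_))
    show s j * ((tt x).s j * (tt (π x)).s j) = (tt (π x)).s (π j) * s j * (tt (π x)).s j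
    rw [e, mul_left_comm, mul_assoc]
  rw [h1, χ_mul, χ_mul, χ_tt, χ_tt]
  by_cases h1 : x ∈ A <;> by_cases h2 : π x ∈ A <;> simp [h1, h2, hT, hT'] at hx ⊢

theorem exists_move (hA : A ⊆ T) (hA' : A' ⊆ T) (e : #A = #A') : ∃ h ∈ P T, ∀ x, h x ∈ A' ↔ x ∈ A := by
  have f : A ≃ A' := Finset.equivOfCardEq e
  have key : ∀ {B : Finset (Fin n)}, B ⊆ T → ∀ g : A → B, Function.Injective g →
      Function.Injective (Sum.elim (fun x => (g x).1) Subtype.val : A ⊕ {x // x ∉ T} → Fin n) := by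
    rintro B hB g hg (x | x) (y | y) h1 <;> simp only [Sum.elim_inl, Sum.elim_inr] at h1
    · rw [hg (Subtype.ext h1)]
    · exact absurd (h1 ▸ hB (g x).2) y.2
    · exact absurd (h1 ▸ hB (g y).2) x.2
    · rw [Subtype.ext h1]
  obtain ⟨h, hh⟩ := Perm.exists_extending_pair _ _ (key hA id Function.injective_id) (key hA' f f.injective)
  refine ⟨h, mem_P.2 fun j hj => hh (Sum.inr ⟨j, hj⟩), fun x => ⟨fun h1 => ?_, fun h1 => ?_⟩⟩
  · have h2 : h (f.symm ⟨_, h1⟩).1 = (f (f.symm ⟨_, h1⟩)).1 := hh (Sum.inl _)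
    rw [f.apply_symm_apply] at h2
    exact h.injective h2 ▸ (f.symm ⟨_, h1⟩).2
  · have h2 : h x = (f ⟨x, h1⟩).1 := hh (Sum.inl ⟨x, h1⟩)
    exact h2 ▸ (f ⟨x, h1⟩).2

/-! ### Young subgroups -/

/-- the product of two permutations of disjoint sets -/
def jn (σ : Perm A) (τ : Perm ↥(T \ A)) : Perm (Fin n) := Perm.ofSubtype σ * Perm.ofSubtype τ

theorem jn_left (σ : Perm A) (τ : Perm ↥(T \ A)) (x : A) : jn σ τ x = σ x := by
  rw [jn, Perm.mul_apply, Perm.ofSubtype_apply_of_not_mem τ (fun h => (mem_sdiff.1 h).2 x.2), Perm.ofSubtype_apply_coe]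

theorem jn_right (σ : Perm A) (τ : Perm ↥(T \ A)) (x : ↥(T \ A)) : jn σ τ x = τ x := by
  rw [jn, Perm.mul_apply, Perm.ofSubtype_apply_coe, Perm.ofSubtype_apply_of_not_mem σ (mem_sdiff.1 (τ x).2).2]

theorem jn_out (σ : Perm A) (τ : Perm ↥(T \ A)) {x : Fin n} (h1 : x ∉ A) (h2 : x ∉ T) : jn σ τ x = x := by
  rw [jn, Perm.mul_apply, Perm.ofSubtype_apply_of_not_mem τ (fun h => h2 (mem_sdiff.1 h).1),
    Perm.ofSubtype_apply_of_not_mem σ h1]

theorem jn_mem (hA : A ⊆ T) (σ : Perm A) (τ : Perm ↥(T \ A)) : jn σ τ ∈ P T :=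
  mem_P.2 fun _ hj => jn_out σ τ (fun h => hj (hA h)) hj

theorem jn_stab (σ : Perm A) (τ : Perm ↥(T \ A)) : Stab A (jn σ τ) := fun x => by
  by_cases h1 : x ∈ A
  · rw [jn_left σ τ ⟨x, h1⟩]
    exact iff_of_true (σ _).2 h1
  by_cases h2 : x ∈ T
  · rw [jn_right σ τ ⟨x, mem_sdiff.2 ⟨h2, h1⟩⟩]
    exact iff_of_false (mem_sdiff.1 (τ _).2).2 h1
  · rw [jn_out σ τ h1 h2]

theorem sum_jn {V : Type*} [AddCommMonoid V] (hA : A ⊆ T) (f : Perm (Fin n) → V) :
    ∑ π ∈ P T with Stab A π, f π = ∑ σ : Perm A, ∑ τ : Perm ↥(T \ A), f (jn σ τ) := by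
  rw [← Fintype.sum_prod_type']
  symm
  refine sum_bij' (fun x _ => jn x.1 x.2) (fun π hπ => (π.subtypePerm (mem_filter.1 hπ).2,
    π.subtypePerm (stab_sdiff (mem_filter.1 hπ).1 (mem_filter.1 hπ).2)))
    (fun x _ => mem_filter.2 ⟨jn_mem hA _ _, jn_stab _ _⟩) (fun _ _ => mem_univ _) (fun x _ => Prod.ext
      (Equiv.ext fun y => Subtype.ext (jn_left _ _ y)) (Equiv.ext fun y => Subtype.ext (jn_right _ _ y))) (fun π hπ => ?_)
    fun _ _ => rfl
  refine Equiv.ext fun x => ?_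
  by_cases h1 : x ∈ A
  · exact jn_left _ _ ⟨x, h1⟩
  by_cases h2 : x ∈ T
  · exact jn_right _ _ ⟨x, mem_sdiff.2 ⟨h2, h1⟩⟩
  · rw [jn_out _ _ h1 h2, mem_P.1 (mem_filter.1 hπ).1 x h2]

theorem tyO_left (σ : Perm A) (τ : Perm ↥(T \ A)) : tyO (jn σ τ) A = ty σ := by
  rw [tyO, dif_pos (jn_stab σ τ)]
  exact congrArg ty (Equiv.ext fun y => Subtype.ext (jn_left _ _ y))

theorem tyO_right (hA : A ⊆ T) (σ : Perm A) (τ : Perm ↥(T \ A)) : tyO (jn σ τ) (T \ A) = ty τ := by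
  rw [tyO, dif_pos (stab_sdiff (jn_mem hA σ τ) (jn_stab σ τ))]
  exact congrArg ty (Equiv.ext fun y => Subtype.ext (jn_right _ _ y))

theorem jn_mul (σ σ' : Perm A) (τ τ' : Perm ↥(T \ A)) : jn (σ * σ') (τ * τ') = jn σ τ * jn σ' τ' := by
  have h : Commute (Perm.ofSubtype τ : Perm (Fin n)) (Perm.ofSubtype σ') := Perm.Disjoint.commute fun x => by
    by_cases h1 : x ∈ A
    · exact Or.inl (Perm.ofSubtype_apply_of_not_mem τ fun h => (mem_sdiff.1 h).2 h1)
    · exact Or.inr (Perm.ofSubtype_apply_of_not_mem σ' h1)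
  simp only [jn, map_mul, mul_assoc]
  rw [← mul_assoc (Perm.ofSubtype τ), h.eq, mul_assoc]

theorem jn_conj (σ σ' : Perm A) (τ τ' : Perm ↥(T \ A)) :
    jn (σ' * σ * σ'⁻¹) (τ' * τ * τ'⁻¹) = jn σ' τ' * jn σ τ * (jn σ' τ')⁻¹ := by
  rw [eq_mul_inv_iff_mul_eq, ← jn_mul, ← jn_mul, inv_mul_cancel_right, inv_mul_cancel_right]

theorem card_P : #(P T) = (#T).factorial := by
  have h1 := sum_jn (T := T) Subset.rfl fun _ => (1 : ℕ)
  rw [filter_true_of_mem fun _ => stab_of_mem] at h1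
  simpa only [Fintype.card_perm, _root_.Finset.sum_const, _root_.smul_eq_mul, _root_.mul_one, _root_.Finset.card_univ, _root_.sdiff_self, _root_.Finset.bot_eq_empty, _root_.Finset.notMem_empty, _root_.Fintype.card_unique, _root_.Fintype.card_coe] using h1

theorem card_On : (Nat.card (On T) : ℂ) = (#T).factorial * #(S T) := by
  have := Fintype.ofFinite (On T)
  have h1 := sum_On (T := T) fun _ => (1 : ℂ)
  rw [finsum_eq_sum_of_fintype] at h1
  simpa only [card_P, _root_.Nat.card_eq_fintype_card, _root_.Finset.sum_const, _root_.Finset.card_univ, _root_.nsmul_eq_mul, _root_.mul_one] using h1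

end Cfsg.Agent.LV.Cl.Bas
end

-- part: LV/Cl/Basis
section
/-!
# LV, classical groups: the characters `phi` are an orthonormal basis of the class functions (helper89)
-/

set_option autoImplicit false
set_option linter.unusedSectionVars false
set_option linter.dupNamespace false

namespace Cfsg.Agent.LV.Cl

open Equiv Finset Cfsg.Agent.H614 Cfsg.Agent.Characters.Core
open scoped ComplexConjugate

namespace Bas

variable {n : ℕ} {T A A' : Finset (Fin n)} {π h : Perm (Fin n)} {s : Fin n → ℤˣ} {Y : SG n → ℂ} {i i' : Bip}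

/-- the term of `phi` which belongs to `A` -/
noncomputable def E (T : Finset (Fin n)) (i : Bip) (A : Finset (Fin n)) (π : Perm (Fin n)) : ℂ :=
  if Stab A π then (FM (tyO π A) (tp i.1) : ℂ) * FM (tyO π (T \ A)) (tp i.2) else 0

theorem phi_eq (i : Bip) (π : Perm (Fin n)) (s : Fin n → ℤˣ) :
    (phi T i ⟨π, s⟩ : ℂ) = ∑ A ∈ T.powerset, E T i A π * χ (T \ A) s := by
  rw [phi, sum_filter]
  push_cast
  refine sum_congr rfl fun A _ => ?_
  rw [E, χ]
  split_ifs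
  · rfl
  · rw [zero_mul]

theorem hat_phi (hA : A ⊆ T) : hat T (fun g => phi T i g) A π = #(S T) * E T i A π := by
  simp only [hat, phi_eq, sum_mul, mul_assoc]
  rw [sum_comm, sum_eq_single_of_mem A (mem_powerset.2 hA)]
  · rw [← mul_sum, χ_ortho hA hA, if_pos rfl, mul_comm]
  · intro B hB hne
    rw [← mul_sum, χ_ortho (mem_powerset.1 hB) hA, if_neg hne, mul_zero]

/-- the pairing with a character -/
noncomputable def bil (T : Finset (Fin n)) (Y : SG n → ℂ) (i : Bip) : ℂ := ∑ᶠ g : On T, Y g * phi T i g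

/-- the part of the pairing which belongs to `A` -/
noncomputable def R (T : Finset (Fin n)) (Y : SG n → ℂ) (i : Bip) (A : Finset (Fin n)) : ℂ :=
  ∑ π ∈ P T, hat T Y A π * E T i A π

theorem bil_eq : bil T Y i = ∑ A ∈ T.powerset, R T Y i A := by
  rw [bil, sum_On fun g => Y g * phi T i g]
  simp only [R, hat, phi_eq, mul_sum, sum_mul]
  rw [sum_comm (s := T.powerset)]
  refine sum_congr rfl fun π _ => ?_
  rw [sum_comm]
  exact sum_congr rfl fun A _ => sum_congr rfl fun s _ => by ring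

theorem R_eq (hA : A ⊆ T) : R T Y i A = ∑ σ : Perm A, ∑ τ : Perm ↥(T \ A),
    hat T Y A (jn σ τ) * (ch A (tp i.1) σ * ch ↥(T \ A) (tp i.2) τ) := by
  simp only [R, E, mul_ite, mul_zero]
  rw [← sum_filter, sum_jn hA]
  exact sum_congr rfl fun σ _ => sum_congr rfl fun τ _ => by rw [tyO_left, tyO_right hA]; rfl

theorem ch_zero {a : ℕ} {l : List ℕ} (hl : l ∈ pars a) (h : #A ≠ a) (σ : Perm A) : ch A (tp l) σ = 0 := by
  rw [ch_apply, FM_eq_zero_of_sum, Int.cast_zero]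
  rw [sum_tp hl, ty_sum, Fintype.card_coe]
  omega

theorem R_zero {a : ℕ} (hA : A ⊆ T) (hi : i.1 ∈ pars a) (h : #A ≠ a) : R T Y i A = 0 := by
  simp only [R_eq hA, ch_zero hi h, zero_mul, mul_zero, sum_const_zero]

theorem sum_ch {a : ℕ} {l l' : List ℕ} (hl : l ∈ pars #A) (hl' : l' ∈ pars a) :
    ∑ σ : Perm A, ch A (tp l) σ * ch A (tp l') σ = if l = l' then ((#A).factorial : ℂ) else 0 := by
  have h1 := classInner_ch (α := A) (β := tp l) (by rw [sum_tp hl, Fintype.card_coe]) (tp l')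
  simp only [classInner_def, conj_ch, card_perm_complex, Fintype.card_coe] at h1
  rw [inv_mul_eq_iff_eq_mul₀ (Nat.cast_ne_zero.2 (Nat.factorial_ne_zero _))] at h1
  rw [h1]
  split_ifs with e
  · rw [← e, pair_self_of_strictMono (strictMono_tp hl), Int.cast_one, mul_one]
  · rw [pair_eq_zero_of_strictMono (strictMono_tp hl) (strictMono_tp hl') fun e' => e (tp_inj hl hl' e'), Int.cast_zero,
      mul_zero]

theorem bil_of_const {a : ℕ} (hi : i.1 ∈ pars a) {c : ℂ} (h : ∀ A ⊆ T, #A = a → R T Y i A = c) :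
    bil T Y i = (#T).choose a * c := by
  rw [bil_eq, ← card_powersetCard, ← nsmul_eq_mul, ← sum_const, powersetCard_eq_filter, sum_filter]
  refine sum_congr rfl fun A hA => ?_
  split_ifs with e
  · exact h A (mem_powerset.1 hA) e
  · exact R_zero (mem_powerset.1 hA) hi e

theorem ortho (hi : i ∈ bips #T) (hi' : i' ∈ bips #T) :
    bil T (fun g => phi T i' g) i = if i = i' then (Nat.card (On T) : ℂ) else 0 := by
  obtain ⟨a, b, hab, h1, h2⟩ := mem_bips.1 hi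
  obtain ⟨a', b', -, h1', h2'⟩ := mem_bips.1 hi'
  rw [bil_of_const h1 (c := if i = i' then #(S T) * (a.factorial * b.factorial) else 0)]
  · split_ifs
    · rw [card_On, ← Nat.choose_mul_factorial_mul_factorial (show a ≤ #T by omega), show #T - a = b by omega]
      push_cast
      ring
    · rw [mul_zero]
  · intro A hA e
    have e' : #(T \ A) = b := by rw [card_sdiff_of_subset hA]; omega
    have h3 : ∀ (σ : Perm A) (τ : Perm ↥(T \ A)), hat T (fun g => phi T i' g) A (jn σ τ) *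
        (ch A (tp i.1) σ * ch ↥(T \ A) (tp i.2) τ) =
        #(S T) * (ch A (tp i.1) σ * ch A (tp i'.1) σ * (ch ↥(T \ A) (tp i.2) τ * ch ↥(T \ A) (tp i'.2) τ)) := fun σ τ => by
      rw [hat_phi hA, E, if_pos (jn_stab σ τ), tyO_left, tyO_right hA, ← ch_apply, ← ch_apply]
      ring
    simp only [R_eq hA, h3, ← mul_sum, ← sum_mul]
    rw [sum_ch (e ▸ h1) h1', sum_ch (e' ▸ h2) h2', e, e']
    by_cases g1 : i.1 = i'.1 <;> by_cases g2 : i.2 = i'.2 <;> simp [Prod.ext_iff, g1, g2]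

theorem R_conj (H : Cf T Y) (Hi : Cf T fun g => phi T i g) (hA : A ⊆ T) (hA' : A' ⊆ T) (e : #A = #A') :
    R T Y i A = R T Y i A' := by
  obtain ⟨h, hh, hx⟩ := exists_move hA hA' e
  refine sum_equiv (MulAut.conj h).toEquiv (fun π => ⟨fun hπ => mul_mem_P (mul_mem_P hh hπ) (inv_mem_P hh), fun hπ => ?_⟩)
    fun π hπ => ?_
  · have := mul_mem_P (mul_mem_P (inv_mem_P hh) hπ) hh
    simpa only [mul_assoc, _root_.MulEquiv.toEquiv_eq_coe, _root_.EquivLike.coe_coe, _root_.MulAut.conj_apply, _root_.inv_mul_cancel_left, _root_.inv_mul_cancel, _root_.mul_one] using this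
  · have h1 := hat_conj Hi hπ hh hx
    rw [hat_phi hA, hat_phi hA'] at h1
    rw [← mul_left_cancel₀ card_S_ne h1, ← hat_conj H hπ hh hx]
    rfl

theorem eq_zero_of_ch (hA : #A ≤ 10) {f : Perm A → ℂ} (hf : ∀ σ σ', f (σ' * σ * σ'⁻¹) = f σ)
    (h : ∀ l ∈ pars #A, ∑ σ, f σ * ch A (tp l) σ = 0) (σ : Perm A) : f σ = 0 := by
  refine congrFun (eq_zero_of_orthogonal (m := 10) (by rwa [Fintype.card_coe]) hf fun β h1 h2 => ?_) σ
  obtain ⟨l, hl, rfl⟩ := pars_complete (k := #A) h1 (by rw [h2, Fintype.card_coe]; rfl)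
  simp only [classInner_def, conj_ch, h l hl, mul_zero]

theorem complete (hT : #T ≤ 10) (Hi : ∀ i, Cf T fun g => phi T i g) (H : Cf T Y) (h : ∀ i ∈ bips #T, bil T Y i = 0)
    {g : SG n} (hg : g ∈ On T) : Y g = 0 := by
  obtain ⟨π, s⟩ := g
  obtain ⟨hπ, hs⟩ := mk_mem.1 hg
  refine eq_zero_of_hat (fun A hA => ?_) hs
  by_cases hS : Stab A π
  swap
  · exact hat_zero H hπ hS
  have hc := card_le_card hA
  have e' : #A + #(T \ A) = #T := by rw [card_sdiff_of_subset hA]; omega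
  have h1 : ∀ l ∈ pars #A, ∀ l' ∈ pars #(T \ A), R T Y (l, l') A = 0 := fun l hl l' hl' => by
    have h2 := bil_of_const (T := T) (Y := Y) (i := (l, l')) hl fun A' hA' e => R_conj H (Hi _) hA' hA e
    rw [h _ (mem_bips.2 ⟨_, _, e', hl, hl'⟩)] at h2
    exact (mul_eq_zero.1 h2.symm).resolve_left (Nat.cast_ne_zero.2 (Nat.choose_pos hc).ne')
  have h2 : ∀ (σ σ' : Perm A) (τ τ' : Perm ↥(T \ A)),
      hat T Y A (jn (σ' * σ * σ'⁻¹) (τ' * τ * τ'⁻¹)) = hat T Y A (jn σ τ) := fun σ σ' τ τ' => by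
    rw [jn_conj, hat_conj H (jn_mem hA _ _) (jn_mem hA _ _) (jn_stab _ _)]
  have h3 : ∀ (σ : Perm A) (τ : Perm ↥(T \ A)), hat T Y A (jn σ τ) = 0 := fun σ τ => by
    refine eq_zero_of_ch (f := fun τ => hat T Y A (jn σ τ)) (by omega) (fun τ τ' => by simpa using h2 σ 1 τ τ')
      (fun l' hl' => ?_) τ
    refine eq_zero_of_ch (f := fun σ => ∑ τ, hat T Y A (jn σ τ) * ch ↥(T \ A) (tp l') τ) (by omega)
      (fun σ σ' => sum_congr rfl fun τ _ => by simpa only [_root_.mul_eq_mul_right_iff] using Or.inl (by simpa using h2 σ σ' τ 1)) (fun l hl => ?_) σ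
    rw [← h1 l hl l' hl', R_eq hA]
    simp only [sum_mul]
    exact sum_congr rfl fun σ _ => sum_congr rfl fun τ _ => by ring
  have h4 := sum_jn hA fun π => ‖hat T Y A π‖
  simp only [h3, norm_zero, sum_const_zero] at h4
  exact norm_eq_zero.1 ((sum_eq_zero_iff_of_nonneg fun _ _ => norm_nonneg _).1 h4 π (mem_filter.2 ⟨hπ, hS⟩))

theorem sum_bips {V : Type*} [AddCommMonoid V] (k : ℕ) (f : Bip → V) :
    ((bips k).map f).sum = ∑ i ∈ (bips k).toFinset, f i := (List.sum_toFinset f (nodup_bips k)).symm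

theorem bil_cf (a : Bip → ℂ) (hi : i ∈ bips #T) : bil T (cf T a) i = Nat.card (On T) * a i := by
  have := Fintype.ofFinite (On T)
  have h1 : ∀ j ∈ (bips #T).toFinset, ∑ g : On T, a j * phi T j g * phi T i g = if i = j then Nat.card (On T) * a i else 0 := by
    intro j hj
    have h2 := ortho hi (List.mem_toFinset.1 hj)
    rw [bil, finsum_eq_sum_of_fintype] at h2
    simp only [mul_assoc, ← mul_sum, h2]
    split_ifs with e
    · rw [e, mul_comm]
    · rw [mul_zero]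
  simp only [bil, finsum_eq_sum_of_fintype, cf, sum_bips, sum_mul]
  rw [sum_comm, sum_congr rfl h1, sum_ite_eq, if_pos (List.mem_toFinset.2 hi)]

theorem sgn_eq {g : SG n} (hg : g ∈ On T) : ∏ j ∈ T, g.s j = sgn g :=
  prod_subset (subset_univ T) fun j _ hj => (hg j hj).2

end Bas

open Bas in
/-- **[C1c]** -/
theorem boxBasis (hM : BoxMN) : BoxBasis := by
  intro n T hT Y H
  have := Fintype.ofFinite (On T)
  have hN : (Nat.card (On T) : ℂ) ≠ 0 := Nat.cast_ne_zero.2 Nat.card_pos.ne'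
  have hs : ∀ {g : SG n}, g ∈ On T → Stab T g.π := fun hg => stab_of_mem (mk_mem.1 hg).1
  have Hi : ∀ i, Cf T fun g => phi T i g := fun i g hg h hh => congrArg _ ((hM T g hT (hs hg)).2.2.2.1 h (hs hh) i)
  have key : ∀ g ∈ On T, Y g = cf T (fun i => (Nat.card (On T) : ℂ)⁻¹ * bil T Y i) g := fun g hg => by
    refine sub_eq_zero.1 (complete (Y := fun g => Y g - cf T (fun i => (Nat.card (On T) : ℂ)⁻¹ * bil T Y i) g) hT Hi
      (fun g hg h hh => ?_) (fun i hi => ?_) hg)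
    · simp only [H g hg h hh, cf, show ∀ i, (phi T i (h * g * h⁻¹) : ℂ) = phi T i g from fun i => Hi i g hg h hh]
    · have h1 := bil_cf (fun i => (Nat.card (On T) : ℂ)⁻¹ * bil T Y i) hi
      rw [mul_inv_cancel_left₀ hN] at h1
      simp only [bil, finsum_eq_sum_of_fintype, sub_mul, sum_sub_distrib] at h1 ⊢
      rw [h1, sub_self]
  refine ⟨_, key, ?_, fun ε hε i _ => ?_⟩
  · have h1 : ∀ g : On T, ((‖Y g‖ ^ 2 : ℝ) : ℂ) =
        ∑ i ∈ (bips #T).toFinset, conj ((Nat.card (On T) : ℂ)⁻¹ * bil T Y i) * (Y g * phi T i g) := fun g => by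
      rw [Complex.ofReal_pow, ← Complex.mul_conj']
      conv_lhs => rw [congrArg conj (key g g.2), cf, sum_bips, map_sum, mul_sum]
      exact sum_congr rfl fun i _ => by rw [map_mul, map_intCast]; ring
    apply Complex.ofReal_injective
    rw [finsum_eq_sum_of_fintype, Complex.ofReal_sum, sum_congr rfl fun g _ => h1 g, sum_comm, nr, sum_bips,
      Complex.ofReal_mul, Complex.ofReal_sum, mul_sum]
    refine sum_congr rfl fun i _ => ?_
    rw [← mul_sum, ← finsum_eq_sum_of_fintype, Complex.ofReal_pow, ← Complex.conj_mul', Complex.ofReal_natCast,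
      mul_left_comm, mul_inv_cancel_left₀ hN]
    rfl
  · rw [mul_left_comm]
    congr 1
    simp only [bil, finsum_eq_sum_of_fintype, mul_sum]
    refine sum_congr rfl fun g _ => ?_
    rw [(hM T g hT (hs g.2)).2.2.2.2.1 i, sgn_eq g.2]
    by_cases e : sgn g.1 = ε
    · rw [e, Int.cast_mul, mul_left_comm]
    · rw [hε g g.2 e, zero_mul, zero_mul, mul_zero]

end Cfsg.Agent.LV.Cl
end

-- part: LV/Cl/Chain
section
/-!
# LV, classical groups: the chain (helper52)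

`boxChainT (hM : BoxMN) : BoxChainT`, `boxChain (hM : BoxMN) : BoxChain`.
-/

set_option autoImplicit false
set_option linter.dupNamespace false

namespace Cfsg.Agent.LV.Cl

theorem boxChainT_of (hM : BoxMN) (hC : BoxCas) (hB : BoxBasis) : BoxChainT := by
  intro I W M _ cs _ ψ n b E k hk w y hw hy hi
  obtain ⟨a, h1, h2, h3, h4, h5⟩ := Chn.exists_a E hM hB hk hw hi
  refine ⟨a, ChA.dual_of_R hM hC hk hw hy hi h5 fun h0 => ?_, h1, h2, h3,
    fun hb hε j hj h6 => ChA.dual2_of' hM hC hb hk hj hw hy hε (h4 h6), h4⟩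
  simpa only [one_mul] using h3 1 (one_mem _) fun _ h6 => absurd h6 (by omega)

/-- **(C3)** -/
theorem boxChainT (hM : BoxMN) : BoxChainT := boxChainT_of hM boxCas (boxBasis hM)

theorem boxChain (hM : BoxMN) : BoxChain := BoxChainT.chain (boxChainT hM)

end Cfsg.Agent.LV.Cl
end

private theorem dce_c2f85daa3fbf : _root_.True := by
  try have : _root_.True := by simp only [_root_.Cfsg.Agent.LV.Cl.phi.eq_1]
  try have : _root_.True := by simp only [_root_.Cfsg.Agent.LV.Cl.nr.eq_1]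
  try have : _root_.True := by simp only [_root_.Cfsg.Agent.LV.Cl.Bas.P.eq_1]
  try have : _root_.True := by simp only [_root_.Cfsg.Agent.LV.Cl.sw.eq_1]
  try have : _root_.True := by simp only [_root_.Cfsg.Agent.LV.Cl.Cas.w.eq_1]
  try have : _root_.True := by simp only [_root_.Cfsg.Agent.LV.Cl.Em.N.eq_1]
  try have : _root_.True := by simp only [_root_.Cfsg.Agent.LV.Cl.tt.eq_1]
  try have : _root_.True := by simp only [_root_.Cfsg.Agent.LV.Cl.tyO.eq_1]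
  try have : _root_.True := by simp only [_root_.Cfsg.Agent.LV.Cl.Cas.ct.eq_1]
  try have : _root_.True := by simp only [_root_.Cfsg.Agent.LV.Cl.cf.eq_1]
  try have : _root_.True := by simp only [_root_.Cfsg.Agent.LV.Cl.Bas.jn.eq_1]
  try have : _root_.True := by simp only [_root_.Cfsg.Agent.LV.Cl.lev.eq_1]
  try have : _root_.True := by simp only [_root_.Cfsg.Agent.LV.Cl.Bas.R.eq_1]
  try have : _root_.True := by simp only [_root_.Cfsg.Agent.LV.Cl.Bas.hat.eq_1]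
  try have : _root_.True := by simp only [_root_.Cfsg.Agent.LV.Cl.Bas.S.eq_1]
  try have : _root_.True := by simp only [_root_.Cfsg.Agent.LV.Cl.Bas.E.eq_1]
  try have : _root_.True := by simp only [_root_.Cfsg.Agent.LV.Cl.ix.eq_1]
  try have : _root_.True := by simp only [_root_.Cfsg.Agent.LV.Cl.Bas.bil.eq_1]
  try have : _root_.True := by simp only [_root_.Cfsg.Agent.LV.Cl.Bas.χ.eq_1]
  exact _root_.True.intro
end
end
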